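import Cfsg.Agent.Lib.ZStar.SecondPrincipal
import Cfsg.Agent.Lib.ZStarPrimePower.UniqueInvolution
import Cfsg.Agent.Lib.Involution.Isolated
import Cfsg.Agent.Lib.Transfer.Isolated
import Cfsg.Agent.Lib.Blocks.Induced
import Cfsg.Agent.Lib.Frobenius.RepAux

/-!
# Glauberman's `Z*`-theorem

`zStar`: an isolated involution is central modulo `O(G)`, given the case where it is the only involution of a
Sylow `2`-subgroup (`ZStarPrimePower.UniqueInvolutionZStar`, i.e. Burnside and Brauer–Suzuki).
-/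

set_option autoImplicit false

open scoped ComplexConjugate

namespace Cfsg.Agent.ZStar

open Cfsg

universe u

variable {G : Type u} [Group G]

theorem isolated_subgroup {z : G} (hz : IsIsolatedInvolution z) (K : Subgroup G) (hzK : z ∈ K) :
    IsIsolatedInvolution (⟨z, hzK⟩ : K) := by
  refine ⟨by rw [← Subgroup.orderOf_coe]; exact hz.1, fun g hc => Subtype.ext (hz.2 g ?_)⟩
  exact congrArg Subtype.val hc

theorem isolated_map [Finite G] {z : G} (hz : IsIsolatedInvolution z) {H : Type*} [Group H] (f : G →* H)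
    (hf : Function.Surjective f) (hne : f z ≠ 1) : IsIsolatedInvolution (f z) := by
  have h2 : f z * f z = 1 := by rw [← map_mul, Transfer.sq_eq_one_of_isolated hz, map_one]
  refine ⟨Involution.orderOf_of_sq h2 hne, fun h hc => ?_⟩
  obtain ⟨g, rfl⟩ := hf h
  rw [← map_inv, ← map_mul, ← map_mul] at hc ⊢
  set z' := g * z * g⁻¹
  have h2' : f z' * f z' = 1 := by
    rw [← map_mul, Transfer.sq_eq_one_of_isolated (Transfer.isolated_conj hz g), map_one]
  have h3 : f (z * z') ^ 2 = 1 := by
    rw [sq, map_mul, show f z * f z' * (f z * f z') = f z * (f z' * f z) * f z' by group, ← hc.eq,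
      show f z * (f z * f z') * f z' = (f z * f z) * (f z' * f z') by group, h2, h2', one_mul]
  obtain ⟨j, hj⟩ := Odd.of_dvd_nat (Transfer.odd_orderOf_mul_conj hz g) (orderOf_map_dvd f (z * z'))
  have h4 : orderOf (f (z * z')) = 1 := by
    have := Nat.le_of_dvd two_pos (orderOf_dvd_of_pow_eq_one h3)
    omega
  rw [orderOf_eq_one_iff, map_mul] at h4
  exact (mul_left_cancel (h4.trans h2.symm))

/-- The inductive hypothesis. -/
def SmallerZStar (n : ℕ) : Prop :=
  ∀ (K : Type u) [Group K] [Finite K] (z : K), Nat.card K < n → IsIsolatedInvolution z →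
    ∀ g, z * g * z⁻¹ * g⁻¹ ∈ pPrimeCore 2 K

theorem card_lt_of_ne_top [Finite G] {K : Subgroup G} (h : K ≠ ⊤) : Nat.card K < Nat.card G :=
  lt_of_le_of_ne (Subgroup.card_le_card_group K) fun e => h (Subgroup.eq_top_of_card_eq K e)

theorem eq_one_of_odd_of_sq {x : G} (hodd : Odd (orderOf x)) (h : x ^ 2 = 1) : x = 1 := by
  obtain ⟨j, hj⟩ := hodd
  have := Nat.le_of_dvd two_pos (orderOf_dvd_of_pow_eq_one h)
  exact orderOf_eq_one_iff.1 (by omega)

/-- `Z*` when some involution other than `z` is central. -/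
theorem goal_of_center [Finite G] {z : G} (hz : IsIsolatedInvolution z)
    (hO : pPrimeCore 2 G = ⊥) (ih : SmallerZStar.{u} (Nat.card G)) {w : G}
    (hw : w ∈ Subgroup.center G) (hw2 : orderOf w = 2) : z ∈ Subgroup.center G := by
  by_cases hwz : w = z
  · exact hwz ▸ hw
  haveI : Fact (Nat.Prime 2) := ⟨Nat.prime_two⟩
  set W := Subgroup.zpowers w
  haveI : W.Normal := ⟨fun m hm g => by
    rwa [Subgroup.mem_center_iff.1 ((Subgroup.zpowers_le.2 hw) hm) g, mul_inv_cancel_right]⟩
  have hWcard : Nat.card W = 2 := by rw [Nat.card_zpowers, hw2]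
  have hWmem : ∀ x ∈ W, x = 1 ∨ x = w := by
    intro x hx
    obtain ⟨k, rfl⟩ := Subgroup.mem_zpowers_iff.1 hx
    rcases Int.even_or_odd k with ⟨l, hl⟩ | ⟨l, hl⟩
    · left; rw [hl, ← two_mul, zpow_mul, zpow_two, Involution.mul_self hw2, one_zpow]
    · right; rw [hl, zpow_add_one, zpow_mul, zpow_two, Involution.mul_self hw2, one_zpow, one_mul]
  let f := QuotientGroup.mk' W
  have hfz : f z ≠ 1 := fun h => by
    rcases hWmem z ((QuotientGroup.eq_one_iff z).1 h) with h | h
    · exact Involution.ne_one hz.1 h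
    · exact hwz h.symm
  have hlt : Nat.card (G ⧸ W) < Nat.card G := by
    rw [Subgroup.card_eq_card_quotient_mul_card_subgroup W, hWcard]
    exact lt_mul_of_one_lt_right Nat.card_pos (by norm_num)
  have hgoal := ih _ (f z) hlt (isolated_map hz f (QuotientGroup.mk'_surjective W) hfz)
  set L := (pPrimeCore 2 (G ⧸ W)).comap f
  haveI : L.Normal := Subgroup.Normal.comap (Cores.pPrimeCore_normal 2 _) f
  have hWL : W ≤ L := fun x hx => by
    show f x ∈ pPrimeCore 2 (G ⧸ W)
    rw [show f x = 1 from (QuotientGroup.eq_one_iff x).2 hx]; exact one_mem _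
  set W' := W.subgroupOf L
  have hW'card : Nat.card W' = 2 := (Nat.card_congr (Subgroup.subgroupOfEquivOfLe hWL).toEquiv).trans hWcard
  have hindex : W'.index = Nat.card (pPrimeCore 2 (G ⧸ W)) := by
    have hker : (f.subgroupComap (pPrimeCore 2 (G ⧸ W))).ker = W' := by
      ext x
      rw [MonoidHom.mem_ker, Subgroup.mem_subgroupOf]
      exact ⟨fun h => (QuotientGroup.eq_one_iff _).1 (congrArg Subtype.val h),
        fun h => Subtype.ext ((QuotientGroup.eq_one_iff _).2 h)⟩
    rw [← hker, Subgroup.index_ker, MonoidHom.range_eq_top.2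
      (MonoidHom.subgroupComap_surjective_of_surjective f _ (QuotientGroup.mk'_surjective W)),
      Subgroup.card_top]
  haveI : W'.Normal := Subgroup.normal_subgroupOf
  obtain ⟨K, hK⟩ := Subgroup.exists_right_complement'_of_coprime (N := W')
    (by rw [hW'card, hindex]; exact (Cores.coprime_card_pPrimeCore 2).symm)
  have hKn : K.Normal := by
    refine ⟨fun k hk l => ?_⟩
    obtain ⟨⟨a, b⟩, rfl⟩ := hK.2 l
    have hac : ∀ y : L, y * (a : L) = (a : L) * y := fun y =>
      Subtype.ext (Subgroup.mem_center_iff.1 ((Subgroup.zpowers_le.2 hw) (Subgroup.mem_subgroupOf.1 a.2)) y)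
    have : (a : L) * (b : L) * k * ((a : L) * (b : L))⁻¹ = (b : L) * k * (b : L)⁻¹ := by
      rw [show (a : L) * (b : L) * k * ((a : L) * (b : L))⁻¹
        = (a : L) * ((b : L) * k * (b : L)⁻¹) * (a : L)⁻¹ by group, ← hac, mul_inv_cancel_right]
    show (a : L) * (b : L) * k * ((a : L) * (b : L))⁻¹ ∈ K
    rw [this]
    exact K.mul_mem (K.mul_mem b.2 hk) (K.inv_mem b.2)
  have hKcard : Nat.card K = W'.index := by
    have h1 := hK.card_mul
    have h2 := W'.card_mul_index
    rw [← h1] at h2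
    exact (Nat.eq_of_mul_eq_mul_left Nat.card_pos h2).symm
  have hKbot : K = ⊥ := by
    have h1 : K ≤ pPrimeCore 2 L :=
      Cores.le_pPrimeCore hKn (by rw [hKcard, hindex]; exact Cores.coprime_card_pPrimeCore 2)
    have h2 := Subgroup.map_mono (f := L.subtype) h1
    rw [Cores.pPrimeCore_map_subtype, hO, bot_inf_eq] at h2
    exact (Subgroup.map_eq_bot_iff_of_injective K L.subtype_injective).1 (le_bot_iff.1 h2)
  have hLW : L ≤ W := by
    intro x hx
    obtain ⟨⟨a, b⟩, hab⟩ := hK.2 ⟨x, hx⟩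
    have hb : (b : L) = 1 := Subgroup.mem_bot.1 (hKbot ▸ b.2)
    have h1 : (a : L) * (b : L) = ⟨x, hx⟩ := hab
    rw [hb, mul_one] at h1
    have := Subgroup.mem_subgroupOf.1 a.2
    rwa [h1] at this
  refine Subgroup.mem_center_iff.2 fun g => ?_
  have hd : z * (g * z * g⁻¹) ∈ W := hLW (by
    show f (z * (g * z * g⁻¹)) ∈ pPrimeCore 2 (G ⧸ W)
    have := hgoal (f g)
    rw [← map_inv, ← map_inv, ← map_mul, ← map_mul, ← map_mul,
      Transfer.inv_eq_of_isolated hz] at this
    rwa [show z * (g * z * g⁻¹) = z * g * z * g⁻¹ by group])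
  have hd1 : z * (g * z * g⁻¹) = 1 := by
    refine eq_one_of_odd_of_sq (Transfer.odd_orderOf_mul_conj hz g) ?_
    rcases hWmem _ hd with h | h
    · rw [h, one_pow]
    · rw [h, sq, Involution.mul_self hw2]
  have h1 : g * z * g⁻¹ = z := by
    rw [mul_eq_one_iff_inv_eq, Transfer.inv_eq_of_isolated hz] at hd1
    exact hd1.symm
  exact mul_inv_eq_iff_eq_mul.1 h1

/-- The character identity behind `Z*`. -/
theorem apply_mul_apply [Finite G] {M : Ideal AlgInt} (hM : IsPModular 2 M) {z : G}
    (hz : IsIsolatedInvolution z) (hC : Subgroup.center G = ⊥) (ih : SmallerZStar.{u} (Nat.card G))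
    {t : G} (ht : orderOf t = 2) (htz : t ≠ z) (hct : Commute t z) {χ : IrrCharacter G}
    (hχ : χ ∈ principalBlock M G) :
    (χ : G → ℂ) z * (χ : G → ℂ) t = (χ : G → ℂ) 1 * (χ : G → ℂ) (z * t) := by
  classical
  haveI : Fact (Nat.Prime 2) := ⟨Nat.prime_two⟩
  have := Fintype.ofFinite G
  have hz2 := hz.1
  obtain ⟨P, hzP, hPC⟩ := Transfer.exists_sylow_le_centralizer_of_isolated hz
  have hiso : ∀ g : G, g * z * g⁻¹ ∈ P → g * z * g⁻¹ = z := fun g hg =>
    hz.2 g (Subgroup.mem_centralizer_singleton_iff.1 (hPC hg)).symm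
  set u := z * t with hu
  have huz : Commute z u := (Commute.refl z).mul_right hct.symm
  have hu1 : u ≠ 1 := fun h => htz (by
    rw [hu, mul_eq_one_iff_inv_eq, Involution.inv_eq hz2] at h
    exact h.symm)
  have hu2 : orderOf u = 2 := Involution.orderOf_of_sq (by
    rw [hu, show z * t * (z * t) = z * (t * z) * t by group, hct.eq, ← mul_assoc,
      Involution.mul_self hz2, one_mul, Involution.mul_self ht]) hu1
  set C := Subgroup.centralizer ({u} : Set G)
  have hCmem : ∀ x, x ∈ C ↔ Commute x u := fun x => Subgroup.mem_centralizer_singleton_iff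
  have hCtop : C ≠ ⊤ := by
    intro h
    refine hu1 (Subgroup.mem_bot.1 (hC ▸ Subgroup.mem_center_iff.2 fun g => ?_))
    exact ((hCmem g).1 (h ▸ Subgroup.mem_top g)).eq
  have hzC : z ∈ C := (hCmem z).2 huz
  have hgoal := ih C ⟨z, hzC⟩ (card_lt_of_ne_top hCtop) (isolated_subgroup hz C hzC)
  set O := (pPrimeCore 2 C).map C.subtype with hO
  have hOcard : ¬ 2 ∣ Nat.card O := by
    rw [hO, Subgroup.card_map_of_injective C.subtype_injective]
    exact Nat.prime_two.coprime_iff_not_dvd.1 (Cores.coprime_card_pPrimeCore 2).symm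
  have hOc : ∀ o ∈ O, Commute o u := by
    rintro _ ⟨o, -, rfl⟩
    exact (hCmem o).1 o.2
  have hOn : ∀ c, Commute c u → ∀ o ∈ O, c * o * c⁻¹ ∈ O := by
    rintro c hc _ ⟨o, ho, rfl⟩
    exact ⟨⟨c, (hCmem c).2 hc⟩ * o * ⟨c, (hCmem c).2 hc⟩⁻¹,
      (Cores.pPrimeCore_normal 2 C).conj_mem o ho _, rfl⟩
  have key : ∀ t', IsConj t t' → (χ : G → ℂ) (z * t') = (χ : G → ℂ) u := by
    intro t' htt'
    have ht' : orderOf t' = 2 := (Involution.orderOf_eq_of_isConj htt').symm.trans ht
    have hns : ¬ IsConj t' z := by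
      intro h
      obtain ⟨g, hg⟩ := isConj_iff.1 (htt'.trans h).symm
      exact htz (hg ▸ hz.2 g (hg.symm ▸ hct.symm))
    have h4 : orderOf (z * t') % 4 = 2 := by
      rw [← orderOf_inv, Involution.inv_mul_eq hz2 ht']
      exact Involution.mod_four_of_isolated P hz2 hzP hiso ht' hns
    set d := z * t' with hd
    obtain ⟨k, hk⟩ : ∃ k : ℕ, orderOf d = 2 * (2 * k + 1) := ⟨orderOf d / 4, by omega⟩
    have hdz : ∀ i : ℕ, z * d ^ i * z⁻¹ = (d ^ i)⁻¹ :=
      fun i => Involution.inverts_pow (Involution.inverts_mul_left hz2 ht') i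
    set e := d ^ (2 * k + 1) with he
    set v := d ^ (2 * k + 2) with hv
    have hee : e * e = 1 := by
      rw [he, ← pow_add, ← two_mul, ← hk, pow_orderOf_eq_one]
    have hev : e * v = d := by
      rw [he, hv, ← pow_add, show 2 * k + 1 + (2 * k + 2) = orderOf d + 1 by omega, pow_succ,
        pow_orderOf_eq_one, one_mul]
    have hvodd : Odd (orderOf v) := by
      refine Odd.of_dvd_nat (n := 2 * k + 1) ⟨k, rfl⟩ ?_
      rw [orderOf_dvd_iff_pow_eq_one, hv, ← pow_mul,
        show (2 * k + 2) * (2 * k + 1) = orderOf d * (k + 1) by rw [hk]; ring, pow_mul,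
        pow_orderOf_eq_one, one_pow]
    have hez : Commute e z := by
      have h1 := hdz (2 * k + 1)
      rw [← he, show e⁻¹ = e from inv_eq_of_mul_eq_one_right hee] at h1
      exact (mul_inv_eq_iff_eq_mul.1 h1).symm
    -- `z * e` is a conjugate of `t` commuting with `z`
    set t'' := z * e with ht''
    have ht''c : IsConj t t'' := by
      refine htt'.trans (isConj_iff.2 ⟨d ^ (-(k : ℤ)), ?_⟩)
      have h5 : t' = z * d := (Involution.left_mul_mul_left hz2 ht').symm
      rw [h5, ← mul_assoc, Involution.zpow_mul_left hz2 ht', ht'', he, neg_neg, mul_assoc z,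
        ← zpow_add_one, mul_assoc, ← zpow_neg, neg_neg, ← zpow_add, ← zpow_natCast]
      congr 2
      push_cast
      ring
    have ht''z : Commute t'' z := (Commute.refl z).mul_left hez
    obtain ⟨g, hg⟩ := isConj_iff.1 ht''c
    have hgz : Commute (g * z * g⁻¹) t'' := by
      rw [← hg]
      have := hct.symm.map (MulAut.conj g).toMonoidHom
      simpa [MulAut.conj_apply] using this
    obtain ⟨h, hh, hhz⟩ := Involution.exists_conj_of_odd (Transfer.isolated_conj hz g).1 hz2
      (by rw [← orderOf_inv, Involution.inv_mul_eq (Transfer.isolated_conj hz g).1 hz2]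
          exact Transfer.odd_orderOf_mul_conj hz g)
    have hht : Commute h t'' := by
      refine Subgroup.mem_centralizer_singleton_iff.1 ((Subgroup.closure_le _).2 ?_ hh)
      rintro x (rfl | rfl)
      · exact Subgroup.mem_centralizer_singleton_iff.2 hgz
      · exact Subgroup.mem_centralizer_singleton_iff.2 ht''z.symm
    set c := h * g with hc
    have hcz : c * z * c⁻¹ = z := by
      rw [hc, show h * g * z * (h * g)⁻¹ = h * (g * z * g⁻¹) * h⁻¹ by group, hhz]
    have hct'' : c * t * c⁻¹ = t'' := by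
      rw [hc, show h * g * t * (h * g)⁻¹ = h * (g * t * g⁻¹) * h⁻¹ by group, hg, hht.eq,
        mul_inv_cancel_right]
    have hce : c * u * c⁻¹ = e := by
      rw [hu, show c * (z * t) * c⁻¹ = c * z * c⁻¹ * (c * t * c⁻¹) by group, hcz, hct'', ht'',
        ← mul_assoc, Involution.mul_self hz2, one_mul]
    set v' := c⁻¹ * v * c with hv'
    have hv'u : Commute v' u := by
      have h1 : Commute v e := (Commute.refl d).pow_pow _ _
      rw [← hce] at h1
      have := h1.map (MulAut.conj c⁻¹).toMonoidHom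
      simp only [MulEquiv.coe_toMonoidHom, MulAut.conj_apply, inv_inv] at this
      rwa [show c⁻¹ * (c * u * c⁻¹) * c = u by group] at this
    have hzc : Commute z c := ((mul_inv_eq_iff_eq_mul.1 hcz)).symm
    have hzv' : z * v' * z⁻¹ = v'⁻¹ := by
      rw [hv', show z * (c⁻¹ * v * c) * z⁻¹ = (z * c⁻¹) * v * (c * z⁻¹) by group,
        hzc.inv_right.eq, ← hzc.inv_left.eq,
        show c⁻¹ * z * v * (z⁻¹ * c) = c⁻¹ * (z * v * z⁻¹) * c by group, hv, hdz (2 * k + 2)]
      group
    have hv'O : v' ∈ O := by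
      have h1 := hgoal ⟨v', (hCmem v').2 hv'u⟩
      have h2 : v'⁻¹ * v'⁻¹ ∈ O := ⟨_, h1, by simp [hzv']⟩
      have h3 : Odd (orderOf v') := by
        have : v' = MulAut.conj c⁻¹ v := by simp [hv', mul_assoc]
        rwa [this, MulEquiv.orderOf_eq]
      obtain ⟨j, hj⟩ := h3
      have e2 : v' = ((v'⁻¹ * v'⁻¹) ^ (j + 1))⁻¹ := by
        rw [← mul_inv_rev, inv_pow, inv_inv, ← pow_two, ← pow_mul,
          show 2 * (j + 1) = orderOf v' + 1 by omega, pow_succ, pow_orderOf_eq_one, one_mul]
      rw [e2]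
      exact O.inv_mem (pow_mem h2 _)
    have h7 : (χ : G → ℂ) (z * t') = (χ : G → ℂ) (u * v') := by
      have h8 : z * t' = c * (u * v') * c⁻¹ := by
        rw [show c * (u * v') * c⁻¹ = (c * u * c⁻¹) * (c * v' * c⁻¹) by group, hce, hv',
          show c * (c⁻¹ * v * c) * c⁻¹ = v by group, hev]
      rw [h8, Char.IsIrrCharacter.isClassFunction χ.2]
    rw [h7]
    exact apply_mul_eq hM ⟨1, by rw [pow_one, hu2]⟩ O hOcard hOc hOn hv'O hχ
  obtain ⟨n, ρ, hirr, hρ⟩ := χ.2
  have h := CharApp.sum_char_conj_mul ρ t z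
  have hsum : ∀ b : G, (χ : G → ℂ) (b * t * b⁻¹ * z) = (χ : G → ℂ) u := by
    intro b
    rw [← key (b * t * b⁻¹) (isConj_iff.2 ⟨b, rfl⟩)]
    exact Blocks.classFunction_eq_of_isConj (Char.IsIrrCharacter.isClassFunction χ.2)
      (isConj_iff.2 ⟨z, by group⟩)
  have hfr : (Module.finrank ℂ (Fin n → ℂ) : ℂ) = (χ : G → ℂ) 1 := by
    rw [← hρ, Representation.char_one]
  rw [hρ, hfr, Finset.sum_congr rfl (fun b _ => hsum b), Finset.sum_const, nsmul_eq_mul,
    Finset.card_univ, ← Nat.card_eq_fintype_card] at h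
  have h1 := Blocks.irr_one_ne_zero χ
  field_simp at h
  linear_combination -h

/-- `Z*` when the centre is trivial and `z` commutes with another involution. -/
theorem goal_of_two_involutions [Finite G] {z : G} (hz : IsIsolatedInvolution z)
    (hO : pPrimeCore 2 G = ⊥) (hC : Subgroup.center G = ⊥) (ih : SmallerZStar.{u} (Nat.card G))
    {t : G} (ht : orderOf t = 2) (htz : t ≠ z) (hct : Commute t z) : z ∈ Subgroup.center G := by
  classical
  haveI : Fact (Nat.Prime 2) := ⟨Nat.prime_two⟩
  obtain ⟨M, hM⟩ := Blocks.exists_isPModular Nat.prime_two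
  have := Fintype.ofFinite G
  have := Fintype.ofFinite (IrrCharacter G)
  have hz2 := hz.1
  set u := z * t with hu
  have huz : Commute u z := (Commute.refl z).mul_left hct
  have hu1 : u ≠ 1 := fun h => htz (by
    rw [hu, mul_eq_one_iff_inv_eq, Involution.inv_eq hz2] at h
    exact h.symm)
  have hu2 : orderOf u = 2 := Involution.orderOf_of_sq (by
    rw [hu, show z * t * (z * t) = z * (t * z) * t by group, hct.eq, ← mul_assoc,
      Involution.mul_self hz2, one_mul, Involution.mul_self ht]) hu1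
  have huz' : u ≠ z := fun h => Involution.ne_one ht (by rwa [hu, mul_eq_left] at h)
  have e1 : ∀ χ ∈ principalBlock M G,
      (χ : G → ℂ) z * (χ : G → ℂ) t = (χ : G → ℂ) 1 * (χ : G → ℂ) u :=
    fun χ hχ => apply_mul_apply hM hz hC ih ht htz hct hχ
  have e2 : ∀ χ ∈ principalBlock M G,
      (χ : G → ℂ) z * (χ : G → ℂ) u = (χ : G → ℂ) 1 * (χ : G → ℂ) t := fun χ hχ => by
    have := apply_mul_apply hM hz hC ih hu2 huz' huz hχ
    rwa [show z * u = t by rw [hu, ← mul_assoc, Involution.mul_self hz2, one_mul]] at this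
  have horth : ∀ y : G, orderOf y = 2 →
      ∑ χ : IrrCharacter G, Blocks.blockInd (principalBlock M G) χ * ((χ : G → ℂ) 1 * (χ : G → ℂ) y) = 0 := by
    intro y hy
    have h := Blocks.weak_orth hM (Blocks.blockInd_mem_intRing hM (principal_isPBlock hM G))
      (x := 1) (y := y) (by rw [orderOf_one]; norm_num) (by rw [hy])
    rw [finsum_mem_def, finsum_eq_sum_of_fintype] at h
    rw [← h]
    refine Finset.sum_congr rfl fun χ _ => ?_
    by_cases hχ : χ ∈ principalBlock M G
    · rw [Set.indicator_of_mem hχ, Blocks.blockInd_of_mem hχ, one_mul,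
        ← Char.IsCharacter.apply_inv (Char.IsIrrCharacter.isCharacter χ.2), Involution.inv_eq hy]
    · rw [Set.indicator_of_notMem hχ, Blocks.blockInd_of_notMem hχ, zero_mul]
  have hzero : ∑ χ : IrrCharacter G,
      Blocks.blockInd (principalBlock M G) χ * (((χ : G → ℂ) 1 + (χ : G → ℂ) z) * (χ : G → ℂ) t) = 0 := by
    have h1 := congrArg₂ (· + ·) (horth t ht) (horth u hu2)
    simp only [add_zero, ← Finset.sum_add_distrib] at h1
    rw [← h1]
    refine Finset.sum_congr rfl fun χ _ => ?_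
    by_cases hχ : χ ∈ principalBlock M G
    · rw [Blocks.blockInd_of_mem hχ, ← e1 χ hχ]; ring
    · rw [Blocks.blockInd_of_notMem hχ]; ring
  obtain ⟨χ, hχ, hne, hχz⟩ : ∃ χ ∈ principalBlock M G, χ ≠ BrauerPairs.oneIrr G ∧
      (χ : G → ℂ) z = (χ : G → ℂ) 1 := by
    by_contra hc
    push Not at hc
    rw [Finset.sum_eq_single (BrauerPairs.oneIrr G)] at hzero
    · rw [Blocks.blockInd_of_mem (BrauerPairs.oneIrr_mem_principal hM)] at hzero
      norm_num [BrauerPairs.oneIrr] at hzero
    · intro χ _ hne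
      by_cases hχ : χ ∈ principalBlock M G
      · have h1 : (((χ : G → ℂ) z) ^ 2 - ((χ : G → ℂ) 1) ^ 2) * (χ : G → ℂ) t = 0 := by
          linear_combination (χ : G → ℂ) z * e1 χ hχ + (χ : G → ℂ) 1 * e2 χ hχ
        rcases mul_eq_zero.1 h1 with h | h
        · have h2 : ((χ : G → ℂ) z - (χ : G → ℂ) 1) * ((χ : G → ℂ) z + (χ : G → ℂ) 1) = 0 := by
            linear_combination h
          have h3 := (mul_eq_zero.1 h2).resolve_left (sub_ne_zero.2 (hc χ hχ hne))
          rw [show (χ : G → ℂ) 1 + (χ : G → ℂ) z = 0 by linear_combination h3, zero_mul, mul_zero]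
        · rw [h, mul_zero, mul_zero]
      · rw [Blocks.blockInd_of_notMem hχ, zero_mul]
    · simp
  obtain ⟨n, ρ, hirr, hρ⟩ := χ.2
  have hker : z ∈ MonoidHom.ker ρ := by
    refine MonoidHom.mem_ker.2 (Frobenius.apply_eq_one_of_char_pow ρ z fun x hx => ?_)
    rw [← Representation.char_one ρ, hρ]
    obtain ⟨k, rfl⟩ := Subgroup.mem_zpowers_iff.1 hx
    rcases Int.even_or_odd k with ⟨l, hl⟩ | ⟨l, hl⟩
    · rw [hl, ← two_mul, zpow_mul, zpow_two, Involution.mul_self hz2, one_zpow]
    · rw [hl, zpow_add_one, zpow_mul, zpow_two, Involution.mul_self hz2, one_zpow, one_mul, hχz]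
  set K := MonoidHom.ker ρ
  have hKtop : K ≠ ⊤ := by
    intro h
    have hval : ∀ g, (χ : G → ℂ) g = (χ : G → ℂ) 1 := by
      intro g
      have h1 : ρ g = 1 := MonoidHom.mem_ker.1 (show g ∈ K from h ▸ Subgroup.mem_top g)
      rw [← hρ]
      show LinearMap.trace ℂ _ (ρ g) = LinearMap.trace ℂ _ (ρ 1)
      rw [h1, map_one ρ]
    have h2 := Char.classInner_irr_of_ne χ.2 (BrauerPairs.oneIrr G).2 fun he => hne (Subtype.ext he)
    simp [classInner, BrauerPairs.oneIrr, hval] at h2
    exact Blocks.irr_one_ne_zero χ h2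
  have hcore : pPrimeCore 2 K = ⊥ := by
    rw [← Subgroup.map_eq_bot_iff_of_injective _ K.subtype_injective, Cores.pPrimeCore_map_subtype,
      hO, bot_inf_eq]
  have hgoal := ih K ⟨z, hker⟩ (card_lt_of_ne_top hKtop) (isolated_subgroup hz K hker)
  rw [hcore] at hgoal
  refine Subgroup.mem_center_iff.2 fun g => ?_
  have hmem : g * z * g⁻¹ ∈ K := (MonoidHom.normal_ker ρ).conj_mem z hker g
  have h1 : z * (g * z * g⁻¹) * z⁻¹ * (g * z * g⁻¹)⁻¹ = 1 :=
    congrArg Subtype.val (Subgroup.mem_bot.1 (hgoal ⟨g * z * g⁻¹, hmem⟩))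
  rw [mul_inv_eq_one, mul_inv_eq_iff_eq_mul] at h1
  exact mul_inv_eq_iff_eq_mul.1 (hz.2 g h1)

/-- Glauberman's `Z*`-theorem, reduced to the unique involution case. -/
theorem zStar (hU : ZStarPrimePower.UniqueInvolutionZStar.{u}) (n : ℕ) :
    ∀ (G : Type u) [Group G] [Finite G] (z : G), Nat.card G = n → IsIsolatedInvolution z →
      ∀ g, z * g * z⁻¹ * g⁻¹ ∈ pPrimeCore 2 G := by
  induction n using Nat.strong_induction_on with
  | _ n ihn =>
    intro G _ _ z hn hz g
    haveI : Fact (Nat.Prime 2) := ⟨Nat.prime_two⟩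
    have ih : SmallerZStar.{u} (Nat.card G) := fun K _ _ y hlt hy => ihn _ (hn ▸ hlt) K y rfl hy
    by_cases hO : pPrimeCore 2 G = ⊥
    · have hfin : z ∈ Subgroup.center G := by
        by_cases hC : Subgroup.center G = ⊥
        · by_cases hx : ∃ t, orderOf t = 2 ∧ t ≠ z ∧ Commute t z
          · obtain ⟨t, ht, htz, hct⟩ := hx
            exact goal_of_two_involutions hz hO hC ih ht htz hct
          · push Not at hx
            obtain ⟨T, hzT, hTC⟩ := Transfer.exists_sylow_le_centralizer_of_isolated hz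
            obtain ⟨N, hN, hNodd, hcom⟩ := hU G z T hz.1 hzT fun t ht ht2 => by
              by_contra hne
              exact hx t ht2 hne (Subgroup.mem_centralizer_singleton_iff.1 (hTC ht))
            have hNbot : N = ⊥ :=
              le_bot_iff.1 (hO ▸ Cores.le_pPrimeCore hN (Nat.coprime_two_right.2 hNodd))
            refine Subgroup.mem_center_iff.2 fun x => ?_
            have h1 := hcom x
            rw [hNbot, Subgroup.mem_bot, mul_inv_eq_one, mul_inv_eq_iff_eq_mul] at h1
            exact h1.symm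
        · obtain ⟨x, hx, hx1⟩ := (Subgroup.bot_or_exists_ne_one _).resolve_left hC
          have hdvd : 2 ∣ Nat.card (Subgroup.center G) := by
            by_contra h
            exact hC (le_bot_iff.1 (hO ▸ Cores.le_pPrimeCore inferInstance
              ((Nat.prime_two.coprime_iff_not_dvd.2 h).symm)))
          obtain ⟨w, hw⟩ := exists_prime_orderOf_dvd_card' 2 hdvd
          exact goal_of_center hz hO ih w.2 ((Subgroup.orderOf_coe w).trans hw)
      rw [← Subgroup.mem_center_iff.1 hfin g, mul_inv_cancel_right, mul_inv_cancel]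
      exact one_mem _
    · set N := pPrimeCore 2 G
      let f := QuotientGroup.mk' N
      have hfz : f z ≠ 1 := fun h => by
        have h1 := Subgroup.orderOf_dvd_natCard N ((QuotientGroup.eq_one_iff z).1 h)
        rw [hz.1] at h1
        exact Nat.prime_two.coprime_iff_not_dvd.1 (Cores.coprime_card_pPrimeCore 2).symm h1
      have hlt : Nat.card (G ⧸ N) < Nat.card G := by
        rw [Subgroup.card_eq_card_quotient_mul_card_subgroup N]
        exact lt_mul_of_one_lt_right Nat.card_pos (Subgroup.one_lt_card_iff_ne_bot N |>.2 hO)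
      have h := ih _ (f z) hlt (isolated_map hz f (QuotientGroup.mk'_surjective N) hfz) (f g)
      rw [Cores.pPrimeCore_quotient_self, Subgroup.mem_bot] at h
      rw [← map_inv, ← map_inv, ← map_mul, ← map_mul, ← map_mul] at h
      exact (QuotientGroup.eq_one_iff _).1 h

/-- Glauberman's `Z*`-theorem, given the Brauer–Suzuki theorem. -/
theorem zStar_of_brauerSuzuki (hU : ZStarPrimePower.UniqueInvolutionZStar.{u}) [Finite G] {z : G}
    (hz : IsIsolatedInvolution z) (g : G) : z * g * z⁻¹ * g⁻¹ ∈ pPrimeCore 2 G :=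
  zStar hU _ G z rfl hz g

theorem isolated_of_sylow [Finite G] (P : Sylow 2 G) {u : G} (hu : orderOf u = 2) (huP : u ∈ P)
    (hiso : ∀ g : G, g * u * g⁻¹ ∈ P → g * u * g⁻¹ = u) : IsIsolatedInvolution u := by
  refine ⟨hu, fun g hc => ?_⟩
  have hv : orderOf (g * u * g⁻¹) = 2 := (Involution.orderOf_conj g u).trans hu
  have h := eq_one_of_odd_of_sq (Involution.odd_of_isolated P hu huP hiso hv (isConj_iff.2 ⟨g, rfl⟩))
    (by rw [hc.mul_pow, sq, sq, Involution.mul_self hu, Involution.mul_self hv, one_mul])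
  rw [mul_eq_one_iff_inv_eq, Involution.inv_eq hu] at h
  exact h.symm

end Cfsg.Agent.ZStar
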