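import Cfsg.Agent.Lib.ZStarPrimePower.UniqueInvolution
import Cfsg.Agent.S0016
import Cfsg.Agent.S0201

/-!
# The unique involution case of the `Z*`-theorem

`uniqueInvolution`: the hypothesis `hU` of `Cfsg.Agent.Lib.ZStar`, from S0016 and S0201 (Brauer–Suzuki).
-/

set_option autoImplicit false

namespace Cfsg.Agent.ZStar

universe u

theorem uniqueInvolution : ZStarPrimePower.UniqueInvolutionZStar.{u} :=
  ZStarPrimePower.uniqueInvolutionZStar (fun Q _ _ hQ h => (haveI : Fact (Nat.Prime 2) := ⟨Nat.prime_two⟩
      (S0016.result 2 hQ h).imp id And.right))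
    (fun K _ _ S n e hO => S0201.result S n e hO)

end Cfsg.Agent.ZStar
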