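import Cfsg.Agent.Lib.ZStar.SecondPrincipal
import Cfsg.Agent.Lib.Involution.Basic
import Cfsg.Agent.Lib.BrauerPairs.Basic
import Cfsg.Agent.Lib.Blocks.WeakOrth
import Cfsg.Agent.Lib.Blocks.Defect
import Cfsg.Agent.S0944

/-!
# The principal 2-block of a group with a Klein four Sylow subgroup and one class of involutions

Every principal block character is constant on the 2-singular elements, the value being `±1`, and the signed sum
of the block vanishes on the 2-regular elements.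
-/

set_option autoImplicit false

open scoped ComplexConjugate

namespace Cfsg.Agent.KleinBlock

open Cfsg Cfsg.Agent.Blocks

variable {G : Type*} [Group G] [Finite G] (P : Sylow 2 G) [IsKleinFour (P : Subgroup G)]

theorem card_sylow : Nat.card (P : Subgroup G) = 4 := IsKleinFour.card_four

theorem sq_eq_one {u : G} (hu : u ∈ P) : u * u = 1 := by
  have h := Monoid.pow_exponent_eq_one (⟨u, hu⟩ : (P : Subgroup G))
  rw [IsKleinFour.exponent_two, pow_two] at h
  exact congrArg Subtype.val h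

theorem isPBlock_principal' {M : Ideal AlgInt} : IsPBlock M (principalBlock M G) :=
  ⟨⟨fun _ => 1, Char.isIrrCharacter_one⟩, rfl⟩

include P

/-- A 2-element has order at most two. -/
theorem sq_eq_one_of_two_power {u : G} {k : ℕ} (hu : orderOf u = 2 ^ k) : u * u = 1 := by
  haveI : Fact (Nat.Prime 2) := ⟨Nat.prime_two⟩
  obtain ⟨R, hR⟩ := (IsPGroup.of_card (n := k) (by rw [Nat.card_zpowers, hu]) :
    IsPGroup 2 (Subgroup.zpowers u)).exists_le_sylow
  obtain ⟨y, hy⟩ := MulAction.exists_smul_eq G R P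
  have h := sq_eq_one P (u := y * u * y⁻¹) (by rw [← hy]; exact ⟨u, hR (Subgroup.mem_zpowers u), rfl⟩)
  rw [show y * u * y⁻¹ * (y * u * y⁻¹) = y * (u * u) * y⁻¹ by group, conj_eq_one_iff] at h
  exact h

variable {z : G}

/-- `C(z)` has a normal complement to `P`. -/
theorem exists_complement (hz : orderOf z = 2) (hzP : z ∈ P) :
    ∃ K : Subgroup G, ¬ 2 ∣ Nat.card K ∧ (∀ o ∈ K, Commute o z) ∧
      (∀ c, Commute c z → ∀ o ∈ K, c * o * c⁻¹ ∈ K) ∧
      (∀ v, Commute v z → Odd (orderOf v) → v ∈ K) ∧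
      Nat.card (Subgroup.centralizer ({z} : Set G)) = 4 * Nat.card K := by
  haveI : Fact (Nat.Prime 2) := ⟨Nat.prime_two⟩
  set C := Subgroup.centralizer ({z} : Set G)
  have hPC : (P : Subgroup G) ≤ C := fun a ha => Subgroup.mem_centralizer_singleton_iff.2 (by
    have h2 := sq_eq_one P ((P : Subgroup G).mul_mem ha hzP)
    calc a * z = (a * z)⁻¹ := (inv_eq_of_mul_eq_one_right h2).symm
      _ = z * a := by rw [mul_inv_rev, inv_eq_of_mul_eq_one_right (sq_eq_one P hzP),
        inv_eq_of_mul_eq_one_right (sq_eq_one P ha)])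
  let P' : Sylow 2 C := P.subtype hPC
  have hcard : Nat.card (P' : Subgroup C) = 4 := by
    rw [← card_sylow P]
    exact Nat.card_congr (Subgroup.subgroupOfEquivOfLe hPC).toEquiv
  have hP'sq : ∀ a : (P' : Subgroup C), a * a = 1 := fun a =>
    Subtype.ext (Subtype.ext (sq_eq_one P a.2))
  haveI : IsKleinFour (P' : Subgroup C) := by
    refine ⟨hcard, ?_⟩
    have hd : Monoid.exponent (P' : Subgroup C) ∣ 2 :=
      Monoid.exponent_dvd_of_forall_pow_eq_one fun a => by rw [pow_two]; exact hP'sq a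
    rcases (Nat.dvd_prime Nat.prime_two).1 hd with h | h
    · haveI := Monoid.exp_eq_one_iff.1 h
      rw [Nat.card_unique] at hcard
      omega
    · exact h
  set zz : (P' : Subgroup C) := ⟨⟨z, hPC hzP⟩, hzP⟩
  have hzz1 : zz ≠ 1 := fun h => Involution.ne_one hz (congrArg (fun a : (P' : Subgroup C) => ((a : C) : G)) h)
  set N := Subgroup.normalizer ((P' : Subgroup C) : Set C)
  let φ : N →* MulAut (P' : Subgroup C) := (P' : Subgroup C).normalizerMonoidHom
  have hfix : ∀ n : N, φ n zz = zz := fun n => Subtype.ext (Subtype.ext (by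
    show ((n : C) : G) * z * ((n : C) : G)⁻¹ = z
    rw [Subgroup.mem_centralizer_singleton_iff.1 (n : C).2, mul_inv_cancel_right]))
  have hsq : ∀ n : N, φ n * φ n = 1 := by
    intro n
    ext1 a
    show φ n (φ n a) = a
    by_cases ha1 : a = 1
    · subst ha1; rw [map_one, map_one]
    by_cases haz : a = zz
    · subst haz; rw [hfix, hfix]
    by_cases hb : φ n a = a
    · rw [hb, hb]
    have hb1 : φ n a ≠ 1 := fun h => ha1 ((φ n).injective (h.trans (map_one _).symm))
    have hbz : φ n a ≠ zz := fun h => haz ((φ n).injective (h.trans (hfix n).symm))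
    have h1 : φ n a = zz * a := IsKleinFour.eq_mul_of_ne_all hzz1 ha1 (Ne.symm haz) hb1 hbz hb
    rw [h1, map_mul, hfix, h1, ← mul_assoc, hP'sq, one_mul]
  have hcomm : ∀ a b : (P' : Subgroup C), a * b = b * a := fun a b =>
    mul_comm_of_exponent_two (IsKleinFour.exponent_two) a b
  have hNC : Subgroup.normalizer ((P' : Subgroup C) : Set C) ≤ Subgroup.centralizer ((P' : Subgroup C) : Set C) := by
    intro n hn
    have hodd : Odd (Nat.card φ.range) := by
      rw [← Subgroup.index_ker φ]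
      have hle : (P' : Subgroup C).subgroupOf N ≤ φ.ker := by
        intro m hm
        rw [MonoidHom.mem_ker]
        refine MulEquiv.ext fun w => Subtype.ext ?_
        show (m : C) * (w : C) * (m : C)⁻¹ = (w : C)
        rw [show (m : C) * (w : C) = (w : C) * (m : C) from congrArg Subtype.val
          (hcomm ⟨(m : C), Subgroup.mem_subgroupOf.1 hm⟩ w), mul_inv_cancel_right]
      refine Odd.of_dvd_nat (n := ((P' : Subgroup C).subgroupOf N).index) ?_ (Subgroup.index_dvd_of_le hle)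
      refine Odd.of_dvd_nat (n := (P' : Subgroup C).index) ?_ (Subgroup.relIndex_dvd_index_of_le Subgroup.le_normalizer)
      exact Nat.not_even_iff_odd.1 fun h => P'.not_dvd_index (even_iff_two_dvd.1 h)
    have h1 : φ ⟨n, hn⟩ = 1 := by
      have h2 : φ ⟨n, hn⟩ ^ 2 = 1 := by rw [pow_two]; exact hsq _
      have h3 : φ ⟨n, hn⟩ ^ Nat.card φ.range = 1 := by
        have := congrArg Subtype.val (pow_card_eq_one' (x := (⟨φ ⟨n, hn⟩, ⟨n, hn⟩, rfl⟩ : φ.range)))
        exact this
      have := pow_gcd_eq_one.2 ⟨h2, h3⟩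
      rwa [Nat.Coprime.gcd_eq_one (Nat.coprime_two_left.2 hodd), pow_one] at this
    refine Subgroup.mem_centralizer_iff.2 fun a ha => ?_
    have h4' := congrArg Subtype.val (DFunLike.congr_fun h1 (⟨a, ha⟩ : (P' : Subgroup C)))
    have h4 : n * a * n⁻¹ = a := h4'
    exact (mul_inv_eq_iff_eq_mul.1 h4).symm
  obtain ⟨K0, hK0n, hcompl, hodd0⟩ : ∃ K0 : Subgroup C, K0.Normal ∧
      Subgroup.IsComplement' K0 (P' : Subgroup C) ∧ ¬ 2 ∣ Nat.card K0 :=
    ⟨_, MonoidHom.normal_ker _, MonoidHom.ker_transferSylow_isComplement' P' hNC,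
      MonoidHom.not_dvd_card_ker_transferSylow P' hNC⟩
  refine ⟨K0.map C.subtype, ?_, ?_, ?_, ?_, ?_⟩
  · rwa [Subgroup.card_map_of_injective C.subtype_injective]
  · rintro _ ⟨o, -, rfl⟩
    exact Subgroup.mem_centralizer_singleton_iff.1 o.2
  · rintro c hc _ ⟨o, ho, rfl⟩
    exact ⟨⟨c, Subgroup.mem_centralizer_singleton_iff.2 hc⟩ * o * (⟨c, Subgroup.mem_centralizer_singleton_iff.2 hc⟩)⁻¹,
      hK0n.conj_mem o ho _, rfl⟩
  · intro v hv hvo
    refine ⟨⟨v, Subgroup.mem_centralizer_singleton_iff.2 hv⟩, ?_, rfl⟩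
    set vv : C := ⟨v, Subgroup.mem_centralizer_singleton_iff.2 hv⟩
    haveI := hK0n
    set w := QuotientGroup.mk' K0 vv
    have h1 : orderOf w ∣ orderOf v := by
      rw [← Subgroup.orderOf_mk v (Subgroup.mem_centralizer_singleton_iff.2 hv)]; exact orderOf_map_dvd _ vv
    have h2 : orderOf w ∣ 2 * 2 := by
      have h := orderOf_dvd_natCard w
      rwa [← Subgroup.index, hcompl.symm.index_eq_card, hcard] at h
    exact (QuotientGroup.eq_one_iff vv).1 (orderOf_eq_one_iff.1 (Nat.eq_one_of_dvd_coprimes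
      (Nat.Coprime.mul_right (Nat.coprime_two_right.2 hvo) (Nat.coprime_two_right.2 hvo)) h1 h2))
  · rw [Subgroup.card_map_of_injective C.subtype_injective, ← hcard, mul_comm]
    exact hcompl.card_mul.symm

/-- The 2-singular elements are the conjugates of the `z * v`, `v` in the complement; they are a quarter of `G`. -/
theorem singular (hz : orderOf z = 2) (hone : ∀ s t : G, orderOf s = 2 → orderOf t = 2 → IsConj s t)
    {K : Subgroup G} (hodd : ¬ 2 ∣ Nat.card K) (hKz : ∀ o ∈ K, Commute o z)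
    (hKn : ∀ c, Commute c z → ∀ o ∈ K, c * o * c⁻¹ ∈ K) (hKall : ∀ v, Commute v z → Odd (orderOf v) → v ∈ K)
    (hcard : Nat.card (Subgroup.centralizer ({z} : Set G)) = 4 * Nat.card K) :
    (∀ g : G, 2 ∣ orderOf g → ∃ c, ∃ v ∈ K, g = c * (z * v) * c⁻¹) ∧
      4 * Nat.card {g : G // 2 ∣ orderOf g} = Nat.card G := by
  classical
  have hsurj : ∀ g : G, 2 ∣ orderOf g → ∃ c, ∃ v ∈ K, g = c * (z * v) * c⁻¹ := by
    intro g hg
    obtain ⟨a, m, hm, hn⟩ := Nat.exists_eq_two_pow_mul_odd (orderOf_pos g).ne'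
    have hgm : orderOf (g ^ m) = 2 ^ a := by
      rw [orderOf_pow' g hm.pos.ne', hn, Nat.gcd_eq_right (Dvd.intro_left _ rfl), Nat.mul_div_cancel _ hm.pos]
    have hsq := sq_eq_one_of_two_power P hgm
    have hne : g ^ m ≠ 1 := fun h => by
      have h1 : orderOf g ∣ m := orderOf_dvd_of_pow_eq_one h
      exact (Nat.not_even_iff_odd.2 hm) (even_iff_two_dvd.2 (hg.trans h1))
    have hinv : orderOf (g ^ m) = 2 := Involution.orderOf_of_sq hsq hne
    obtain ⟨c, hc⟩ := isConj_iff.1 (hone z (g ^ m) hz hinv)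
    have hgv : g = g ^ m * g ^ (m + 1) := by
      rw [← pow_add, show m + (m + 1) = m + m + 1 by ring, pow_succ, pow_add, hsq, one_mul]
    have hvm : (g ^ (m + 1)) ^ m = 1 := by
      obtain ⟨l, hl⟩ := hm.add_one
      rw [← pow_mul, hl, show (l + l) * m = m * 2 * l by ring, pow_mul, pow_mul, pow_two, hsq, one_pow]
    refine ⟨c, c⁻¹ * g ^ (m + 1) * c, hKall _ ?_ ?_, ?_⟩
    · have h1 := (Commute.pow_pow_self g (m + 1) m).map (MulAut.conj c⁻¹).toMonoidHom
      simp only [MulEquiv.coe_toMonoidHom, MulAut.conj_apply, inv_inv] at h1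
      rwa [← hc, show c⁻¹ * (c * z * c⁻¹) * c = z by group] at h1
    · refine Odd.of_dvd_nat hm (orderOf_dvd_of_pow_eq_one ?_)
      have h2 : (c⁻¹ * g ^ (m + 1) * c⁻¹⁻¹) ^ m = c⁻¹ * (g ^ (m + 1)) ^ m * c⁻¹⁻¹ := conj_pow
      simpa [hvm] using h2
    · conv_lhs => rw [hgv, ← hc]
      group
  refine ⟨hsurj, ?_⟩
  haveI := Fintype.ofFinite G
  let T := {g : G // 2 ∣ orderOf g}
  have hmem : ∀ (c : G) (v : K), 2 ∣ orderOf (c * (z * v) * c⁻¹) := fun c v => by
    rw [Involution.orderOf_conj, (hKz v v.2).symm.orderOf_mul_eq_mul_orderOf_of_coprime]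
    · rw [hz]; exact Dvd.intro _ rfl
    · rw [hz, Nat.coprime_two_left, ← Nat.not_even_iff_odd, even_iff_two_dvd]
      exact fun h => hodd (h.trans (Subgroup.orderOf_dvd_natCard K v.2))
  let f : G × K → T := fun p => ⟨p.1 * (z * p.2) * p.1⁻¹, hmem p.1 p.2⟩
  have hfib : ∀ t : T, Nat.card {p : G × K // f p = t} = 4 * Nat.card K := by
    rintro ⟨g, hg⟩
    obtain ⟨c₀, v₀, hv₀, rfl⟩ := hsurj g hg
    rw [← hcard]
    refine Nat.card_congr
      { toFun := fun p => ⟨c₀⁻¹ * p.1.1, ?_⟩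
        invFun := fun d => ⟨(c₀ * d.1, ⟨(d : G)⁻¹ * v₀ * d, ?_⟩), ?_⟩
        left_inv := ?_
        right_inv := ?_ }
    · obtain ⟨⟨c, v⟩, hp⟩ := p
      have hp' : c * (z * v) * c⁻¹ = c₀ * (z * v₀) * c₀⁻¹ := congrArg Subtype.val hp
      set d := c₀⁻¹ * c with hd
      have h1 : d * (z * v) * d⁻¹ = z * v₀ := by
        rw [hd]
        calc c₀⁻¹ * c * (z * v) * (c₀⁻¹ * c)⁻¹ = c₀⁻¹ * (c * (z * v) * c⁻¹) * c₀ := by group
          _ = z * v₀ := by rw [hp']; group
      have hpow : ∀ w ∈ K, (z * w) ^ Nat.card K = z := by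
        intro w hw
        rw [(hKz w hw).symm.mul_pow, show w ^ Nat.card K = 1 from congrArg Subtype.val
          (pow_card_eq_one' (x := (⟨w, hw⟩ : K))), mul_one]
        obtain ⟨l, hl⟩ := Nat.not_even_iff_odd.1 (fun h => hodd (even_iff_two_dvd.1 h))
        rw [hl, pow_succ, pow_mul, pow_two, Involution.mul_self hz, one_pow, one_mul]
      refine Subgroup.mem_centralizer_singleton_iff.2 (mul_inv_eq_iff_eq_mul.1 ?_)
      calc d * z * d⁻¹ = (d * (z * v) * d⁻¹) ^ Nat.card K := by rw [conj_pow, hpow v v.2]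
        _ = z := by rw [h1, hpow v₀ hv₀]
    · have hdz : Commute (d : G) z := Subgroup.mem_centralizer_singleton_iff.1 d.2
      simpa using hKn _ hdz.inv_left v₀ hv₀
    · refine Subtype.ext ?_
      have hdz : Commute (d : G) z := Subgroup.mem_centralizer_singleton_iff.1 d.2
      show c₀ * d * (z * ((d : G)⁻¹ * v₀ * d)) * (c₀ * d)⁻¹ = c₀ * (z * v₀) * c₀⁻¹
      calc c₀ * d * (z * ((d : G)⁻¹ * v₀ * d)) * (c₀ * d)⁻¹
          = c₀ * ((d : G) * z * (d : G)⁻¹ * v₀) * c₀⁻¹ := by group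
        _ = _ := by rw [hdz.eq, mul_inv_cancel_right]
    · rintro ⟨⟨c, v⟩, hp⟩
      have hp' : c * (z * v) * c⁻¹ = c₀ * (z * v₀) * c₀⁻¹ := congrArg Subtype.val hp
      refine Subtype.ext (Prod.ext (mul_inv_cancel_left c₀ c) (Subtype.ext ?_))
      show (c₀⁻¹ * c)⁻¹ * v₀ * (c₀⁻¹ * c) = v
      have h1 : z * (v : G) = c⁻¹ * c₀ * (z * v₀) * (c⁻¹ * c₀)⁻¹ := by
        calc z * (v : G) = c⁻¹ * (c * (z * v) * c⁻¹) * c := by group
          _ = _ := by rw [hp']; group
      have hdz : Commute (c⁻¹ * c₀) z := by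
        have hpow : ∀ w ∈ K, (z * w) ^ Nat.card K = z := by
          intro w hw
          rw [(hKz w hw).symm.mul_pow, show w ^ Nat.card K = 1 from congrArg Subtype.val
            (pow_card_eq_one' (x := (⟨w, hw⟩ : K))), mul_one]
          obtain ⟨l, hl⟩ := Nat.not_even_iff_odd.1 (fun h => hodd (even_iff_two_dvd.1 h))
          rw [hl, pow_succ, pow_mul, pow_two, Involution.mul_self hz, one_pow, one_mul]
        refine mul_inv_eq_iff_eq_mul.1 ?_
        conv_rhs => rw [← hpow v v.2, h1, conj_pow, hpow v₀ hv₀]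
      have h2 : z * (v : G) = z * ((c⁻¹ * c₀) * v₀ * (c⁻¹ * c₀)⁻¹) := by
        rw [h1, ← mul_assoc (c⁻¹ * c₀), hdz.eq]; group
      rw [mul_left_cancel h2]; group
    · intro d
      exact Subtype.ext (inv_mul_cancel_left c₀ (d : G))
  have hKpos : 0 < Nat.card K := Nat.card_pos
  have htot : Nat.card G * Nat.card K = Nat.card T * (4 * Nat.card K) := by
    rw [← Nat.card_prod, ← Nat.card_congr (Equiv.sigmaFiberEquiv f), Nat.card_sigma]
    simp only [hfib]
    rw [Finset.sum_const, Finset.card_univ, smul_eq_mul, Nat.card_eq_fintype_card (α := T)]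
  refine Nat.eq_of_mul_eq_mul_right hKpos ?_
  rw [htot]; ring


/-- The values of the principal block at the involutions, its degrees, and the relation on regular elements. -/
theorem signs {M : Ideal AlgInt} (hM : IsPModular 2 M)
    (hone : ∀ s t : G, orderOf s = 2 → orderOf t = 2 → IsConj s t) :
    ∃ (s : IrrCharacter G → ℤ) (B : Finset (IrrCharacter G)), (∀ χ, χ ∈ B ↔ χ ∈ principalBlock M G) ∧
      B.card = 4 ∧ (∀ χ ∈ B, s χ = 1 ∨ s χ = -1) ∧
      (∀ χ ∈ B, ∀ u, orderOf u = 2 → (χ : G → ℂ) u = (s χ : ℂ)) ∧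
      (∀ χ ∈ B, (4 : ℤ) ∣ (charDegree (χ : G → ℂ) : ℤ) - s χ) ∧
      ∀ y : G, Odd (orderOf y) → ∑ χ ∈ B, (s χ : ℂ) * (χ : G → ℂ) y = 0 := by
  classical
  haveI : Fact (Nat.Prime 2) := ⟨Nat.prime_two⟩
  haveI := Fintype.ofFinite G
  haveI := Fintype.ofFinite (IrrCharacter G)
  obtain ⟨z₀, hz₀⟩ := exists_prime_orderOf_dvd_card' (G := (P : Subgroup G)) 2 (by rw [card_sylow P]; norm_num)
  set z : G := (z₀ : G)
  have hz : orderOf z = 2 := by rw [Subgroup.orderOf_coe, hz₀]
  obtain ⟨K, hodd, hKz, hKn, hKall, hcard⟩ := exists_complement P hz z₀.2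
  obtain ⟨hsurj, hT⟩ := singular P hz hone hodd hKz hKn hKall hcard
  choose s hs hs2 using fun χ : IrrCharacter G => S0944.result χ z hz
  set B := (principalBlock M G).toFinite.toFinset
  have hB : ∀ χ, χ ∈ B ↔ χ ∈ principalBlock M G := fun χ => Set.Finite.mem_toFinset _
  have hconst : ∀ χ ∈ B, ∀ g, 2 ∣ orderOf g → (χ : G → ℂ) g = (s χ : ℂ) := by
    intro χ hχ g hg
    obtain ⟨c, v, hv, rfl⟩ := hsurj g hg
    rw [irr_class χ (z * v) c, ZStar.apply_mul_eq hM ⟨1, by rw [hz, pow_one]⟩ K hodd hKz hKn hv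
      ((hB χ).1 hχ), hs]
  have hint := blockInd_mem_intRing hM (B := principalBlock M G) isPBlock_principal'
  have horth : ∀ y : G, Odd (orderOf y) → ∑ χ ∈ B, (s χ : ℂ) * (χ : G → ℂ) y = 0 := by
    intro y hy
    have h := weak_orth hM hint (x := y) (y := z) (fun h => (Nat.not_even_iff_odd.2 hy) (even_iff_two_dvd.2 h))
      (by rw [hz])
    rw [finsum_mem_eq_finite_toFinset_sum _ (principalBlock M G).toFinite] at h
    rw [← h]
    refine Finset.sum_congr rfl fun χ _ => ?_
    rw [hs, map_intCast, mul_comm]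
  set one : IrrCharacter G := ⟨fun _ => 1, Char.isIrrCharacter_one⟩
  have hone' : one ∈ B := (hB one).2 (sameBlock_refl hM _)
  have hs1 : s one = 1 := by
    have h : (s one : ℂ) = 1 := (hs one).symm
    exact_mod_cast h
  -- the sum of squares
  have hS : ∑ χ ∈ B, (s χ : ℂ) * (s χ : ℂ) = 4 := by
    set S := ∑ χ ∈ B, (s χ : ℂ) * (s χ : ℂ)
    have hF : ∀ x : G, ∑ χ ∈ B, (s χ : ℂ) * (χ : G → ℂ) x = if 2 ∣ orderOf x then S else 0 := by
      intro x
      split
      · next h => exact Finset.sum_congr rfl fun χ hχ => by rw [hconst χ hχ x h]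
      · next h => exact horth x (Nat.not_even_iff_odd.1 fun e => h (even_iff_two_dvd.1 e))
    have h1 : ∑ x : G, ∑ χ ∈ B, (s χ : ℂ) * (χ : G → ℂ) x = (Nat.card {g : G // 2 ∣ orderOf g} : ℂ) * S := by
      simp only [hF]
      rw [Finset.sum_ite, Finset.sum_const, Finset.sum_const_zero, add_zero, nsmul_eq_mul,
        Nat.card_eq_fintype_card, Fintype.card_subtype]
    have h2 : ∑ x : G, ∑ χ ∈ B, (s χ : ℂ) * (χ : G → ℂ) x = Nat.card G := by
      rw [Finset.sum_comm, Finset.sum_eq_single_of_mem one hone']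
      · simp [one, hs1]
      · intro χ _ hne
        rw [← Finset.mul_sum]
        have h := Char.classInner_irr_of_ne χ.2 Char.isIrrCharacter_one fun e => hne (Subtype.ext e)
        rw [classInner, mul_eq_zero, inv_eq_zero] at h
        have h' := h.resolve_left card_ne_zero_C
        simp only [Pi.one_apply, map_one, mul_one] at h'
        rw [h', mul_zero]
    rw [h1, ← hT] at h2
    push_cast at h2
    have hT0 : (Nat.card {g : G // 2 ∣ orderOf g} : ℂ) ≠ 0 :=
      Nat.cast_ne_zero.2 (Nat.card_pos_iff.2 ⟨⟨⟨z, by rw [hz]⟩⟩, inferInstance⟩).ne'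
    exact mul_left_cancel₀ hT0 (h2.trans (mul_comm _ _))
  have hSZ : ∑ χ ∈ B, s χ * s χ = 4 := by exact_mod_cast hS
  -- restriction to `P`
  have hmod : ∀ χ ∈ B, (4 : ℤ) ∣ (charDegree (χ : G → ℂ) : ℤ) - s χ := by
    intro χ hχ
    haveI := Fintype.ofFinite (P : Subgroup G)
    have h := isIntegral_avg (Char.IsIrrCharacter.isCharacter χ.2) (P : Subgroup G) (g := 1) (Subgroup.one_mem _)
    have hsum : ∑ u : (P : Subgroup G), (χ : G → ℂ) (1 * u) = (charDegree (χ : G → ℂ) : ℂ) + 3 * (s χ : ℂ) := by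
      rw [← Finset.add_sum_erase _ _ (Finset.mem_univ (1 : (P : Subgroup G)))]
      congr 1
      · simp [charDegree_cast]
      · rw [Finset.sum_congr rfl (g := fun _ => (s χ : ℂ)), Finset.sum_const, Finset.card_erase_of_mem
          (Finset.mem_univ _), Finset.card_univ, ← Nat.card_eq_fintype_card, card_sylow P]
        · simp
        · intro u hu
          rw [one_mul]
          refine hconst χ hχ _ ?_
          rw [Involution.orderOf_of_sq (sq_eq_one P u.2) fun e => (Finset.mem_erase.1 hu).1 (Subtype.ext e)]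
    rw [hsum, card_sylow P] at h
    have h4 : IsIntegral ℤ ((((charDegree (χ : G → ℂ) : ℤ) + 3 * s χ : ℤ) : ℚ) / 4) := by
      rw [← isIntegral_algebraMap_iff (B := ℂ) (algebraMap ℚ ℂ).injective]
      push_cast at h ⊢
      simpa [div_eq_inv_mul] using h
    obtain ⟨w, hw⟩ := IsIntegrallyClosed.isIntegral_iff.1 h4
    have h5 : ((charDegree (χ : G → ℂ) : ℤ) + 3 * s χ : ℚ) = 4 * (w : ℚ) := by
      rw [show (w : ℚ) = _ from hw]; push_cast; ring
    have h6 : (charDegree (χ : G → ℂ) : ℤ) + 3 * s χ = 4 * w := by exact_mod_cast h5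
    exact ⟨w - s χ, by linarith⟩
  have hne : ∀ χ ∈ B, s χ ≠ 0 := by
    intro χ hχ h0
    obtain ⟨k, hk⟩ : (4 : ℕ) ∣ charDegree (χ : G → ℂ) := by
      have := hmod χ hχ
      rw [h0, sub_zero] at this
      exact_mod_cast this
    have hnd : ¬ 2 ∣ Nat.card G / charDegree (χ : G → ℂ) := by
      obtain ⟨l, hl⟩ := charDegree_dvd_card χ
      rw [hl, Nat.mul_div_cancel_left _ (charDegree_pos χ)]
      rintro ⟨r, rfl⟩
      refine P.not_dvd_index ⟨k * r, ?_⟩
      have h8 := (P : Subgroup G).card_mul_index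
      rw [card_sylow P, hl, hk] at h8
      nlinarith
    have h := ((singleton_iff_not_dvd hM χ).1 hnd)
    rw [← isPBlock_eq_blockOf hM isPBlock_principal' ((hB χ).1 hχ)] at h
    have : one = χ := by
      have h9 := (hB one).1 hone'
      rw [h] at h9
      exact h9
    rw [← this, hs1] at h0
    exact one_ne_zero h0
  have hunit : ∀ χ ∈ B, s χ = 1 ∨ s χ = -1 := by
    intro χ hχ
    by_cases e : χ = one
    · exact Or.inl (e ▸ hs1)
    have h1 : s χ * s χ + s one * s one ≤ 4 := by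
      rw [← hSZ, ← Finset.sum_pair (f := fun w => s w * s w) e]
      exact Finset.sum_le_sum_of_subset_of_nonneg (by
        intro w hw; rcases Finset.mem_insert.1 hw with rfl | hw
        · exact hχ
        · rw [Finset.mem_singleton.1 hw]; exact hone') fun w _ _ => mul_self_nonneg _
    rw [hs1] at h1
    have h2 : -1 ≤ s χ := by nlinarith
    have h3 : s χ ≤ 1 := by nlinarith
    have := hne χ hχ
    omega
  refine ⟨s, B, hB, ?_, hunit, fun χ hχ u hu => hconst χ hχ u (by rw [hu]), hmod, horth⟩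
  have : ∑ χ ∈ B, s χ * s χ = ∑ χ ∈ B, (1 : ℤ) := Finset.sum_congr rfl fun χ hχ => by
    rcases hunit χ hχ with e | e <;> rw [e] <;> norm_num
  rw [this] at hSZ
  simp only [Finset.sum_const, nsmul_eq_mul, mul_one] at hSZ
  exact_mod_cast hSZ

end Cfsg.Agent.KleinBlock
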