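import Cfsg.Agent.Lib.ZStar.Apply

/-!
# The `Z*`-theorem in the forms of S0215, S1188, S4593, S3184, S1251

Each takes the unique involution case `ZStarPrimePower.UniqueInvolutionZStar` as a hypothesis `hU`.
-/

set_option autoImplicit false

namespace Cfsg.Agent.ZStar

open Cfsg

universe u

variable {G : Type u} [Group G] (hU : ZStarPrimePower.UniqueInvolutionZStar.{u})
include hU

theorem glauberman [Finite G] (P : Sylow 2 G) (u : G) (hu : orderOf u = 2) (huP : u ∈ P)
    (hiso : ∀ g : G, g * u * g⁻¹ ∈ P → g * u * g⁻¹ = u) :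
    ∃ N : Subgroup G, N.Normal ∧ Odd (Nat.card N) ∧ ∀ g : G, (u * g * u⁻¹ * g⁻¹) ∈ N :=
  ⟨pPrimeCore 2 G, Cores.pPrimeCore_normal 2 G, Nat.coprime_two_right.1 (Cores.coprime_card_pPrimeCore 2),
    zStar_of_brauerSuzuki hU (isolated_of_sylow P hu huP hiso)⟩

theorem centralizes_oddCore [Finite G] (S : Sylow 2 G) (A : Subgroup G) (hA : IsStronglyClosed A (S : Subgroup G))
    (H : Subgroup G) (hAH : A ≤ Subgroup.normalizer (H : Set G)) (hO : oddCore ↥H = ⊥) (hdisj : A ⊓ H = ⊥) :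
    A ≤ Subgroup.centralizer (H : Set G) :=
  centralizes_of_strongly_closed hU S hA hAH hO hdisj

theorem inner_of_abelian_sylow [Finite G] (hZ : Subgroup.center G = ⊥) (hcore : pPrimeCore 2 G = ⊥)
    (P : Sylow 2 G) (hab : IsMulCommutative (P : Subgroup G)) (α : MulAut G) (h2 : ∃ j : ℕ, orderOf α = 2 ^ j)
    (hfix : ∀ x ∈ (P : Subgroup G), α x = x) : ∃ g : G, ∀ x : G, α x = g * x * g⁻¹ := by
  haveI := hab
  obtain ⟨g, rfl⟩ := aut_inner_of_abelian_sylow hU hZ hcore P α h2 hfix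
  exact ⟨g, fun x => MulAut.conj_apply g x⟩

theorem central_intersections [Finite G]
    (hCI : ∀ S T : Sylow 2 G, S ≠ T → ∃ U : Sylow 2 G,
      (S : Subgroup G) ⊓ (T : Subgroup G) ≤ (Subgroup.center ↥(U : Subgroup G)).map (U : Subgroup G).subtype)
    (S : Sylow 2 G) (C : Subgroup ↥(S : Subgroup G)) (hCc : IsCyclic ↥C) (hCh : C.Characteristic)
    (c : ↥(S : Subgroup G)) (hc : c ∈ C) (hc2 : orderOf c = 2) (g : G) :
    (QuotientGroup.mk (s := oddCore G) (g * (c : G) * g⁻¹)) = QuotientGroup.mk (s := oddCore G) (c : G) := by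
  haveI := hCc
  have h := zStar_of_brauerSuzuki hU (isolated_of_central_intersections hCI S C hCh c hc hc2) g
  refine (QuotientGroup.eq.2 ?_).symm
  have h2 : (c : G)⁻¹ = c := inv_eq_of_mul_eq_one_right (Involution.mul_self ((Subgroup.orderOf_coe c).trans hc2))
  rw [h2] at h ⊢
  simpa [mul_assoc] using h

end Cfsg.Agent.ZStar
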