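import Cfsg.Agent.Lib.ZStar.Glauberman
import Cfsg.Agent.Lib.Isolated.Basic
import Cfsg.Agent.Lib.Transfer.Focal
import Cfsg.Agent.S2970
import Cfsg.Agent.S3183

/-!
# Consequences of the `Z*`-theorem

Everything takes the unique involution case `ZStarPrimePower.UniqueInvolutionZStar` as a hypothesis `hU`.

* `core_quotient_central`: `O(G) = 1` passes to the quotient by a central involution;
* `zStar_pElement`: an isolated 2-element is central modulo `O(G)`;
* `centralizes_of_strongly_closed`: strongly closed 2-groups normalising a core-free `H` and meeting it trivially;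
* `aut_inner_of_abelian_sylow`: 2-automorphisms fixing an abelian Sylow 2-subgroup are inner;
* `isolated_of_central_intersections`: the involution of a cyclic characteristic subgroup in a CI-group.
-/

set_option autoImplicit false

namespace Cfsg.Agent.ZStar

open Cfsg

universe u

variable {G : Type u} [Group G]

theorem core_quotient_central [Finite G] (hO : pPrimeCore 2 G = ⊥) {w : G} (hw : w ∈ Subgroup.center G)
    (hw2 : orderOf w = 2) [(Subgroup.zpowers w).Normal] :
    pPrimeCore 2 (G ⧸ Subgroup.zpowers w) = ⊥ := by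
  haveI : Fact (Nat.Prime 2) := ⟨Nat.prime_two⟩
  set W := Subgroup.zpowers w
  have hWcard : Nat.card W = 2 := by rw [Nat.card_zpowers, hw2]
  let f := QuotientGroup.mk' W
  set L := (pPrimeCore 2 (G ⧸ W)).comap f with hL
  haveI : L.Normal := Subgroup.Normal.comap (Cores.pPrimeCore_normal 2 _) f
  have hWL : W ≤ L := fun x hx => by
    show f x ∈ pPrimeCore 2 (G ⧸ W)
    rw [show f x = 1 from (QuotientGroup.eq_one_iff x).2 hx]; exact one_mem _
  set W' := W.subgroupOf L
  have hW'card : Nat.card W' = 2 := (Nat.card_congr (Subgroup.subgroupOfEquivOfLe hWL).toEquiv).trans hWcard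
  have hindex : W'.index = Nat.card (pPrimeCore 2 (G ⧸ W)) := by
    have hker : (f.subgroupComap (pPrimeCore 2 (G ⧸ W))).ker = W' := by
      ext x
      rw [MonoidHom.mem_ker, Subgroup.mem_subgroupOf]
      exact ⟨fun h => (QuotientGroup.eq_one_iff _).1 (congrArg Subtype.val h),
        fun h => Subtype.ext ((QuotientGroup.eq_one_iff _).2 h)⟩
    rw [← hker, Subgroup.index_ker, MonoidHom.range_eq_top.2
      (MonoidHom.subgroupComap_surjective_of_surjective f _ (QuotientGroup.mk'_surjective W)),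
      Subgroup.card_top]
  haveI : W'.Normal := Subgroup.normal_subgroupOf
  obtain ⟨K, hK⟩ := Subgroup.exists_right_complement'_of_coprime (N := W')
    (by rw [hW'card, hindex]; exact (Cores.coprime_card_pPrimeCore 2).symm)
  have hKn : K.Normal := by
    refine ⟨fun k hk l => ?_⟩
    obtain ⟨⟨a, b⟩, rfl⟩ := hK.2 l
    have hac : ∀ y : L, y * (a : L) = (a : L) * y := fun y =>
      Subtype.ext (Subgroup.mem_center_iff.1 ((Subgroup.zpowers_le.2 hw) (Subgroup.mem_subgroupOf.1 a.2)) y)
    show (a : L) * (b : L) * k * ((a : L) * (b : L))⁻¹ ∈ K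
    rw [show (a : L) * (b : L) * k * ((a : L) * (b : L))⁻¹
        = (a : L) * ((b : L) * k * (b : L)⁻¹) * (a : L)⁻¹ by group, ← hac, mul_inv_cancel_right]
    exact K.mul_mem (K.mul_mem b.2 hk) (K.inv_mem b.2)
  have hKcard : Nat.card K = W'.index := by
    have h1 := hK.card_mul
    have h2 := W'.card_mul_index
    rw [← h1] at h2
    exact (Nat.eq_of_mul_eq_mul_left Nat.card_pos h2).symm
  have hKbot : K = ⊥ := by
    have h1 : K ≤ pPrimeCore 2 L :=
      Cores.le_pPrimeCore hKn (by rw [hKcard, hindex]; exact Cores.coprime_card_pPrimeCore 2)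
    have h2 := Subgroup.map_mono (f := L.subtype) h1
    rw [Cores.pPrimeCore_map_subtype, hO, bot_inf_eq] at h2
    exact (Subgroup.map_eq_bot_iff_of_injective K L.subtype_injective).1 (le_bot_iff.1 h2)
  rw [hKbot, Subgroup.card_bot] at hKcard
  rw [Subgroup.eq_bot_iff_card, ← hindex, ← hKcard]

variable (hU : ZStarPrimePower.UniqueInvolutionZStar.{u})
include hU

theorem isolated_mem_center [Finite G] {z : G} (hz : IsIsolatedInvolution z) (hO : pPrimeCore 2 G = ⊥) :
    z ∈ Subgroup.center G := by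
  refine Subgroup.mem_center_iff.2 fun g => ?_
  have h := zStar_of_brauerSuzuki hU hz g
  rw [hO, Subgroup.mem_bot, mul_inv_eq_one, mul_inv_eq_iff_eq_mul] at h
  exact h.symm

theorem zStar_pElement_aux (n : ℕ) :
    ∀ (G : Type u) [Group G] [Finite G] (x : G), Nat.card G = n → (∃ k, orderOf x = 2 ^ k) → IsIsolated x →
      InZStar 2 x := by
  induction n using Nat.strong_induction_on with
  | _ n ih =>
    intro G _ _ x hn hx hiso g
    haveI : Fact (Nat.Prime 2) := ⟨Nat.prime_two⟩
    by_cases hO : pPrimeCore 2 G = ⊥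
    swap
    · set N := pPrimeCore 2 G
      have hlt : Nat.card (G ⧸ N) < n := by
        rw [← hn, Subgroup.card_eq_card_quotient_mul_card_subgroup N]
        exact lt_mul_of_one_lt_right Nat.card_pos (Subgroup.one_lt_card_iff_ne_bot N |>.2 hO)
      obtain ⟨k, hk⟩ := hx
      obtain ⟨j, -, hj⟩ := (Nat.dvd_prime_pow Nat.prime_two).1
        (hk ▸ orderOf_map_dvd (QuotientGroup.mk' N) x)
      have h := ih _ hlt (G ⧸ N) (QuotientGroup.mk x) rfl ⟨j, hj⟩
        ((S2970.result x ⟨k, hk⟩ hiso).1 N) (QuotientGroup.mk g)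
      rw [Cores.pPrimeCore_quotient_self, Subgroup.mem_bot] at h
      exact (QuotientGroup.eq_one_iff _).1 h
    have hfin : x ∈ Subgroup.center G := by
      obtain ⟨k, hk⟩ := hx
      rcases k with _ | k
      · rw [pow_zero, orderOf_eq_one_iff] at hk; rw [hk]; exact one_mem _
      set z := x ^ (2 ^ k) with hzdef
      have hz2 : orderOf z = 2 := by
        rw [hzdef, orderOf_pow' _ (by positivity : 2 ^ k ≠ 0), hk, pow_succ, Nat.gcd_eq_right (Dvd.intro _ rfl),
          Nat.mul_div_cancel_left _ (by positivity)]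
      obtain ⟨P, hP⟩ := (Isolated.isPGroup_zpowers (p := 2) hk).exists_le_sylow
      have hxP : x ∈ (P : Subgroup G) := hP (Subgroup.mem_zpowers x)
      have hzP : z ∈ P := (P : Subgroup G).pow_mem hxP _
      have hPC := Isolated.commute_of_mem_pGroup hiso P.isPGroup' hxP
      have hziso : IsIsolatedInvolution z := isolated_of_sylow P hz2 hzP fun h hh => by
        have hc : Commute x (h * z * h⁻¹) := (Subgroup.mem_centralizer_singleton_iff.1 (hPC hh)).symm
        have := Isolated.conj_zpow_eq (p := 2) ⟨k + 1, hk⟩ hiso ((2 ^ k : ℕ) : ℤ) h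
          (by rw [zpow_natCast]; exact hc)
        rwa [zpow_natCast] at this
      have hzc := isolated_mem_center hU hziso hO
      haveI : (Subgroup.zpowers z).Normal := ⟨fun m hm g => by
        rwa [Subgroup.mem_center_iff.1 ((Subgroup.zpowers_le.2 hzc) hm) g, mul_inv_cancel_right]⟩
      have hlt : Nat.card (G ⧸ Subgroup.zpowers z) < n := by
        rw [← hn, Subgroup.card_eq_card_quotient_mul_card_subgroup (Subgroup.zpowers z), Nat.card_zpowers, hz2]
        exact lt_mul_of_one_lt_right Nat.card_pos (by norm_num)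
      obtain ⟨j, -, hj⟩ := (Nat.dvd_prime_pow Nat.prime_two).1
        (hk ▸ orderOf_map_dvd (QuotientGroup.mk' (Subgroup.zpowers z)) x)
      refine Subgroup.mem_center_iff.2 fun g => ?_
      have h := ih _ hlt (G ⧸ Subgroup.zpowers z) (QuotientGroup.mk x) rfl ⟨j, hj⟩
        ((S2970.result x ⟨k + 1, hk⟩ hiso).1 _) (QuotientGroup.mk g)
      rw [core_quotient_central hO hzc hz2, Subgroup.mem_bot] at h
      have hmem : g * x * g⁻¹ * x⁻¹ ∈ Subgroup.zpowers z := (QuotientGroup.eq_one_iff _).1 h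
      obtain ⟨i, hi⟩ := Subgroup.mem_zpowers_iff.1 hmem
      have hgx : g * x * g⁻¹ = z ^ i * x := by rw [hi]; group
      have hcomm : Commute x (g * x * g⁻¹) := by
        rw [hgx]
        exact (((Commute.refl x).pow_right _).zpow_right i).mul_right (Commute.refl x)
      have := hiso g hcomm
      exact mul_inv_eq_iff_eq_mul.1 this
    rw [Subgroup.mem_center_iff.1 hfin g, mul_inv_cancel_right, mul_inv_cancel]
    exact one_mem _

/-- An isolated 2-element is central modulo `O(G)`. -/
theorem zStar_pElement [Finite G] {x : G} (hx : ∃ k, orderOf x = 2 ^ k) (hiso : IsIsolated x) :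
    InZStar 2 x :=
  zStar_pElement_aux hU _ G x rfl hx hiso

theorem centralizes_aux (n : ℕ) :
    ∀ (X : Type u) [Group X] [Finite X] (H A : Subgroup X) [H.Normal], Nat.card X = n → IsPGroup 2 A →
      H ⊔ A = ⊤ → H ⊓ A = ⊥ → pPrimeCore 2 H = ⊥ →
      (∃ T : Sylow 2 X, IsStronglyClosed A (T : Subgroup X)) → A ≤ Subgroup.centralizer (H : Set X) := by
  induction n using Nat.strong_induction_on with
  | _ n ih =>
    intro X _ _ H A _ hn hA htop hbot hO ⟨T, hAT, hsc⟩
    haveI : Fact (Nat.Prime 2) := ⟨Nat.prime_two⟩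
    by_cases hA1 : A = ⊥
    · rw [hA1]; exact bot_le
    haveI : Nontrivial A := (Subgroup.nontrivial_iff_ne_bot A).2 hA1
    haveI := hA.center_nontrivial
    obtain ⟨c, hc⟩ := exists_prime_orderOf_dvd_card' (G := Subgroup.center A) 2 (by
      obtain ⟨m, hm⟩ := IsPGroup.iff_card.1 (hA.to_subgroup (Subgroup.center A))
      rw [hm]
      refine dvd_pow_self 2 ?_
      rintro rfl
      rw [pow_zero] at hm
      exact absurd hm Finite.one_lt_card.ne')
    set z : X := ((c : A) : X)
    have hz2 : orderOf z = 2 := by rw [Subgroup.orderOf_coe, Subgroup.orderOf_coe, hc]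
    have hzA : z ∈ A := (c : A).2
    have hzc : ∀ a ∈ A, Commute a z := fun a ha => congrArg Subtype.val
      (Subgroup.mem_center_iff.1 c.2 ⟨a, ha⟩)
    have hdec : ∀ g : X, ∃ h ∈ H, ∃ a ∈ A, g = h * a := fun g => by
      obtain ⟨h, hh, a, ha, e⟩ := Subgroup.mem_sup_of_normal_left.1 (htop ▸ Subgroup.mem_top g)
      exact ⟨h, hh, a, ha, e.symm⟩
    have hziso : IsIsolatedInvolution z := isolated_of_sylow T hz2 (hAT hzA) fun g hg => by
      obtain ⟨h, hh, a, ha, rfl⟩ := hdec g
      have h1 := hsc z hzA _ hg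
      have h2 : h * a * z * (h * a)⁻¹ = h * z * h⁻¹ := by
        rw [show h * a * z * (h * a)⁻¹ = h * (a * z * a⁻¹) * h⁻¹ by group, (hzc a ha).eq, mul_inv_cancel_right]
      rw [h2] at h1 ⊢
      have h3 : h * z * h⁻¹ * z⁻¹ ∈ H ⊓ A := by
        refine ⟨?_, A.mul_mem h1 (A.inv_mem hzA)⟩
        rw [show h * z * h⁻¹ * z⁻¹ = h * (z * h⁻¹ * z⁻¹) by group]
        exact H.mul_mem hh (Subgroup.Normal.conj_mem inferInstance _ (H.inv_mem hh) z)
      rw [hbot, Subgroup.mem_bot, mul_inv_eq_one] at h3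
      exact h3
    have hXcore : pPrimeCore 2 X = ⊥ := by
      have h1 : pPrimeCore 2 X ≤ H := by
        intro x hx
        obtain ⟨h, hh, a, ha, rfl⟩ := hdec x
        let f := QuotientGroup.mk' H
        have ho : orderOf (f (h * a)) ∣ orderOf (h * a) := orderOf_map_dvd f _
        have hfa : f (h * a) = f a := by
          rw [map_mul, show f h = 1 from (QuotientGroup.eq_one_iff h).2 hh, one_mul]
        obtain ⟨k, hk⟩ := hA ⟨a, ha⟩
        have hak : orderOf (f a) ∣ 2 ^ k := orderOf_dvd_of_pow_eq_one (by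
          rw [← map_pow, show a ^ 2 ^ k = 1 from congrArg Subtype.val hk, map_one])
        have hodd : Nat.Coprime (orderOf (h * a)) (2 ^ k) := Nat.Coprime.pow_right k
          (Nat.Coprime.coprime_dvd_left (Subgroup.orderOf_dvd_natCard _ hx) (Cores.coprime_card_pPrimeCore 2))
        have h1 : orderOf (f (h * a)) = 1 := Nat.eq_one_of_dvd_coprimes hodd ho (hfa ▸ hak)
        exact (QuotientGroup.eq_one_iff _).1 (orderOf_eq_one_iff.1 h1)
      have h2 : pPrimeCore 2 X ⊓ H = ⊥ := by
        rw [← Cores.pPrimeCore_map_subtype, hO, Subgroup.map_bot]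
      rwa [inf_eq_left.2 h1] at h2
    have hzX := isolated_mem_center hU hziso hXcore
    haveI : (Subgroup.zpowers z).Normal := ⟨fun m hm g => by
      rwa [Subgroup.mem_center_iff.1 ((Subgroup.zpowers_le.2 hzX) hm) g, mul_inv_cancel_right]⟩
    set W := Subgroup.zpowers z
    let f := QuotientGroup.mk' W
    have hf : Function.Surjective f := QuotientGroup.mk'_surjective W
    haveI : (H.map f).Normal := Subgroup.Normal.map inferInstance f hf
    have hlt : Nat.card (X ⧸ W) < n := by
      rw [← hn, Subgroup.card_eq_card_quotient_mul_card_subgroup W, Nat.card_zpowers, hz2]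
      exact lt_mul_of_one_lt_right Nat.card_pos (by norm_num)
    have hWA : W ≤ A := Subgroup.zpowers_le.2 hzA
    have hinjH : Function.Injective (f.subgroupMap H) := by
      rw [injective_iff_map_eq_one]
      intro h hh
      have h1 : (h : X) ∈ H ⊓ A := ⟨h.2, hWA ((QuotientGroup.eq_one_iff _).1 (congrArg Subtype.val hh))⟩
      rw [hbot, Subgroup.mem_bot] at h1
      exact Subtype.ext h1
    have hcomap : ∀ x : X, f x ∈ A.map f → x ∈ A := by
      rintro x ⟨a, ha, e⟩
      have h1 : a⁻¹ * x ∈ W := QuotientGroup.eq.1 e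
      have h2 := A.mul_mem ha (hWA h1)
      rwa [mul_inv_cancel_left] at h2
    have hcomapT : ∀ x : X, f x ∈ (T : Subgroup X).map f → x ∈ (T : Subgroup X) := by
      rintro x ⟨a, ha, e⟩
      have h1 : a⁻¹ * x ∈ W := QuotientGroup.eq.1 e
      have h2 := (T : Subgroup X).mul_mem ha (hAT (hWA h1))
      rwa [mul_inv_cancel_left] at h2
    have hrec := ih _ hlt (X ⧸ W) (H.map f) (A.map f) rfl (hA.map f)
      (by rw [← Subgroup.map_sup, htop, Subgroup.map_top_of_surjective f hf])
      (by
        rw [eq_bot_iff]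
        rintro _ ⟨⟨h, hh, rfl⟩, ha⟩
        have h1 : h ∈ H ⊓ A := ⟨hh, hcomap h ha⟩
        rw [hbot, Subgroup.mem_bot] at h1
        rw [h1, map_one]
        exact one_mem _)
      (by
        let e : H ≃* H.map f := MulEquiv.ofBijective (f.subgroupMap H) ⟨hinjH, f.subgroupMap_surjective H⟩
        rw [← Cores.pPrimeCore_map_mulEquiv e, hO, Subgroup.map_bot])
      ⟨T.mapSurjective hf, Subgroup.map_mono hAT, fun y hy g hg => by
        obtain ⟨x, hx, rfl⟩ := hy
        obtain ⟨g, rfl⟩ := hf g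
        rw [← map_inv, ← map_mul, ← map_mul] at hg ⊢
        exact ⟨_, hsc x hx g (hcomapT _ hg), rfl⟩⟩
    intro a ha
    refine Subgroup.mem_centralizer_iff.2 fun h hh => ?_
    have h1 : h⁻¹ * a⁻¹ * h * a ∈ H ⊓ A := by
      have h2 : f (h⁻¹ * a⁻¹ * h * a) = 1 := by
        have h3 : f h * f a = f a * f h :=
          Subgroup.mem_centralizer_iff.1 (hrec ⟨a, ha, rfl⟩) _ ⟨h, hh, rfl⟩
        rw [map_mul, map_mul, map_mul, map_inv, map_inv, mul_assoc, h3]
        group
      refine ⟨?_, hWA ((QuotientGroup.eq_one_iff _).1 h2)⟩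
      rw [show h⁻¹ * a⁻¹ * h * a = h⁻¹ * (a⁻¹ * h * a⁻¹⁻¹) by group]
      exact H.mul_mem (H.inv_mem hh) (Subgroup.Normal.conj_mem inferInstance _ hh _)
    rw [hbot, Subgroup.mem_bot] at h1
    calc h * a = a * h * (h⁻¹ * a⁻¹ * h * a) := by group
      _ = a * h := by rw [h1, mul_one]

/-- A strongly closed 2-subgroup normalising a core-free `H` and meeting it trivially centralises it. -/
theorem centralizes_of_strongly_closed [Finite G] (S : Sylow 2 G) {A H : Subgroup G}
    (hA : IsStronglyClosed A (S : Subgroup G)) (hAH : A ≤ Subgroup.normalizer (H : Set G))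
    (hO : pPrimeCore 2 H = ⊥) (hdisj : A ⊓ H = ⊥) : A ≤ Subgroup.centralizer (H : Set G) := by
  haveI : Fact (Nat.Prime 2) := ⟨Nat.prime_two⟩
  set X := H ⊔ A
  have hHX : H ≤ X := le_sup_left
  have hAX : A ≤ X := le_sup_right
  haveI : (H.subgroupOf X).Normal :=
    Subgroup.normal_subgroupOf_of_le_normalizer (sup_le Subgroup.le_normalizer hAH)
  have hAp : IsPGroup 2 (A.subgroupOf X) :=
    (S.isPGroup'.to_le hA.1).of_equiv (Subgroup.subgroupOfEquivOfLe hAX).symm
  obtain ⟨T, hT⟩ := hAp.exists_le_sylow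
  obtain ⟨R, hR⟩ := (T.isPGroup'.map X.subtype).exists_le_sylow
  obtain ⟨g, hg⟩ := MulAction.exists_smul_eq G S R
  have hmemR : ∀ x, x ∈ (R : Subgroup G) → g⁻¹ * x * g ∈ (S : Subgroup G) := by
    intro x hx
    rw [← hg] at hx
    obtain ⟨s, hs, rfl⟩ := hx
    show g⁻¹ * (g * s * g⁻¹) * g ∈ (S : Subgroup G)
    rw [show g⁻¹ * (g * s * g⁻¹) * g = s by group]
    exact hs
  have hconjA : ∀ x ∈ A, g⁻¹ * x * g ∈ A := by
    intro x hx
    have h1 := hA.2 x hx g⁻¹
    rw [inv_inv] at h1
    exact h1 (hmemR x (hR ⟨⟨x, hAX hx⟩, hT (Subgroup.mem_subgroupOf.2 hx), rfl⟩))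
  have hconjA' : ∀ x ∈ A, g * x * g⁻¹ ∈ A := by
    intro x hx
    have heq : A.map (MulAut.conj g⁻¹).toMonoidHom = A := by
      refine Subgroup.eq_of_le_of_card_ge ?_ (Subgroup.card_map_of_injective (MulAut.conj g⁻¹).injective).ge
      rintro _ ⟨y, hy, rfl⟩
      simpa [mul_assoc] using hconjA y hy
    rw [← heq] at hx
    obtain ⟨y, hy, rfl⟩ := hx
    simpa [mul_assoc] using hy
  have h := centralizes_aux hU _ X (H.subgroupOf X) (A.subgroupOf X) rfl hAp
    (by rw [← Subgroup.subgroupOf_sup hHX hAX]; exact Subgroup.subgroupOf_self _)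
    (by
      rw [eq_bot_iff]
      rintro x ⟨hxH, hxA⟩
      have h1 : (x : G) ∈ A ⊓ H := ⟨Subgroup.mem_subgroupOf.1 hxA, Subgroup.mem_subgroupOf.1 hxH⟩
      rw [hdisj, Subgroup.mem_bot] at h1
      exact Subgroup.mem_bot.2 (Subtype.ext h1))
    (by rw [← Cores.pPrimeCore_map_mulEquiv (Subgroup.subgroupOfEquivOfLe hHX).symm, hO, Subgroup.map_bot])
    ⟨T, hT, fun x hx y hy => by
      refine Subgroup.mem_subgroupOf.2 ?_
      have h1 : ((y * x * y⁻¹ : X) : G) ∈ (R : Subgroup G) := hR ⟨_, hy, rfl⟩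
      have h2 := hA.2 (x : G) (Subgroup.mem_subgroupOf.1 hx) (g⁻¹ * y) (by
        rw [show g⁻¹ * (y : G) * x * (g⁻¹ * y)⁻¹ = g⁻¹ * ((y : G) * x * (y : G)⁻¹) * g by group]
        exact hmemR _ h1)
      have h3 := hconjA' _ h2
      rw [show g * (g⁻¹ * (y : G) * x * (g⁻¹ * y)⁻¹) * g⁻¹ = (y : G) * x * (y : G)⁻¹ by group] at h3
      exact h3⟩
  intro a ha
  refine Subgroup.mem_centralizer_iff.2 fun b hb => ?_
  exact congrArg Subtype.val (Subgroup.mem_centralizer_iff.1 (h (show (⟨a, hAX ha⟩ : X) ∈ A.subgroupOf X from ha))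
    ⟨b, hHX hb⟩ hb)

/-- A 2-automorphism fixing an abelian Sylow 2-subgroup is inner, when `Z(G) = 1` and `O(G) = 1`. -/
theorem aut_inner_of_abelian_sylow [Finite G] (hZ : Subgroup.center G = ⊥) (hcore : pPrimeCore 2 G = ⊥)
    (P : Sylow 2 G) [IsMulCommutative (P : Subgroup G)] (α : MulAut G) (h2 : ∃ j : ℕ, orderOf α = 2 ^ j)
    (hfix : ∀ x ∈ (P : Subgroup G), α x = x) : α ∈ (MulAut.conj : G →* MulAut G).range := by
  haveI : Fact (Nat.Prime 2) := ⟨Nat.prime_two⟩
  haveI : Finite (MulAut G) := Finite.of_injective (fun f : MulAut G => (f : G → G)) DFunLike.coe_injective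
  set cj : G →* MulAut G := MulAut.conj
  have hcj : Function.Injective cj := by
    rw [injective_iff_map_eq_one]
    intro g hg
    have : g ∈ Subgroup.center G := Subgroup.mem_center_iff.2 fun x => by
      have h1 : g * x * g⁻¹ = x := by simpa [cj] using DFunLike.congr_fun hg x
      exact (mul_inv_eq_iff_eq_mul.1 h1).symm
    rw [hZ, Subgroup.mem_bot] at this
    exact this
  have hconj : ∀ (g : G) (f : MulAut G), f * cj g * f⁻¹ = cj (f g) := by
    intro g f; ext x; simp [cj, MulAut.conj_apply]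
  haveI hIn : cj.range.Normal := ⟨fun _ ⟨g, hg⟩ f => ⟨f g, by rw [← hg, hconj]⟩⟩
  set PI := (P : Subgroup G).map cj with hPI
  set T0 := PI ⊔ Subgroup.zpowers α with hT0
  have hcommα : ∀ x ∈ PI, Commute α x := by
    rintro _ ⟨x, hx, rfl⟩
    refine mul_inv_eq_iff_eq_mul.1 ?_
    rw [hconj, hfix x hx]
  have hT0comm : ∀ x ∈ T0, ∀ y ∈ T0, x * y = y * x := by
    have hgen : T0 = Subgroup.closure ((PI : Set (MulAut G)) ∪ {α}) := by
      rw [Subgroup.closure_union, Subgroup.closure_eq, ← Subgroup.zpowers_eq_closure]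
    have : IsMulCommutative (Subgroup.closure ((PI : Set (MulAut G)) ∪ {α})) := by
      refine Subgroup.isMulCommutative_closure ?_
      rintro s (hs | rfl) t (ht | rfl)
      · obtain ⟨x, hx, rfl⟩ := hs
        obtain ⟨y, hy, rfl⟩ := ht
        rw [← map_mul, ← map_mul]
        exact congrArg cj (congrArg Subtype.val (mul_comm' (⟨x, hx⟩ : (P : Subgroup G)) ⟨y, hy⟩))
      · exact (hcommα _ hs).eq.symm
      · exact (hcommα _ ht).eq
      · rfl
    intro x hx y hy
    rw [hgen] at hx hy
    exact congrArg Subtype.val (this.is_comm.comm ⟨x, hx⟩ ⟨y, hy⟩)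
  set X := cj.range ⊔ Subgroup.zpowers α with hX
  have hT0X : T0 ≤ X := sup_le ((Subgroup.map_le_range _ _).trans le_sup_left) le_sup_right
  have hαp : IsPGroup 2 (Subgroup.zpowers α) := by
    obtain ⟨j, hj⟩ := h2
    exact IsPGroup.of_card (n := j) (by rw [Nat.card_zpowers, hj])
  have hαN : Subgroup.zpowers α ≤ Subgroup.normalizer (PI : Set (MulAut G)) := by
    refine Subgroup.zpowers_le.2 (Subgroup.mem_normalizer_iff.2 fun x => ?_)
    constructor
    · intro hx; rwa [(hcommα x hx).eq, mul_inv_cancel_right]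
    · intro hx
      have h1 := hcommα _ hx
      have : x = α * x * α⁻¹ := by
        have h2 : α⁻¹ * (α * x * α⁻¹) * α = α * x * α⁻¹ := by
          rw [mul_assoc, ← h1.eq, inv_mul_cancel_left]
        calc x = α⁻¹ * (α * x * α⁻¹) * α := by group
          _ = _ := h2
      rwa [this]
  have hT0p : IsPGroup 2 T0 := (P.isPGroup'.map cj).to_sup_of_normal_left' hαp hαN
  -- `T0` is a Sylow 2-subgroup of `X`
  obtain ⟨T, hT⟩ := (hT0p.of_equiv (Subgroup.subgroupOfEquivOfLe hT0X).symm).exists_le_sylow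
  have hTeq : (T : Subgroup X) = T0.subgroupOf X := by
    refine le_antisymm ?_ hT
    intro x hx
    obtain ⟨y, ⟨g, rfl⟩, w, hw, e⟩ := Subgroup.mem_sup_of_normal_left.1 x.2
    have hwT : w ∈ T0 := le_sup_right (a := PI) hw
    have hgT : (⟨cj g, le_sup_left (b := Subgroup.zpowers α) ⟨g, rfl⟩⟩ : X) ∈ T := by
      have : (⟨cj g, le_sup_left (b := Subgroup.zpowers α) ⟨g, rfl⟩⟩ : X) = x * ⟨w, hT0X hwT⟩⁻¹ :=
        Subtype.ext (eq_mul_inv_of_mul_eq e)
      rw [this]
      exact (T : Subgroup X).mul_mem hx ((T : Subgroup X).inv_mem (hT (Subgroup.mem_subgroupOf.2 hwT)))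
    have hQ : IsPGroup 2 (((T : Subgroup X).map X.subtype).comap cj) :=
      (T.isPGroup'.map X.subtype).comap_of_injective cj hcj
    have hPQ : (P : Subgroup G) ≤ ((T : Subgroup X).map X.subtype).comap cj := fun q hq =>
      ⟨⟨cj q, hT0X (le_sup_left (b := Subgroup.zpowers α) ⟨q, hq, rfl⟩)⟩,
        hT (Subgroup.mem_subgroupOf.2 (le_sup_left (b := Subgroup.zpowers α) ⟨q, hq, rfl⟩)), rfl⟩
    have hgP : g ∈ (P : Subgroup G) := by
      rw [← P.is_maximal' hQ hPQ]
      exact ⟨_, hgT, rfl⟩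
    refine Subgroup.mem_subgroupOf.2 ?_
    rw [← e]
    exact T0.mul_mem (le_sup_left (b := Subgroup.zpowers α) ⟨g, hgP, rfl⟩) hwT
  haveI hTab : IsMulCommutative (T : Subgroup X) := ⟨⟨fun a b => Subtype.ext (Subtype.ext
    (hT0comm _ (Subgroup.mem_subgroupOf.1 (hTeq ▸ a.2)) _ (Subgroup.mem_subgroupOf.1 (hTeq ▸ b.2))))⟩⟩
  by_contra hα
  set IX := cj.range.subgroupOf X
  haveI : IX.Normal := Subgroup.normal_subgroupOf
  set αX : X := ⟨α, hT0X (le_sup_right (a := PI) (Subgroup.mem_zpowers α))⟩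
  have hαT : αX ∈ T := hT (Subgroup.mem_subgroupOf.2 (le_sup_right (a := PI) (Subgroup.mem_zpowers α)))
  let π := QuotientGroup.mk' IX
  have hπgen : ∀ y : X, ∃ i : ℤ, π y = π αX ^ i := by
    intro y
    obtain ⟨g, hg, w, hw, e⟩ := Subgroup.mem_sup_of_normal_left.1 y.2
    obtain ⟨i, rfl⟩ := Subgroup.mem_zpowers_iff.1 hw
    refine ⟨i, ?_⟩
    have h1 : y = ⟨g, le_sup_left (b := Subgroup.zpowers α) hg⟩ * αX ^ i := Subtype.ext e.symm
    rw [h1, map_mul, show π ⟨g, le_sup_left (b := Subgroup.zpowers α) hg⟩ = 1 from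
      (QuotientGroup.eq_one_iff _).2 hg, one_mul, map_zpow]
  have hπcomm : ∀ y w : X, π (y * w * y⁻¹) = π w := by
    intro y w
    obtain ⟨i, hi⟩ := hπgen y
    obtain ⟨j, hj⟩ := hπgen w
    rw [map_mul, map_mul, map_inv, hi, hj, (Commute.zpow_zpow_self (π αX) i j).eq, mul_inv_cancel_right]
  set N := Subgroup.normalizer ((T : Subgroup X) : Set X)
  let φ : N →* MulAut (T : Subgroup X) := (T : Subgroup X).normalizerMonoidHom
  letI : Fintype φ.range := Fintype.ofFinite _
  letI : CommGroup (T : Subgroup X) := { (inferInstance : Group (T : Subgroup X)) with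
    mul_comm := fun a b => mul_comm' a b }
  set τ : (T : Subgroup X) := ⟨αX, hαT⟩
  set ν : (T : Subgroup X) := ∏ σ : φ.range, (σ : MulAut (T : Subgroup X)) τ with hν
  have hfixν : ∀ m : N, φ m ν = ν := by
    intro m
    rw [hν, map_prod]
    exact Fintype.prod_equiv (Equiv.mulLeft (⟨φ m, m, rfl⟩ : φ.range)) _ _ fun σ => rfl
  have hπν : π (ν : X) = π αX ^ Nat.card φ.range := by
    have h1 : ∀ σ : φ.range, π (((σ : MulAut (T : Subgroup X)) τ : (T : Subgroup X)) : X) = π αX := by
      rintro ⟨_, m, rfl⟩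
      exact hπcomm (m : X) αX
    have h3 : ∀ u : Finset φ.range,
        π (((∏ σ ∈ u, (σ : MulAut (T : Subgroup X)) τ) : (T : Subgroup X)) : X) = π αX ^ u.card := by
      classical
      intro u
      induction u using Finset.induction_on with
      | empty => simp
      | insert σ u hσ ih =>
        rw [Finset.prod_insert hσ, Finset.card_insert_of_notMem hσ]
        show π (_ * _) = _
        rw [map_mul, h1 σ, ih, pow_succ']
    rw [hν, h3, Finset.card_univ, Nat.card_eq_fintype_card]
  have hodd : Odd (Nat.card φ.range) := by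
    rw [← Subgroup.index_ker φ]
    have hTN : (T : Subgroup X).subgroupOf N ≤ φ.ker := by
      intro m hm
      rw [MonoidHom.mem_ker]
      refine MulEquiv.ext fun w => Subtype.ext ?_
      show (m : X) * (w : X) * (m : X)⁻¹ = (w : X)
      rw [show (m : X) * (w : X) = (w : X) * (m : X) from congrArg Subtype.val
        (mul_comm' (⟨(m : X), Subgroup.mem_subgroupOf.1 hm⟩ : (T : Subgroup X)) w), mul_inv_cancel_right]
    refine Odd.of_dvd_nat (n := ((T : Subgroup X).subgroupOf N).index) ?_ (Subgroup.index_dvd_of_le hTN)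
    refine Odd.of_dvd_nat (n := (T : Subgroup X).index) ?_ ?_
    · exact Nat.not_even_iff_odd.1 fun h => T.not_dvd_index (even_iff_two_dvd.1 h)
    · exact Subgroup.relIndex_dvd_index_of_le Subgroup.le_normalizer
  have hν1 : (ν : X) ∉ IX := by
    intro h
    have h1 : π αX ^ Nat.card φ.range = 1 := by rw [← hπν]; exact (QuotientGroup.eq_one_iff _).2 h
    obtain ⟨j, hj⟩ := h2
    have h3 : π αX ^ 2 ^ j = 1 := by
      rw [← map_pow, show αX ^ 2 ^ j = 1 from Subtype.ext (by
        rw [SubgroupClass.coe_pow, ← hj]; exact pow_orderOf_eq_one α), map_one]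
    have h4 : π αX = 1 := by
      have := pow_gcd_eq_one.2 ⟨h1, h3⟩
      rwa [Nat.Coprime.gcd_eq_one ((Nat.coprime_two_right.2 hodd).pow_right j), pow_one] at this
    exact hα (Subgroup.mem_subgroupOf.1 ((QuotientGroup.eq_one_iff αX).1 h4))
  -- a power of `ν` is an isolated involution
  have hne : (ν : X) ≠ 1 := fun h => hν1 (h ▸ one_mem _)
  obtain ⟨k, hk⟩ := IsPGroup.iff_orderOf.1 T.isPGroup' ν
  rw [← Subgroup.orderOf_coe] at hk
  obtain ⟨l, rfl⟩ : ∃ l, k = l + 1 := ⟨k - 1, (Nat.succ_pred_eq_of_ne_zero (by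
    rintro rfl; exact hne (orderOf_eq_one_iff.1 hk))).symm⟩
  set t : X := (ν : X) ^ 2 ^ l with ht
  have ht2 : orderOf t = 2 := by
    rw [ht, orderOf_pow' _ (by positivity : 2 ^ l ≠ 0), hk, pow_succ, Nat.gcd_eq_right (Dvd.intro _ rfl),
      Nat.mul_div_cancel_left _ (by positivity)]
  have htT : t ∈ T := (T : Subgroup X).pow_mem ν.2 _
  have hiso : IsIsolatedInvolution t := isolated_of_sylow T ht2 htT fun g hg => by
    obtain ⟨m, hm, he⟩ := Transfer.normalizer_control_of_comm T t htT g hg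
    rw [← he, ht, ← conj_pow]
    congr 1
    exact congrArg Subtype.val (hfixν ⟨m, hm⟩)
  have hIncore : pPrimeCore 2 cj.range = ⊥ := by
    rw [← Cores.pPrimeCore_map_mulEquiv (MonoidHom.ofInjective hcj), hcore, Subgroup.map_bot]
  have hcentI : ∀ x : MulAut G, (∀ g, Commute x (cj g)) → x = 1 := by
    intro x hx
    ext g
    apply hcj
    rw [← hconj g x, (hx g).eq, mul_inv_cancel_right, MulAut.one_apply]
  have hOX : pPrimeCore 2 X = ⊥ := by
    have hIX : pPrimeCore 2 IX = ⊥ := by
      rw [← Cores.pPrimeCore_map_mulEquiv (Subgroup.subgroupOfEquivOfLe (le_sup_left : cj.range ≤ X)).symm,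
        hIncore, Subgroup.map_bot]
    have hinf : pPrimeCore 2 X ⊓ IX = ⊥ := by
      rw [← Cores.pPrimeCore_map_subtype, hIX, Subgroup.map_bot]
    rw [eq_bot_iff]
    intro x hx
    have hcx : ∀ g, Commute (x : MulAut G) (cj g) := by
      intro g
      set y : X := ⟨cj g, le_sup_left (b := Subgroup.zpowers α) ⟨g, rfl⟩⟩
      have h1 : x * y * x⁻¹ * y⁻¹ ∈ pPrimeCore 2 X ⊓ IX := by
        refine ⟨?_, ?_⟩
        · rw [show x * y * x⁻¹ * y⁻¹ = x * (y * x⁻¹ * y⁻¹) by group]
          exact Subgroup.mul_mem _ hx ((Cores.pPrimeCore_normal 2 X).conj_mem _ (Subgroup.inv_mem _ hx) y)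
        · have hyI : y ∈ IX := Subgroup.mem_subgroupOf.2 (show (y : MulAut G) ∈ cj.range from ⟨g, rfl⟩)
          exact IX.mul_mem (Subgroup.Normal.conj_mem inferInstance y hyI x) (IX.inv_mem hyI)
      rw [hinf, Subgroup.mem_bot, mul_inv_eq_one, mul_inv_eq_iff_eq_mul] at h1
      exact congrArg Subtype.val h1
    exact Subgroup.mem_bot.2 (Subtype.ext (hcentI _ hcx))
  have htc := isolated_mem_center hU hiso hOX
  have : (t : MulAut G) = 1 := hcentI _ fun g => (congrArg Subtype.val
    (Subgroup.mem_center_iff.1 htc ⟨cj g, le_sup_left (b := Subgroup.zpowers α) ⟨g, rfl⟩⟩)).symm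
  exact Involution.ne_one ht2 (Subtype.ext this)

omit hU in
/-- The involution of a cyclic characteristic subgroup of a Sylow 2-subgroup is isolated in a group with central
Sylow 2-intersections. -/
theorem isolated_of_central_intersections [Finite G]
    (hCI : ∀ S T : Sylow 2 G, S ≠ T → ∃ U : Sylow 2 G,
      (S : Subgroup G) ⊓ (T : Subgroup G) ≤ (Subgroup.center ↥(U : Subgroup G)).map (U : Subgroup G).subtype)
    (S : Sylow 2 G) (C : Subgroup ↥(S : Subgroup G)) [IsCyclic ↥C] (hCh : C.Characteristic)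
    (c : ↥(S : Subgroup G)) (hc : c ∈ C) (hc2 : orderOf c = 2) : IsIsolatedInvolution (c : G) := by
  haveI : Fact (Nat.Prime 2) := ⟨Nat.prime_two⟩
  have huniq : ∀ d ∈ C, orderOf d = 2 → d = c := by
    intro d hd hd2
    classical
    letI : Fintype C := Fintype.ofFinite _
    by_contra hne
    have hle := IsCyclic.card_pow_eq_one_le (α := C) (n := 2) two_pos
    have hsub : ({1, ⟨c, hc⟩, ⟨d, hd⟩} : Finset C) ⊆ Finset.univ.filter fun a : C => a ^ 2 = 1 := by
      intro w hw
      simp only [Finset.mem_insert, Finset.mem_singleton] at hw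
      rw [Finset.mem_filter]
      refine ⟨Finset.mem_univ _, ?_⟩
      rcases hw with rfl | rfl | rfl
      · exact one_pow _
      · exact Subtype.ext (by rw [SubgroupClass.coe_pow, pow_two]; exact Involution.mul_self hc2)
      · exact Subtype.ext (by rw [SubgroupClass.coe_pow, pow_two]; exact Involution.mul_self hd2)
    have h3 := (Finset.card_le_card hsub).trans hle
    rw [Finset.card_insert_of_notMem, Finset.card_insert_of_notMem, Finset.card_singleton] at h3
    · omega
    · simp only [Finset.mem_singleton]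
      exact fun h => hne (congrArg Subtype.val h).symm
    · simp only [Finset.mem_insert, Finset.mem_singleton, not_or]
      exact ⟨fun h => Involution.ne_one hc2 (congrArg Subtype.val h).symm,
        fun h => Involution.ne_one hd2 (congrArg Subtype.val h).symm⟩
  have hfix : ∀ e : MulAut ↥(S : Subgroup G), e c = c := fun e =>
    huniq _ (by
      have := Subgroup.characteristic_iff_map_le.1 hCh e
      exact this ⟨c, hc, rfl⟩) (by rw [MulEquiv.orderOf_eq, hc2])
  have hN : ∀ m ∈ Subgroup.normalizer ((S : Subgroup G) : Set G), m * (c : G) * m⁻¹ = c := fun m hm =>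
    congrArg Subtype.val (hfix ((S : Subgroup G).normalizerMonoidHom ⟨m, hm⟩))
  have hcS : ∀ s ∈ (S : Subgroup G), Commute s (c : G) := fun s hs =>
    mul_inv_eq_iff_eq_mul.1 (hN s (Subgroup.le_normalizer hs))
  refine isolated_of_sylow S ((Subgroup.orderOf_coe c).trans hc2) c.2 fun g hg => ?_
  set y := g * (c : G) * g⁻¹ with hy
  -- `y` is central in `S`
  have hyS : ∀ s ∈ (S : Subgroup G), Commute s y := by
    have hP : IsPGroup 2 ((S : Subgroup G).map (MulAut.conj g).toMonoidHom) := S.isPGroup'.map _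
    have hle : (S : Subgroup G).map (MulAut.conj g).toMonoidHom ≤ Subgroup.centralizer ({y} : Set G) := by
      rintro _ ⟨s, hs, rfl⟩
      refine Subgroup.mem_centralizer_singleton_iff.2 ?_
      exact ((hcS s hs).map (MulAut.conj g).toMonoidHom).eq
    have h1 := (S3183.result hCI S).1 y hg _ hP hle
    rw [Subgroup.card_map_of_injective (MulAut.conj g).injective] at h1
    have h2 : (S : Subgroup G) ⊓ Subgroup.centralizer ({y} : Set G) = (S : Subgroup G) :=
      Subgroup.eq_of_le_of_card_ge inf_le_left h1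
    intro s hs
    rw [← h2] at hs
    exact Subgroup.mem_centralizer_singleton_iff.1 hs.2
  obtain ⟨m, hm, he⟩ := Transfer.exists_normalizer_conj_image S (X := {(c : G)}) (Y := {y})
    (fun s hs => by rw [Set.image_singleton, (hcS s hs).eq, mul_inv_cancel_right])
    (fun s hs => by rw [Set.image_singleton, (hyS s hs).eq, mul_inv_cancel_right])
    (g := g) (by rw [Set.image_singleton])
  rw [Set.image_singleton, Set.singleton_eq_singleton_iff, hN m hm] at he
  exact he.symm

end Cfsg.Agent.ZStar
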