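import Cfsg.Agent.Lib.ZStar.Third
import Cfsg.Agent.Lib.Blocks.Trace

/-!
# The second main theorem for the principal block, in the form used for `Z*`

`apply_mul_eq`: if `u` is a `p`-element, `O` a `p'`-subgroup of `C(u)` normalised by `C(u)` and `v ∈ O`, then
`χ (u * v) = χ u` for every character `χ` of the principal `p`-block.

Proof: with `E` the complement of the averaging operator of `O`, an invertible operator congruent to the identity,
built from the block idempotent weighted by roots of unity off `C(u)`, twists `ρ (u * v) * E` by a nontrivial scalar,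
so this has trace zero.
-/

set_option autoImplicit false

namespace Cfsg.Agent.ZStar

open Cfsg Cfsg.Agent.Blocks

universe u

variable {G : Type u} [Group G] {p : ℕ} {M : Ideal AlgInt}
variable {V : Type*} [AddCommGroup V] [Module ℂ V]

/-- The unit of the convolution algebra. -/
noncomputable def delta : G → ℂ := by classical exact fun x => if x = 1 then 1 else 0

/-- The normalised indicator of a subgroup. -/
noncomputable def eps (N : Subgroup G) : G → ℂ := by
  classical exact fun x => if x ∈ N then (Nat.card N : ℂ)⁻¹ else 0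

theorem eps_of_mem {N : Subgroup G} {x : G} (h : x ∈ N) : eps N x = (Nat.card N : ℂ)⁻¹ := by
  classical exact if_pos h

theorem eps_of_notMem {N : Subgroup G} {x : G} (h : x ∉ N) : eps N x = 0 := by
  classical exact if_neg h

theorem delta_one : delta (1 : G) = 1 := by
  classical exact if_pos rfl

theorem delta_of_ne {x : G} (h : x ≠ 1) : delta x = 0 := by
  classical exact if_neg h

theorem eps_invariant {N : Subgroup G} {y : G} (hy : ∀ o, y⁻¹ * o * y ∈ N ↔ o ∈ N) (g : G) :
    eps N (y⁻¹ * g * y) = eps N g := by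
  by_cases h : g ∈ N
  · rw [eps_of_mem h, eps_of_mem ((hy g).2 h)]
  · rw [eps_of_notMem h, eps_of_notMem fun h' => h ((hy g).1 h')]

section op

variable [Fintype G] (ρ : Representation ℂ G V)

theorem op_conv (z w : G → ℂ) :
    Char.groupSumOp ρ (conv z w) = Char.groupSumOp ρ z * Char.groupSumOp ρ w := by
  simp only [Char.groupSumOp, conv_eq_sum, Finset.sum_smul, Finset.sum_mul]
  rw [Finset.sum_comm]
  refine Finset.sum_congr rfl fun x _ => ?_
  rw [Finset.mul_sum]
  refine (Fintype.sum_equiv (Equiv.mulLeft x) _ _ fun y => ?_).symm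
  simp [map_mul, Equiv.coe_mulLeft, smul_smul, mul_comm (w y) (z x)]

theorem op_add (z w : G → ℂ) :
    Char.groupSumOp ρ (z + w) = Char.groupSumOp ρ z + Char.groupSumOp ρ w := by
  simp only [Char.groupSumOp, Pi.add_apply, add_smul, Finset.sum_add_distrib]

theorem op_sub (z w : G → ℂ) :
    Char.groupSumOp ρ (z - w) = Char.groupSumOp ρ z - Char.groupSumOp ρ w := by
  simp only [Char.groupSumOp, Pi.sub_apply, sub_smul, Finset.sum_sub_distrib]

theorem op_delta : Char.groupSumOp ρ delta = 1 := by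
  rw [Char.groupSumOp, Finset.sum_eq_single (1 : G)]
  · rw [delta_one, one_smul, map_one]
  · intro x _ hx; rw [delta_of_ne hx, zero_smul]
  · simp

theorem rho_mul_op (y : G) (f : G → ℂ) :
    ρ y * Char.groupSumOp ρ f = Char.groupSumOp ρ (fun g => f (y⁻¹ * g * y)) * ρ y := by
  simp only [Char.groupSumOp, Finset.mul_sum, Finset.sum_mul]
  refine Fintype.sum_equiv (MulAut.conj y).toEquiv _ _ fun g => ?_
  have e : (MulAut.conj y).toEquiv g = y * g * y⁻¹ := rfl
  rw [e, mul_smul_comm, smul_mul_assoc, ← map_mul, ← map_mul, inv_mul_cancel_right,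
    show y⁻¹ * (y * g * y⁻¹) * y = g by group]

theorem rho_mul_op_left (v : G) (f : G → ℂ) :
    ρ v * Char.groupSumOp ρ f = Char.groupSumOp ρ fun g => f (v⁻¹ * g) := by
  simp only [Char.groupSumOp, Finset.mul_sum]
  refine Fintype.sum_equiv (Equiv.mulLeft v) _ _ fun g => ?_
  rw [mul_smul_comm, ← map_mul, Equiv.coe_mulLeft, inv_mul_cancel_left]

end op

theorem conv_eps_self [Finite G] (N : Subgroup G) : conv (eps N) (eps N) = eps N := by
  classical
  have := Fintype.ofFinite G
  ext g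
  rw [conv_eq_sum]
  by_cases hg : g ∈ N
  · rw [eps_of_mem hg, ← Finset.sum_subset (Finset.subset_univ (Finset.univ.filter fun x => x ∈ N))]
    · rw [Finset.sum_congr rfl (g := fun _ => (Nat.card N : ℂ)⁻¹ * (Nat.card N : ℂ)⁻¹)]
      · have hc : (Finset.univ.filter fun x => x ∈ N).card = Nat.card N := by
          rw [Nat.card_eq_fintype_card, Fintype.card_subtype]
        rw [Finset.sum_const, nsmul_eq_mul, hc, ← mul_assoc,
          mul_inv_cancel₀ (Nat.cast_ne_zero.mpr Nat.card_pos.ne'), one_mul]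
      · intro x hx
        have hx' : x ∈ N := (Finset.mem_filter.1 hx).2
        rw [eps_of_mem hx', eps_of_mem (N.mul_mem (N.inv_mem hx') hg)]
    · intro x _ hx
      rw [eps_of_notMem (fun h => hx (Finset.mem_filter.2 ⟨Finset.mem_univ _, h⟩)), zero_mul]
  · rw [eps_of_notMem hg]
    refine Finset.sum_eq_zero fun x _ => ?_
    by_cases hx : x ∈ N
    · rw [eps_of_notMem fun h => hg ((mul_inv_cancel_left x g) ▸ N.mul_mem hx h), mul_zero]
    · rw [eps_of_notMem hx, zero_mul]

theorem memR_eps (hM : IsPModular p M) {N : Subgroup G} (hN : ¬ p ∣ Nat.card N) (x : G) :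
    MemLocalRing M (eps N x) := by
  by_cases h : x ∈ N
  · rw [eps_of_mem h]; exact memR_natCast_inv hM hN
  · rw [eps_of_notMem h]; exact memR_zero hM

theorem memR_delta (hM : IsPModular p M) (x : G) : MemLocalRing M (delta x) := by
  rcases eq_or_ne x 1 with rfl | h
  · rw [delta_one]; exact memR_one hM
  · rw [delta_of_ne h]; exact memR_zero hM

/-- A normal `p'`-subgroup is absorbed by the principal block idempotent. -/
theorem conv_principal_eps [Finite G] (hM : IsPModular p M) (N : Subgroup G) [N.Normal]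
    (hN : ¬ p ∣ Nat.card N) :
    conv (blockCoeff (principalBlock M G)) (eps N) = blockCoeff (principalBlock M G) := by
  classical
  have := Fintype.ofFinite G
  have hcl : IsClassFunction G (eps N) := fun g h => by
    have := eps_invariant (N := N) (y := h⁻¹) (fun o => by
      rw [inv_inv]
      exact ⟨fun ho => by simpa [mul_assoc] using Subgroup.Normal.conj_mem inferInstance _ ho h⁻¹,
        fun ho => Subgroup.Normal.conj_mem inferInstance _ ho h⟩) g
    rwa [inv_inv] at this
  have key : ∀ χ ∈ principalBlock M G, omega (χ : G → ℂ) (eps N) = 1 := by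
    intro χ hχ
    have h0 : omega (χ : G → ℂ) (eps N) * omega (χ : G → ℂ) (eps N) = omega (χ : G → ℂ) (eps N) := by
      rw [← omega_conv hcl hcl, conv_eps_self]
    have h1 := intRing_congr hM (omega_mem_intRing hM hcl (memR_eps hM hN)) (χ := χ)
      (ψ := BrauerPairs.oneIrr G) (Blocks.sameBlock_symm hχ)
    have h2 : omega (BrauerPairs.oneIrr G : G → ℂ) (eps N) = 1 := by
      rw [omega_eq_sum, ← Finset.sum_subset (Finset.subset_univ (Finset.univ.filter fun x => x ∈ N))]
      · rw [Finset.sum_congr rfl (g := fun _ => (Nat.card N : ℂ)⁻¹)]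
        · have hc : (Finset.univ.filter fun x => x ∈ N).card = Nat.card N := by
            rw [Nat.card_eq_fintype_card, Fintype.card_subtype]
          rw [Finset.sum_const, nsmul_eq_mul, hc,
            mul_inv_cancel₀ (Nat.cast_ne_zero.mpr Nat.card_pos.ne')]
          simp [BrauerPairs.oneIrr]
        · intro x hx
          rw [eps_of_mem (Finset.mem_filter.1 hx).2]
          simp [BrauerPairs.oneIrr]
      · intro x _ hx
        rw [eps_of_notMem (fun h => hx (Finset.mem_filter.2 ⟨Finset.mem_univ _, h⟩)), zero_mul]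
    simp only [omegaFun, h2] at h1
    rcases eq_or_ne (omega (χ : G → ℂ) (eps N)) 0 with hz | hz
    · rw [hz, zero_sub] at h1
      exact absurd (neg_neg (1 : ℂ) ▸ memI_neg h1) (not_memI_one hM)
    · exact mul_right_cancel₀ hz (h0.trans (one_mul _).symm)
  rw [blockCoeff_eq_ofOmega]
  conv_lhs => rw [← ofOmega_omega hcl, ← ofOmega_mul]
  congr 1
  ext χ
  rw [Pi.mul_apply]
  by_cases h : χ ∈ principalBlock M G
  · rw [blockInd_of_mem h, one_mul]; exact key χ h
  · rw [blockInd_of_notMem h, zero_mul]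

/-- An element congruent to `1` is a unit of the convolution algebra. -/
theorem exists_conv_inverse [Fintype G] (hM : IsPModular p M) {m : G → ℂ}
    (hm : ∀ x, MemLocalIdeal M (m x)) : ∃ f : G → ℂ, conv (delta + m) f = delta := by
  classical
  let D : Matrix G G ℂ := fun a b => delta (a * b⁻¹) + m (a * b⁻¹)
  have hD : D.det ≠ 0 := by
    refine det_ne_zero_of_congr_one hM D fun a b => ?_
    simp only [D]
    rcases eq_or_ne a b with rfl | h
    · rw [mul_inv_cancel, delta_one, Matrix.one_apply_eq, add_sub_cancel_left]; exact hm 1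
    · rw [delta_of_ne (fun h' => h (mul_inv_eq_one.1 h')), Matrix.one_apply_ne h, zero_add, sub_zero]
      exact hm _
  refine ⟨fun b => D⁻¹ b 1, funext fun a => ?_⟩
  have h1 := congrFun (congrFun (Matrix.mul_nonsing_inv D (isUnit_iff_ne_zero.mpr hD)) a) 1
  rw [Matrix.mul_apply] at h1
  rw [conv_eq_sum]
  have h2 : (1 : Matrix G G ℂ) a 1 = delta a := by
    rcases eq_or_ne a 1 with rfl | h
    · rw [Matrix.one_apply_eq, delta_one]
    · rw [Matrix.one_apply_ne h, delta_of_ne h]
  rw [← h2, ← h1]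
  refine Fintype.sum_equiv ((Equiv.inv G).trans (Equiv.mulRight a)) _ _ fun x => ?_
  simp [D]

theorem memI_conv_left [Fintype G] (hM : IsPModular p M) {f k : G → ℂ}
    (hf : ∀ x, MemLocalRing M (f x)) (hk : ∀ x, MemLocalIdeal M (k x)) (g : G) :
    MemLocalIdeal M (conv f k g) := by
  rw [conv_eq_sum]; exact memI_sum hM _ fun x _ => memI_mul_left hM (hf _) (hk _)

theorem memI_conv_right [Fintype G] (hM : IsPModular p M) {f k : G → ℂ}
    (hf : ∀ x, MemLocalIdeal M (f x)) (hk : ∀ x, MemLocalRing M (k x)) (g : G) :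
    MemLocalIdeal M (conv f k g) := by
  rw [conv_eq_sum]; exact memI_sum hM _ fun x _ => memI_mul_right hM (hf _) (hk _)

/-- The operator of the principal block idempotent. -/
theorem op_principal [Fintype G] {n : ℕ} (ρ : Representation ℂ G (Fin n → ℂ)) [ρ.IsIrreducible]
    {χ : IrrCharacter G} (hρ : ρ.character = (χ : G → ℂ)) (hχ : χ ∈ principalBlock M G) :
    Char.groupSumOp ρ (blockCoeff (principalBlock M G)) = 1 := by
  rw [Char.groupSumOp_eq_smul ρ (Blocks.isClassFunction_blockCoeff _)]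
  have h1 := omega_ofOmega (blockInd (principalBlock M G)) χ
  rw [← blockCoeff_eq_ofOmega, blockInd_of_mem hχ, omega_eq_sum] at h1
  have h2 : (Module.finrank ℂ (Fin n → ℂ) : ℂ) = (χ : G → ℂ) 1 := by
    rw [← hρ, Representation.char_one]
  rw [hρ, h2, h1, one_smul, Module.End.one_eq_id]

/-- Weights off `C(u)` that are twisted by conjugation with `y = u * v`. -/
theorem exists_weight [Finite G] (hM : IsPModular p M) {u v : G} (hu : ∃ k, orderOf u = p ^ k)
    (huv : Commute u v) (hv : ¬ p ∣ orderOf v) :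
    ∃ (ζ : ℂ) (θ : G → ℂ), ζ ≠ 1 ∧ (∀ x, MemLocalIdeal M (θ x - 1)) ∧
      ∀ x, ¬ Commute x u → θ (u * v * x * (u * v)⁻¹) = ζ * θ x := by
  classical
  obtain ⟨k, hk⟩ := hu
  set y := u * v
  obtain ⟨ζ, hζ⟩ : ∃ ζ : ℂ, IsPrimitiveRoot ζ p := ⟨_, Complex.isPrimitiveRoot_exp p hM.1.ne_zero⟩
  have hζ1 : ζ ≠ 1 := hζ.ne_one hM.1.one_lt
  have hmem : ∀ j : ℤ, ¬ (p : ℤ) ∣ j → ∀ r, Commute r (y ^ j) → Commute r u := by
    intro j hj r hr
    have h1 : (y ^ j) ^ orderOf v = u ^ (j * orderOf v) := by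
      rw [← zpow_natCast, ← zpow_mul, huv.mul_zpow, mul_comm j, zpow_mul v, zpow_natCast,
        pow_orderOf_eq_one, one_zpow, mul_one]
    have h2 : Commute r (u ^ (j * orderOf v)) := h1 ▸ hr.pow_right _
    have hcop : IsCoprime (j * orderOf v) ((orderOf u : ℕ) : ℤ) := by
      rw [hk, Nat.cast_pow]
      refine IsCoprime.pow_right ?_
      refine ((Nat.prime_iff_prime_int.mp hM.1).coprime_iff_not_dvd.mpr fun h => ?_).symm
      rcases (Nat.prime_iff_prime_int.mp hM.1).dvd_mul.mp h with h | h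
      · exact hj h
      · exact hv (by exact_mod_cast h)
    obtain ⟨a, b, hab⟩ := hcop
    have h3 : (u ^ (j * orderOf v)) ^ a = u := by
      rw [← zpow_mul, mul_comm, show a * (j * (orderOf v : ℤ)) = 1 - b * (orderOf u : ℤ) by
        linear_combination hab, zpow_sub, zpow_one, mul_comm b, zpow_mul, zpow_natCast,
        pow_orderOf_eq_one, one_zpow, inv_one, mul_one]
    exact h3 ▸ h2.zpow_right a
  let S : Setoid G :=
    ⟨fun a b => ∃ j : ℤ, y ^ j * a * (y ^ j)⁻¹ = b,
      fun a => ⟨0, by simp⟩,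
      fun {a b} h => by
        obtain ⟨j, rfl⟩ := h
        exact ⟨-j, by rw [zpow_neg]; group⟩,
      fun {a b c} h h' => by
        obtain ⟨j, rfl⟩ := h
        obtain ⟨l, rfl⟩ := h'
        exact ⟨l + j, by rw [zpow_add]; group⟩⟩
  have hex : ∀ x, ∃ j : ℤ, y ^ j * (Quotient.mk S x).out * (y ^ j)⁻¹ = x :=
    fun x => Quotient.exact (Quotient.out_eq (Quotient.mk S x))
  have hpow : ∀ j : ℤ, (ζ ^ j) ^ p ^ 1 = 1 := fun j => by
    rw [pow_one, ← zpow_natCast, ← zpow_mul, mul_comm, zpow_mul, zpow_natCast, hζ.pow_eq_one, one_zpow]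
  refine ⟨ζ, fun x => ζ ^ (hex x).choose, hζ1, fun x => memI_sub_one_of_pow_eq_one hM (hpow _), ?_⟩
  intro x hx
  set x' := y * x * y⁻¹
  have hq : Quotient.mk S x' = Quotient.mk S x :=
    Quotient.sound (S.symm ⟨1, by simp [x']⟩)
  obtain ⟨j, hj⟩ : ∃ j, j = (hex x).choose := ⟨_, rfl⟩
  obtain ⟨l, hl⟩ : ∃ l, l = (hex x').choose := ⟨_, rfl⟩
  have h1 := (hex x).choose_spec
  have h2 := (hex x').choose_spec
  rw [← hj] at h1
  rw [← hl] at h2
  rw [hq] at h2
  simp only [← hj, ← hl]
  set r := (Quotient.mk S x).out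
  have h3 : Commute r (y ^ (l - (j + 1))) := by
    have h4 : y ^ l * r * (y ^ l)⁻¹ = y ^ (j + 1) * r * (y ^ (j + 1))⁻¹ := by
      rw [h2, zpow_add, zpow_one, (Commute.zpow_self y j).eq]
      simp only [x', ← h1, mul_inv_rev, mul_assoc]
    rw [zpow_sub]
    show r * (y ^ l * (y ^ (j + 1))⁻¹) = y ^ l * (y ^ (j + 1))⁻¹ * r
    have hc : (y ^ (j + 1))⁻¹ * y ^ l = y ^ l * (y ^ (j + 1))⁻¹ :=
      ((Commute.zpow_zpow_self y l (j + 1)).inv_right).eq.symm
    calc r * (y ^ l * (y ^ (j + 1))⁻¹)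
        = (y ^ (j + 1))⁻¹ * (y ^ (j + 1) * r * (y ^ (j + 1))⁻¹) * y ^ l := by
          rw [← hc]; group
      _ = y ^ l * (y ^ (j + 1))⁻¹ * r := by rw [← h4, ← hc]; group
  by_cases hd : (p : ℤ) ∣ l - (j + 1)
  · obtain ⟨t, ht⟩ := hd
    rw [show l = (j + 1) + (p : ℤ) * t by omega, zpow_add₀ (hζ.ne_zero hM.1.ne_zero), zpow_mul,
      zpow_natCast, hζ.pow_eq_one, one_zpow, mul_one, zpow_add₀ (hζ.ne_zero hM.1.ne_zero), zpow_one,
      mul_comm]
  · refine absurd ?_ hx
    have h5 := hmem _ hd r h3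
    have h6 : Commute u (y ^ j) := ((Commute.refl u).mul_right huv).zpow_right j
    rw [← h1]
    exact ((h6.symm.mul_left h5).mul_left h6.symm.inv_left)

/-- The trace of `ρ (u * v)` on the complement of the fixed space of `O` is zero. -/
theorem trace_mul_eq_zero [Fintype G] [Fact p.Prime] (hM : IsPModular p M) {u v : G}
    (hu : ∃ k, orderOf u = p ^ k) (O : Subgroup G) (hO : ¬ p ∣ Nat.card O)
    (hOc : ∀ o ∈ O, Commute o u) (hOn : ∀ c, Commute c u → ∀ o ∈ O, c * o * c⁻¹ ∈ O) (hv : v ∈ O)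
    {χ : IrrCharacter G} (hχ : χ ∈ principalBlock M G) {n : ℕ}
    (ρ : Representation ℂ G (Fin n → ℂ)) [ρ.IsIrreducible] (hρ : ρ.character = (χ : G → ℂ)) :
    LinearMap.trace ℂ _ (ρ (u * v) * (1 - Char.groupSumOp ρ (eps O))) = 0 := by
  classical
  have huv : Commute u v := (hOc v hv).symm
  have hvp : ¬ p ∣ orderOf v := fun h => hO (h.trans (Subgroup.orderOf_dvd_natCard _ hv))
  obtain ⟨ζ, θ, hζ, hθI, hθ⟩ := exists_weight hM hu huv hvp
  set C := Subgroup.centralizer ((Subgroup.zpowers u : Subgroup G) : Set G) with hC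
  have hCmem : ∀ x, x ∈ C ↔ Commute x u := fun x => by
    rw [hC, Subgroup.mem_centralizer_iff]
    refine ⟨fun h => (h u (Subgroup.mem_zpowers u)).symm, fun h z hz => ?_⟩
    obtain ⟨i, rfl⟩ := Subgroup.mem_zpowers_iff.mp hz
    exact (h.zpow_right i).symm
  have hOC : O ≤ C := fun o ho => (hCmem o).2 (hOc o ho)
  have hP : IsPGroup p (Subgroup.zpowers u) := by
    obtain ⟨k, hk⟩ := hu
    exact IsPGroup.of_card (n := k) (by rw [Nat.card_zpowers, hk])
  let a : G → ℂ := blockCoeff (principalBlock M G)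
  let eC : G → ℂ := fun x => if h : x ∈ C then blockCoeff (principalBlock M C) ⟨x, h⟩ else 0
  let a' : G → ℂ := fun x => if x ∈ C then 0 else θ x * a x
  have haR : ∀ x, MemLocalRing M (a x) := fun x => memR_principal hM G x
  have hh : ∀ x, MemLocalIdeal M ((a' - a + eC) x) := by
    intro x
    simp only [Pi.add_apply, Pi.sub_apply, a', eC]
    by_cases hx : x ∈ C
    · rw [if_pos hx, dif_pos hx, zero_sub, neg_add_eq_sub]
      exact memI_sub_comm (third_main_principal hM _ hP ⟨x, hx⟩)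
    · rw [if_neg hx, dif_neg hx, add_zero, ← sub_one_mul]
      exact memI_mul_right hM (hθI x) (haR x)
  have heC : conv eC (eps O) = eC := by
    haveI : (O.subgroupOf C).Normal := ⟨fun o ho c =>
      Subgroup.mem_subgroupOf.2 (hOn c ((hCmem c).1 c.2) o (Subgroup.mem_subgroupOf.1 ho))⟩
    have hcard : Nat.card (O.subgroupOf C) = Nat.card O :=
      Nat.card_congr (Subgroup.subgroupOfEquivOfLe hOC).toEquiv
    have hsub := conv_principal_eps (G := C) hM (O.subgroupOf C) (hcard ▸ hO)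
    ext x
    rw [conv_eq_sum, ← Finset.sum_subset (Finset.subset_univ (Finset.univ.filter fun z => z ∈ C))]
    · rw [Finset.sum_subtype (p := fun z => z ∈ C) _ (fun z => by simp)]
      by_cases hx : x ∈ C
      · have h1 := congrFun hsub ⟨x, hx⟩
        rw [conv_eq_sum] at h1
        simp only [eC, dif_pos hx]
        rw [← h1]
        refine Finset.sum_congr rfl fun z _ => ?_
        rw [dif_pos z.2]
        congr 1
        by_cases hz : (z : G)⁻¹ * x ∈ O
        · rw [eps_of_mem hz, eps_of_mem (Subgroup.mem_subgroupOf.2 hz), hcard]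
        · rw [eps_of_notMem hz, eps_of_notMem fun h => hz (Subgroup.mem_subgroupOf.1 h)]
      · simp only [eC, dif_neg hx]
        refine Finset.sum_eq_zero fun z _ => ?_
        rw [eps_of_notMem fun h => hx (mul_inv_cancel_left (z : G) x ▸ C.mul_mem z.2 (hOC h)), mul_zero]
    · intro z _ hz
      simp only [eC, dif_neg (fun h => hz (Finset.mem_filter.2 ⟨Finset.mem_univ _, h⟩)), zero_mul]
  set y := u * v with hy
  have hyu : Commute y u := (Commute.refl u).mul_left huv.symm
  obtain ⟨A, hA⟩ : ∃ A, A = Char.groupSumOp ρ a := ⟨_, rfl⟩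
  obtain ⟨F, hF⟩ : ∃ F, F = Char.groupSumOp ρ a' := ⟨_, rfl⟩
  obtain ⟨EC, hEC⟩ : ∃ EC, EC = Char.groupSumOp ρ eC := ⟨_, rfl⟩
  obtain ⟨Pr, hPr⟩ : ∃ Pr, Pr = Char.groupSumOp ρ (eps O) := ⟨_, rfl⟩
  obtain ⟨E, hE⟩ : ∃ E, E = 1 - Pr := ⟨_, rfl⟩
  rw [← hPr, ← hE]
  have hA1 : A = 1 := hA.trans (op_principal ρ hρ hχ)
  have hPP : Pr * Pr = Pr := by rw [hPr, ← op_conv, conv_eps_self]
  have hEE : E * E = E := by
    simp only [hE, sub_mul, mul_sub, one_mul, mul_one, hPP, sub_self, sub_zero]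
  have hECE : EC * E = 0 := by
    rw [hE, mul_sub, mul_one, hPr, hEC, ← op_conv, heC, sub_self]
  have hyP : ρ y * Pr = Pr * ρ y := by
    rw [hPr, rho_mul_op]
    congr 2
    funext g
    refine eps_invariant (fun o => ⟨fun ho => ?_, fun ho => ?_⟩) g
    · simpa [mul_assoc] using hOn y hyu _ ho
    · simpa [mul_assoc] using hOn y⁻¹ hyu.inv_left _ ho
  have hyE : ρ y * E = E * ρ y := by rw [hE, mul_sub, sub_mul, hyP, mul_one, one_mul]
  have hyF : ρ y * F = ζ⁻¹ • (F * ρ y) := by
    have h1 : (fun g => a' (y⁻¹ * g * y)) = ζ⁻¹ • a' := by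
      funext g
      have hgC : y⁻¹ * g * y ∈ C ↔ g ∈ C := by
        have hyC : y ∈ C := (hCmem y).2 hyu
        rw [C.mul_mem_cancel_right hyC, C.mul_mem_cancel_left (C.inv_mem hyC)]
      simp only [a', Pi.smul_apply, smul_eq_mul]
      by_cases hg : g ∈ C
      · rw [if_pos hg, if_pos (hgC.2 hg), mul_zero]
      · rw [if_neg hg, if_neg (fun h => hg (hgC.1 h))]
        have h2 := hθ (y⁻¹ * g * y) (fun h => hg (hgC.1 ((hCmem _).2 h)))
        have h4 : u * v * (y⁻¹ * g * y) * (u * v)⁻¹ = g := by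
          show y * (y⁻¹ * g * y) * y⁻¹ = g
          group
        rw [h4] at h2
        have h3 : a (y⁻¹ * g * y) = a g := by
          have := Blocks.isClassFunction_blockCoeff (principalBlock M G) g y⁻¹
          rwa [inv_inv] at this
        have h0 : ζ ≠ 0 := fun h0 => by
          have := hθI g
          rw [h2, h0, zero_mul, zero_sub] at this
          exact absurd (neg_neg (1 : ℂ) ▸ memI_neg this) (not_memI_one hM)
        rw [h3, h2, mul_assoc ζ, inv_mul_cancel_left₀ h0]
    rw [hF, rho_mul_op, h1, ← smul_mul_assoc]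
    congr 1
    simp only [Char.groupSumOp, Pi.smul_apply, Finset.smul_sum, smul_smul, smul_eq_mul]
  -- an invertible operator congruent to the identity
  have hmI : ∀ x, MemLocalIdeal M (conv (delta - eps O) (conv (a' - a + eC) (delta - eps O)) x) :=
    memI_conv_left hM (fun x => memR_sub hM (memR_delta hM x) (memR_eps hM hO x))
      (memI_conv_right hM hh fun x => memR_sub hM (memR_delta hM x) (memR_eps hM hO x))
  obtain ⟨f, hf⟩ := exists_conv_inverse hM hmI
  obtain ⟨G0, hG0⟩ : ∃ G0, G0 = Pr + E * F * E := ⟨_, rfl⟩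
  obtain ⟨G1, hG1⟩ : ∃ G1, G1 = Char.groupSumOp ρ f := ⟨_, rfl⟩
  have hinv : G0 * G1 = 1 := by
    rw [← op_delta ρ, ← hf, op_conv, op_add, op_conv, op_conv, op_sub, op_add, op_sub, op_delta,
      ← hA, ← hPr, ← hE, ← hF, ← hEC, ← hG1, hA1, add_mul (F - 1) EC E, hECE, add_zero,
      sub_mul F, one_mul E, mul_sub E (F * E) E, hEE, ← mul_assoc E F E, hG0, hE]
    congr 1
    abel
  have hinv' : G1 * G0 = 1 := mul_eq_one_comm.1 hinv
  obtain ⟨T, hT⟩ : ∃ T, T = ρ y * E := ⟨_, rfl⟩
  rw [← hT]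
  have hPE : Pr * E = 0 := by rw [hE, mul_sub, mul_one, hPP, sub_self]
  have hEP : E * Pr = 0 := by rw [hE, sub_mul, one_mul, hPP, sub_self]
  have hET : E * T = T := by rw [hT, ← mul_assoc, ← hyE, mul_assoc, hEE]
  have h1 : T * G0 = ζ⁻¹ • (G0 * T) := by
    have hl : T * G0 = ζ⁻¹ • (E * F * T) := by
      calc T * G0 = ρ y * E * F * E := by
            rw [hT, hG0, mul_add, mul_assoc (ρ y) E Pr, hEP, mul_zero, zero_add, ← mul_assoc,
              ← mul_assoc, mul_assoc (ρ y) E E, hEE]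
        _ = E * (ρ y * F) * E := by rw [hyE, mul_assoc E (ρ y) F]
        _ = ζ⁻¹ • (E * F * T) := by
            rw [hyF, mul_smul_comm, smul_mul_assoc, hT]; simp only [mul_assoc]
    rw [hl]
    congr 1
    rw [hG0, add_mul, mul_assoc (E * F) E T, hET]
    rw [hT, hyE, ← mul_assoc Pr, hPE, zero_mul, zero_add]
  have h2 : LinearMap.trace ℂ _ T = ζ⁻¹ * LinearMap.trace ℂ _ T :=
    calc LinearMap.trace ℂ _ T = LinearMap.trace ℂ _ (T * G0 * G1) := by rw [mul_assoc, hinv, mul_one]
      _ = ζ⁻¹ * LinearMap.trace ℂ _ (G0 * T * G1) := by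
          rw [h1, smul_mul_assoc, map_smul, smul_eq_mul]
      _ = ζ⁻¹ * LinearMap.trace ℂ _ T := by
          rw [LinearMap.trace_mul_comm, ← mul_assoc, hinv', one_mul]
  by_contra h0
  exact hζ (inv_eq_one.1 ((mul_eq_right₀ h0).1 h2.symm))

/-- The second main theorem for the principal block, in the form used for `Z*`. -/
theorem apply_mul_eq [Finite G] [Fact p.Prime] (hM : IsPModular p M) {u v : G}
    (hu : ∃ k, orderOf u = p ^ k) (O : Subgroup G) (hO : ¬ p ∣ Nat.card O)
    (hOc : ∀ o ∈ O, Commute o u) (hOn : ∀ c, Commute c u → ∀ o ∈ O, c * o * c⁻¹ ∈ O) (hv : v ∈ O)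
    {χ : IrrCharacter G} (hχ : χ ∈ principalBlock M G) :
    (χ : G → ℂ) (u * v) = (χ : G → ℂ) u := by
  have := Fintype.ofFinite G
  obtain ⟨n, ρ, hirr, hρ⟩ := χ.2
  have key : ∀ w ∈ O, (χ : G → ℂ) (u * w) =
      LinearMap.trace ℂ _ (ρ (u * w) * Char.groupSumOp ρ (eps O)) := by
    intro w hw
    have h := trace_mul_eq_zero hM hu O hO hOc hOn hw hχ ρ hρ
    rw [mul_sub, mul_one, map_sub, sub_eq_zero] at h
    rw [← h, ← hρ]; rfl
  have hw : ρ v * Char.groupSumOp ρ (eps O) = Char.groupSumOp ρ (eps O) := by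
    rw [rho_mul_op_left]
    congr 1
    funext g
    by_cases hg : g ∈ O
    · rw [eps_of_mem hg, eps_of_mem (O.mul_mem (O.inv_mem hv) hg)]
    · rw [eps_of_notMem hg, eps_of_notMem fun h => hg ((mul_inv_cancel_left v g) ▸ O.mul_mem hv h)]
  have h1 := key 1 O.one_mem
  rw [mul_one] at h1
  rw [key v hv, map_mul ρ, mul_assoc, hw, ← h1]

end Cfsg.Agent.ZStar
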