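import Cfsg.Agent.Lib.ZStar.KleinBlock
import Cfsg.Agent.Lib.ZStar.SecondPrincipal
import Cfsg.Agent.Lib.ClassCount.CharSum
import Cfsg.Agent.Lib.Blocks.Simple
import Cfsg.Agent.Lib.Blocks.Induced
import Cfsg.Agent.S0111
import Cfsg.Agent.S3224

/-!
# Simple groups with a normal Klein four Sylow subgroup in an involution centralizer

* `sylow_eq`: the four-group is a Sylow subgroup of the whole group
* `card_eq_sum`: Brauer's order formula from the principal block
* `sum_div_ge`: the bound on the character sum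
* `card_cent_eq_four`: the centralizer is the four-group and the group has order 60
-/

set_option autoImplicit false

open scoped ComplexConjugate

namespace Cfsg.Agent.KleinSimple

open Cfsg Subgroup

variable {G : Type*} [Group G] [Finite G]

omit [Finite G] in
/-- A cyclic group has at most one involution. -/
theorem eq_of_orderOf_two {c a b : G} (hc : IsOfFinOrder c) (ha : a ∈ zpowers c) (hb : b ∈ zpowers c)
    (ha2 : orderOf a = 2) (hb2 : orderOf b = 2) : a = b := by
  have key : ∀ d ∈ zpowers c, orderOf d = 2 → d = c ^ (orderOf c / 2) := by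
    intro d hd hd2
    obtain ⟨i, hi⟩ := (Submonoid.mem_powers_iff _ _).1 (hc.mem_powers_iff_mem_zpowers.2 hd)
    rw [← pow_mod_orderOf] at hi
    have hlt := Nat.mod_lt i hc.orderOf_pos
    generalize i % orderOf c = j at hi hlt
    subst hi
    have h2 : orderOf c ∣ j * 2 := by
      rw [orderOf_dvd_iff_pow_eq_one, pow_mul]
      exact hd2 ▸ pow_orderOf_eq_one (c ^ j)
    have hj : j ≠ 0 := fun h => by simp [h] at hd2
    obtain ⟨e, he⟩ := h2
    have h1 : e = 1 := by
      rcases Nat.lt_or_ge e 2 with h | h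
      · interval_cases e
        · omega
        · rfl
      · have := Nat.mul_le_mul_left (orderOf c) h
        omega
    subst h1
    congr 1
    omega
  rw [key a ha ha2, key b hb hb2]

omit [Finite G] in
theorem card_cent_conj (g x : G) : Nat.card (centralizer ({g * x * g⁻¹} : Set G)) =
    Nat.card (centralizer ({x} : Set G)) :=
  Nat.card_congr (Equiv.subtypeEquiv (MulAut.conj g⁻¹).toEquiv fun y => by
    rw [mem_centralizer_singleton_iff, mem_centralizer_singleton_iff]
    show y * (g * x * g⁻¹) = g * x * g⁻¹ * y ↔ g⁻¹ * y * g⁻¹⁻¹ * x = x * (g⁻¹ * y * g⁻¹⁻¹)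
    rw [inv_inv]
    constructor
    · intro h
      calc g⁻¹ * y * g * x = g⁻¹ * (y * (g * x * g⁻¹)) * g := by group
        _ = g⁻¹ * ((g * x * g⁻¹) * y) * g := by rw [h]
        _ = x * (g⁻¹ * y * g) := by group
    · intro h
      calc y * (g * x * g⁻¹) = g * (g⁻¹ * y * g * x) * g⁻¹ := by group
        _ = g * (x * (g⁻¹ * y * g)) * g⁻¹ := by rw [h]
        _ = g * x * g⁻¹ * y := by group)

theorem not_abelian_of_klein [IsSimpleGroup G] (V : Subgroup G) (hV : IsKleinFour V) :
    ∃ a b : G, a * b ≠ b * a := by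
  haveI := hV
  by_contra! h
  haveI : V.Normal := ⟨fun n hn g => by rw [h g n, mul_inv_cancel_right]; exact hn⟩
  have hV4 : Nat.card V = 4 := IsKleinFour.card_four
  rcases (inferInstance : V.Normal).eq_bot_or_eq_top with e | e
  · rw [e, card_bot] at hV4; omega
  · obtain ⟨x, hx⟩ := exists_prime_orderOf_dvd_card' (hp := ⟨Nat.prime_two⟩) (G := G) 2
      (by rw [← card_top (G := G), ← e, hV4]; norm_num)
    haveI : (zpowers x).Normal := ⟨fun n hn g => by rw [h g n, mul_inv_cancel_right]; exact hn⟩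
    rcases (inferInstance : (zpowers x).Normal).eq_bot_or_eq_top with e' | e'
    · rw [zpowers_eq_bot] at e'; simp [e'] at hx
    · rw [← e', ] at e
      rw [e, Nat.card_zpowers, hx] at hV4
      omega

theorem no_index_two [IsSimpleGroup G] (h : 2 < Nat.card G) (M : Subgroup G) [M.Normal] :
    M.index ≠ 2 := by
  intro hM
  rcases (inferInstance : M.Normal).eq_bot_or_eq_top with e | e
  · rw [e, index_bot] at hM; omega
  · rw [e, index_top] at hM; omega

/-- The four-group is a Sylow subgroup of the simple group. -/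
theorem sylow_eq [IsSimpleGroup G] {x : G} (hx : orderOf x = 2) {S₀ : Subgroup G}
    (hle : S₀ ≤ centralizer ({x} : Set G)) (hK : IsKleinFour S₀)
    (hodd : ¬ 2 ∣ S₀.relIndex (centralizer ({x} : Set G))) (hxS : x ∈ S₀) :
    ∃ T : Sylow 2 G, (T : Subgroup G) = S₀ := by
  haveI : Fact (Nat.Prime 2) := ⟨Nat.prime_two⟩
  haveI := hK
  set C := centralizer ({x} : Set G)
  have h4 : Nat.card S₀ = 4 := IsKleinFour.card_four
  obtain ⟨T, hT⟩ := (IsPGroup.of_card (p := 2) (G := S₀) (n := 2) h4).exists_le_sylow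
  refine ⟨T, (eq_of_le_of_card_ge hT ?_).symm⟩
  rw [h4]
  by_contra hlt
  push Not at hlt
  have hinf : C ⊓ (T : Subgroup G) = S₀ := by
    refine le_antisymm (relIndex_eq_one.1 ?_) (le_inf hle hT)
    have h1 := relIndex_mul_relIndex S₀ (C ⊓ (T : Subgroup G)) C (le_inf hle hT) inf_le_left
    obtain ⟨a, ha⟩ := IsPGroup.iff_card.1 (T.isPGroup'.to_le (inf_le_right : C ⊓ (T : Subgroup G) ≤ _))
    have h2 := S₀.relIndex_dvd_card (C ⊓ (T : Subgroup G))
    rw [ha] at h2
    obtain ⟨b, -, hb⟩ := (Nat.dvd_prime_pow Nat.prime_two).1 h2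
    rcases Nat.eq_zero_or_pos b with rfl | hb0
    · exact hb
    · exact absurd ((hb ▸ dvd_pow_self 2 hb0.ne').trans (Dvd.intro _ h1)) hodd
  set x' : (T : Subgroup G) := ⟨x, hT hxS⟩
  have hx' : orderOf x' = 2 := by rw [orderOf_mk, hx]
  have hc4 : Nat.card (centralizer ({x'} : Set (T : Subgroup G))) = 4 := by
    have e : centralizer ({x'} : Set (T : Subgroup G)) = C.subgroupOf (T : Subgroup G) := by
      ext y
      rw [mem_centralizer_singleton_iff, mem_subgroupOf, mem_centralizer_singleton_iff, Subtype.ext_iff]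
      rfl
    rw [e, ← inf_subgroupOf_right, hinf, Nat.card_congr (subgroupOfEquivOfLe hT).toEquiv, h4]
  obtain ⟨a, ha⟩ := IsPGroup.iff_card.1 T.isPGroup'
  obtain ⟨c, hc, hxc⟩ := S3224.exists_cyclic_index_two a T.isPGroup' ha x' hx' hc4 hlt
  have hidx0 : (zpowers c).index = 2 := by
    have h := (zpowers c).card_mul_index
    rw [Nat.card_zpowers, ← hc] at h
    exact Nat.eq_of_mul_eq_mul_left (orderOf_pos c) h
  have hidx : ((zpowers c).map (T : Subgroup G).subtype).relIndex (T : Subgroup G) = 2 := by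
    show (((zpowers c).map (T : Subgroup G).subtype).subgroupOf (T : Subgroup G)).index = 2
    rw [subgroupOf, comap_map_eq_self_of_injective (T : Subgroup G).subtype_injective, hidx0]
  rcases S0111.result T _ (map_subtype_le _) hidx x hx (hT hxS)
    (fun h => by obtain ⟨y, hy, he⟩ := h; exact hxc (by rwa [show x' = y from Subtype.ext he.symm]))
    with ⟨M, hMn, hM, -⟩ | ⟨g, y, hy, he⟩
  · haveI := hMn
    have hG : 2 < Nat.card G := by
      have := Nat.le_of_dvd Nat.card_pos (T : Subgroup G).card_subgroup_dvd_card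
      omega
    exact no_index_two hG M hM
  · have hyo : orderOf y = 2 := by
      rw [← orderOf_coe, show (y : G) = g * x * g⁻¹ from he, Involution.orderOf_conj, hx]
    haveI : (zpowers c).Normal := normal_of_index_eq_two hidx0
    have hTle : (T : Subgroup G) ≤ centralizer ({g * x * g⁻¹} : Set G) := by
      intro t ht
      have h := eq_of_orderOf_two (isOfFinOrder_of_finite c)
        ((inferInstance : (zpowers c).Normal).conj_mem y hy ⟨t, ht⟩) hy
        (by rw [Involution.orderOf_conj, hyo]) hyo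
      rw [mem_centralizer_singleton_iff, ← show (y : G) = g * x * g⁻¹ from he]
      exact mul_inv_eq_iff_eq_mul.1 (congrArg Subtype.val h)
    have hd := card_dvd_of_le hTle
    rw [card_cent_conj] at hd
    have hC : Nat.card C = 4 * S₀.relIndex C := by
      rw [← h4, ← relIndex_bot_left, ← relIndex_bot_left, relIndex_mul_relIndex ⊥ S₀ C bot_le hle]
    rw [hC, ha] at hd
    have h5 := Nat.le_of_dvd (by norm_num)
      ((Nat.Coprime.pow_left a (Nat.prime_two.coprime_iff_not_dvd.2 hodd)).dvd_of_dvd_mul_right hd)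
    rw [← ha] at h5
    omega

/-- All involutions are conjugate. -/
theorem isConj_involutions [IsSimpleGroup G] (P : Sylow 2 G) [IsKleinFour (P : Subgroup G)] {s t : G}
    (hs : orderOf s = 2) (ht : orderOf t = 2) : IsConj s t := by
  haveI : Fact (Nat.Prime 2) := ⟨Nat.prime_two⟩
  have hG : 2 < Nat.card G := by
    have h := Nat.le_of_dvd Nat.card_pos (P : Subgroup G).card_subgroup_dvd_card
    have h4 : Nat.card (P : Subgroup G) = 4 := IsKleinFour.card_four
    omega
  have key : ∀ u w : G, u ∈ (P : Subgroup G) → w ∈ (P : Subgroup G) → orderOf u = 2 → orderOf w = 2 →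
      IsConj u w := by
    intro u w hu hw hu2 hw2
    by_cases huw : u = w
    · rw [huw]
    have hrel : (zpowers w).relIndex (P : Subgroup G) = 2 := by
      have h := relIndex_mul_relIndex ⊥ (zpowers w) (P : Subgroup G) bot_le (zpowers_le.2 hw)
      rw [relIndex_bot_left, relIndex_bot_left, Nat.card_zpowers, hw2, IsKleinFour.card_four] at h
      omega
    have hmem : ∀ a ∈ zpowers w, orderOf a = 2 → a = w := fun a ha ha2 =>
      eq_of_orderOf_two (isOfFinOrder_of_finite w) ha (mem_zpowers w) ha2 hw2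
    rcases S0111.result P _ (zpowers_le.2 hw) hrel u hu2 hu (fun h => huw (hmem u h hu2)) with
      ⟨M, hMn, hM, -⟩ | ⟨g, hg⟩
    · haveI := hMn
      exact absurd hM (no_index_two hG M)
    · exact isConj_iff.2 ⟨g, hmem _ hg (by rw [Involution.orderOf_conj, hu2])⟩
  have into : ∀ u : G, orderOf u = 2 → ∃ w ∈ (P : Subgroup G), orderOf w = 2 ∧ IsConj u w := by
    intro u hu
    obtain ⟨R, hR⟩ := (IsPGroup.of_card (n := 1) (by rw [Nat.card_zpowers, hu, pow_one]) :
      IsPGroup 2 (zpowers u)).exists_le_sylow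
    obtain ⟨g, hg⟩ := MulAction.exists_smul_eq G R P
    refine ⟨g * u * g⁻¹, ?_, by rw [Involution.orderOf_conj, hu], isConj_iff.2 ⟨g, rfl⟩⟩
    rw [← hg]
    exact ⟨u, hR (mem_zpowers u), rfl⟩
  obtain ⟨w, hw, hw2, hsw⟩ := into s hs
  obtain ⟨w', hw', hw2', htw⟩ := into t ht
  exact hsw.trans ((key w w' hw hw' hw2 hw2').trans htw.symm)

open Classical in
/-- Summed over the coset of the complement only the principal block is visible at an involution. -/
theorem coset_sum {x : G} (hx : orderOf x = 2)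
    {K : Subgroup G} [Fintype K] (hKodd : ¬ 2 ∣ Nat.card K) (hKz : ∀ o ∈ K, Commute o x)
    (hKn : ∀ c, Commute c x → ∀ o ∈ K, c * o * c⁻¹ ∈ K)
    (hcard : Nat.card (centralizer ({x} : Set G)) = 4 * Nat.card K)
    {M : Ideal AlgInt} (hM : IsPModular 2 M) {s : IrrCharacter G → ℤ} {B : Finset (IrrCharacter G)}
    (hB : ∀ χ, χ ∈ B ↔ χ ∈ principalBlock M G) (hcard4 : B.card = 4)
    (hunit : ∀ χ ∈ B, s χ = 1 ∨ s χ = -1)
    (hval : ∀ χ ∈ B, ∀ u, orderOf u = 2 → (χ : G → ℂ) u = (s χ : ℂ)) (χ : IrrCharacter G) :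
    ∑ y : K, (χ : G → ℂ) (x * y) = if χ ∈ B then (Nat.card K : ℂ) * (s χ : ℂ) else 0 := by
  classical
  haveI : Fact (Nat.Prime 2) := ⟨Nat.prime_two⟩
  have := Fintype.ofFinite G
  have := Fintype.ofFinite (IrrCharacter G)
  set C := centralizer ({x} : Set G)
  set k := Nat.card K with hk
  have hKC : ∀ o ∈ K, o ∈ C := fun o ho => mem_centralizer_singleton_iff.2 (hKz o ho).eq
  let φ : IrrCharacter G → ℂ := fun χ => ∑ y : K, (χ : G → ℂ) (x * y)
  have hφB : ∀ χ ∈ B, φ χ = (k : ℂ) * (s χ : ℂ) := by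
    intro χ hχ
    show ∑ y : K, (χ : G → ℂ) (x * y) = _
    rw [Finset.sum_congr rfl (g := fun _ => (s χ : ℂ)), Finset.sum_const, nsmul_eq_mul,
      Finset.card_univ, hk, Nat.card_eq_fintype_card]
    intro y _
    rw [ZStar.apply_mul_eq hM ⟨1, by rw [hx, pow_one]⟩ K hKodd hKz hKn y.2 ((hB χ).1 hχ),
      hval χ hχ x hx]
  -- a power of `x * y` is `x`
  obtain ⟨e, he⟩ : Odd k := Nat.not_even_iff_odd.1 fun h => hKodd (even_iff_two_dvd.1 h)
  have hpow : ∀ y ∈ K, (x * y) ^ k = x := by
    intro y hy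
    rw [(hKz y hy).symm.mul_pow, show y ^ k = 1 from congrArg Subtype.val
      (pow_card_eq_one' (x := (⟨y, hy⟩ : K))), mul_one, he, pow_succ, pow_mul, pow_two,
      Involution.mul_self hx, one_pow, one_mul]
  have hconj : ∀ (y y' : K) (g : G), g * (x * y) * g⁻¹ = x * y' → g ∈ C := by
    intro y y' g hg
    have h := congrArg (· ^ k) hg
    simp only [conj_pow, hpow _ y.2, hpow _ y'.2] at h
    exact mem_centralizer_singleton_iff.2 (mul_inv_eq_iff_eq_mul.1 h)
  -- the squared length of `φ`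
  have hlen : ∑ χ, φ χ * conj (φ χ) = ((4 * k * k : ℕ) : ℂ) := by
    have hswap : ∑ χ, φ χ * conj (φ χ) = ∑ y : K, ∑ y' : K,
        ∑ χ : IrrCharacter G, (χ : G → ℂ) (x * y) * conj ((χ : G → ℂ) (x * y')) := by
      simp only [φ, map_sum, Finset.sum_mul_sum]
      rw [Finset.sum_comm]
      refine Finset.sum_congr rfl fun y _ => Finset.sum_comm
    have hterm : ∀ y y' : K, ∑ χ : IrrCharacter G, (χ : G → ℂ) (x * y) * conj ((χ : G → ℂ) (x * y')) =
        (Nat.card {g : G // g * (x * y) * g⁻¹ = x * y'} : ℂ) := by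
      intro y y'
      rw [Char.column_orth]
      split_ifs with h
      · obtain ⟨g, hg⟩ := isConj_iff.1 h
        congr 1
        refine Nat.card_congr ⟨fun c => ⟨g * c, ?_⟩, fun d => ⟨g⁻¹ * d, ?_⟩, ?_, ?_⟩
        · have hc := mem_centralizer_singleton_iff.1 c.2
          calc g * c * (x * y) * (g * c)⁻¹ = g * (c * (x * y)) * (c : G)⁻¹ * g⁻¹ := by group
            _ = g * (x * y * c) * (c : G)⁻¹ * g⁻¹ := by rw [hc]
            _ = g * (x * y) * g⁻¹ := by group
            _ = _ := hg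
        · rw [mem_centralizer_singleton_iff]
          calc g⁻¹ * d * (x * y) = g⁻¹ * ((d : G) * (x * y) * (d : G)⁻¹) * d := by group
            _ = g⁻¹ * (g * (x * y) * g⁻¹) * d := by rw [d.2, hg]
            _ = x * y * (g⁻¹ * d) := by group
        · intro c; exact Subtype.ext (inv_mul_cancel_left g (c : G))
        · intro d; exact Subtype.ext (mul_inv_cancel_left g (d : G))
      · have : IsEmpty {g : G // g * (x * y) * g⁻¹ = x * y'} :=
          ⟨fun g => h (isConj_iff.2 ⟨g.1, g.2⟩)⟩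
        simp
    rw [hswap]
    simp only [hterm]
    rw [Finset.sum_congr rfl (g := fun _ => ((4 * k : ℕ) : ℂ))]
    · rw [Finset.sum_const, nsmul_eq_mul, Finset.card_univ, ← Nat.card_eq_fintype_card, ← hk]
      push_cast; ring
    intro y _
    rw [← Nat.cast_sum, ← hcard, ← Nat.card_sigma]
    congr 1
    refine Nat.card_congr ⟨fun p => ⟨p.2.1, hconj y p.1 p.2.1 p.2.2⟩,
      fun c => ⟨⟨(c : G) * y * (c : G)⁻¹, hKn c (mem_centralizer_singleton_iff.1 c.2) y y.2⟩,
        ⟨c, ?_⟩⟩, ?_, ?_⟩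
    · show (c : G) * (x * y) * (c : G)⁻¹ = x * ((c : G) * y * (c : G)⁻¹)
      rw [← mul_assoc (c : G) x, mem_centralizer_singleton_iff.1 c.2]
      simp only [mul_assoc]
    · rintro ⟨y', g, hg⟩
      have hgx := mem_centralizer_singleton_iff.1 (hconj y y' g hg)
      have h' : g * y * g⁻¹ = y' := mul_left_cancel (a := x) (by
        rw [← hg, ← mul_assoc g x, hgx]; simp only [mul_assoc])
      exact Sigma.subtype_ext (Subtype.ext h') rfl
    · intro c; rfl
  -- only the principal block contributes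
  have hsq : ∀ χ ∈ B, φ χ * conj (φ χ) = ((k * k : ℕ) : ℂ) := by
    intro χ hχ
    rw [hφB χ hχ]
    rcases hunit χ hχ with h | h <;> rw [h] <;> push_cast <;> simp
  have hout : ∀ χ, χ ∉ B → φ χ = 0 := by
    intro χ hχ
    have hrest : ∑ ψ ∈ Bᶜ, φ ψ * conj (φ ψ) = 0 := by
      have h := (Finset.sum_add_sum_compl B fun ψ => φ ψ * conj (φ ψ)).trans hlen
      rw [Finset.sum_congr rfl hsq, Finset.sum_const, hcard4, nsmul_eq_mul] at h
      push_cast at h
      linear_combination h
    simp only [Complex.mul_conj, ← Complex.ofReal_sum, Complex.ofReal_eq_zero] at hrest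
    exact Complex.normSq_eq_zero.1 ((Finset.sum_eq_zero_iff_of_nonneg fun ψ _ =>
      Complex.normSq_nonneg _).1 hrest χ (Finset.mem_compl.2 hχ))
  by_cases hχ : χ ∈ B
  · rw [if_pos hχ]; exact hφB χ hχ
  · rw [if_neg hχ]; exact hout χ hχ

/-- Products of two involutions in the coset of the complement, counted through the principal block. -/
theorem card_mul_pairs {x : G} (hx : orderOf x = 2)
    {K : Subgroup G} [Fintype K] (hKodd : ¬ 2 ∣ Nat.card K) (hKz : ∀ o ∈ K, Commute o x)
    (hKn : ∀ c, Commute c x → ∀ o ∈ K, c * o * c⁻¹ ∈ K)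
    (hcard : Nat.card (centralizer ({x} : Set G)) = 4 * Nat.card K)
    {M : Ideal AlgInt} (hM : IsPModular 2 M) {s : IrrCharacter G → ℤ} {B : Finset (IrrCharacter G)}
    (hB : ∀ χ, χ ∈ B ↔ χ ∈ principalBlock M G) (hcard4 : B.card = 4)
    (hunit : ∀ χ ∈ B, s χ = 1 ∨ s χ = -1)
    (hval : ∀ χ ∈ B, ∀ u, orderOf u = 2 → (χ : G → ℂ) u = (s χ : ℂ)) :
    (Nat.card G : ℂ) * ((∑ y : K, ClassCount.fibreCount x x (x * y) : ℕ) : ℂ) =
      (Nat.card K : ℂ) * ((centralizer ({x} : Set G)).index : ℂ) * (centralizer ({x} : Set G)).index *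
        ∑ χ ∈ B, (s χ : ℂ) / (χ : G → ℂ) 1 := by
  classical
  have := Fintype.ofFinite G
  have := Fintype.ofFinite (IrrCharacter G)
  set C := centralizer ({x} : Set G)
  set k := Nat.card K
  let φ : IrrCharacter G → ℂ := fun χ => ∑ y : K, (χ : G → ℂ) (x * y)
  have hφB : ∀ χ ∈ B, φ χ = (k : ℂ) * (s χ : ℂ) := fun χ hχ =>
    (coset_sum hx hKodd hKz hKn hcard hM hB hcard4 hunit hval χ).trans (if_pos hχ)
  have hout : ∀ χ, χ ∉ B → φ χ = 0 := fun χ hχ =>
    (coset_sum hx hKodd hKz hKn hcard hM hB hcard4 hunit hval χ).trans (if_neg hχ)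
  have hφinv : ∀ χ : IrrCharacter G, ∑ y : K, (χ : G → ℂ) (x * y)⁻¹ = φ χ := fun χ =>
    Fintype.sum_equiv (Equiv.inv K) _ _ fun y => by
      rw [Equiv.inv_apply, InvMemClass.coe_inv, mul_inv_rev, Involution.inv_eq hx,
        ((hKz y y.2).inv_left).eq]
  push_cast
  have hmain : (Nat.card G : ℂ) * ∑ y : K, (ClassCount.fibreCount x x (x * y) : ℂ) = ∑ χ : IrrCharacter G,
      (χ : G → ℂ) 1 * ClassCount.omega (χ : G → ℂ) x * ClassCount.omega (χ : G → ℂ) x * φ χ := by
    simp only [← hφinv, Finset.mul_sum]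
    rw [Finset.sum_comm]
    exact Finset.sum_congr rfl fun χ _ => ClassCount.card_mul_fibreCount x x _
  rw [← Finset.sum_subset (Finset.subset_univ B) fun χ _ h => by rw [hout χ h, mul_zero]] at hmain
  rw [hmain, Finset.sum_congr rfl
    (g := fun χ => ((k : ℂ) * (C.index : ℂ) * C.index) * ((s χ : ℂ) / (χ : G → ℂ) 1)), ← Finset.mul_sum]
  intro χ hχ
  have h1 : (χ : G → ℂ) 1 ≠ 0 := by
    rw [← Blocks.charDegree_cast]; exact Nat.cast_ne_zero.2 (Blocks.charDegree_pos χ).ne'
  rw [hφB χ hχ, ClassCount.omega_eq_centralChar, centralChar, hval χ hχ x hx]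
  rcases hunit χ hχ with h | h <;> rw [h] <;> push_cast <;> field_simp <;> ring

/-- Brauer's order formula for a four-group in the centre of an involution centralizer. -/
theorem card_eq_sum (P : Sylow 2 G) [IsKleinFour (P : Subgroup G)] {x : G} (hx : orderOf x = 2)
    (hxP : x ∈ (P : Subgroup G)) (hone : ∀ s t : G, orderOf s = 2 → orderOf t = 2 → IsConj s t)
    {K : Subgroup G} (hKodd : ¬ 2 ∣ Nat.card K) (hKz : ∀ o ∈ K, Commute o x)
    (hKn : ∀ c, Commute c x → ∀ o ∈ K, c * o * c⁻¹ ∈ K)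
    (hcard : Nat.card (centralizer ({x} : Set G)) = 4 * Nat.card K)
    (hinv : ∀ u ∈ centralizer ({x} : Set G), orderOf u = 2 → u ∈ (P : Subgroup G))
    {M : Ideal AlgInt} (hM : IsPModular 2 M) {s : IrrCharacter G → ℤ} {B : Finset (IrrCharacter G)}
    (hB : ∀ χ, χ ∈ B ↔ χ ∈ principalBlock M G) (hcard4 : B.card = 4)
    (hunit : ∀ χ ∈ B, s χ = 1 ∨ s χ = -1)
    (hval : ∀ χ ∈ B, ∀ u, orderOf u = 2 → (χ : G → ℂ) u = (s χ : ℂ)) :
    (8 : ℂ) = ((centralizer ({x} : Set G)).index : ℂ) *
      ∑ χ ∈ B, (s χ : ℂ) / (χ : G → ℂ) 1 := by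
  classical
  haveI : Fact (Nat.Prime 2) := ⟨Nat.prime_two⟩
  have := Fintype.ofFinite K
  set C := centralizer ({x} : Set G)
  set k := Nat.card K with hk
  have hKC : ∀ o ∈ K, o ∈ C := fun o ho => mem_centralizer_singleton_iff.2 (hKz o ho).eq
  obtain ⟨e, he⟩ : Odd k := Nat.not_even_iff_odd.1 fun h => hKodd (even_iff_two_dvd.1 h)
  have hpow : ∀ y ∈ K, (x * y) ^ k = x := by
    intro y hy
    rw [(hKz y hy).symm.mul_pow, show y ^ k = 1 from congrArg Subtype.val
      (pow_card_eq_one' (x := (⟨y, hy⟩ : K))), mul_one, he, pow_succ, pow_mul, pow_two,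
      Involution.mul_self hx, one_pow, one_mul]
  -- products of two involutions
  have hfib : ∀ y : K, ClassCount.fibreCount x x (x * y) = if (y : G) = 1 then 2 else 0 := by
    intro y
    have hP : ∀ g : G, IsConj x g → IsConj x (g⁻¹ * (x * y)) →
        g ∈ (P : Subgroup G) ∧ g ≠ x ∧ g ≠ 1 ∧ (y : G) = 1 := by
      intro g hg hh
      have hg2 : orderOf g = 2 := by obtain ⟨c, rfl⟩ := isConj_iff.1 hg; rw [Involution.orderOf_conj, hx]
      have hh2 : orderOf (g⁻¹ * (x * y)) = 2 := by
        obtain ⟨c, hc⟩ := isConj_iff.1 hh; rw [← hc, Involution.orderOf_conj, hx]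
      have hgi := Involution.inv_eq hg2
      have hw : g * (x * y) * g⁻¹ = (x * y)⁻¹ := by
        have h := Involution.mul_self hh2
        rw [hgi] at h ⊢
        refine eq_inv_of_mul_eq_one_left ?_
        rw [mul_assoc (g * (x * y))]; exact h
      have hgC : g ∈ C := by
        refine mem_centralizer_singleton_iff.2 (mul_inv_eq_iff_eq_mul.1 ?_)
        have h := congrArg (· ^ k) hw
        simp only [conj_pow, inv_pow, hpow _ y.2] at h
        rw [h, Involution.inv_eq hx]
      have hyC := hKC y y.2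
      have hgP := hinv g hgC hg2
      have hh' := hinv _ (mul_mem (inv_mem hgC)
        (mul_mem (mem_centralizer_singleton_iff.2 rfl) hyC)) hh2
      have hyP : (y : G) ∈ (P : Subgroup G) := by
        have e' : (y : G) = x⁻¹ * (g * (g⁻¹ * (x * y))) := by group
        rw [e']
        exact (P : Subgroup G).mul_mem ((P : Subgroup G).inv_mem hxP) ((P : Subgroup G).mul_mem hgP hh')
      have hy1 : (y : G) = 1 := by
        have h2 : (y : G) ^ 2 = 1 := by rw [pow_two]; exact KleinBlock.sq_eq_one P hyP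
        have h := Nat.dvd_gcd (orderOf_dvd_of_pow_eq_one h2) (K.orderOf_dvd_natCard y.2)
        rwa [Nat.Coprime.gcd_eq_one (Nat.prime_two.coprime_iff_not_dvd.2 hKodd), Nat.dvd_one,
          orderOf_eq_one_iff] at h
      refine ⟨hgP, fun e' => ?_, Involution.ne_one hg2, hy1⟩
      rw [e', hy1, mul_one, inv_mul_cancel, orderOf_one] at hh2
      omega
    split_ifs with hy
    · have hxx : ∀ g : G, g ∈ (P : Subgroup G) → g ≠ 1 → orderOf g = 2 := fun g hg h1 =>
        Involution.orderOf_of_sq (KleinBlock.sq_eq_one P hg) h1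
      rw [ClassCount.fibreCount, Nat.card_congr (Equiv.subtypeEquivRight
        (q := fun g => g ∈ (P : Subgroup G) ∧ g ≠ x ∧ g ≠ 1) fun g => ⟨fun h =>
          ⟨(hP g h.1 h.2).1, (hP g h.1 h.2).2.1, (hP g h.1 h.2).2.2.1⟩, fun h => ?_⟩)]
      · have hset : {g : G | g ∈ (P : Subgroup G) ∧ g ≠ x ∧ g ≠ 1} =
            ((P : Subgroup G) : Set G) \ {x, 1} := by ext g; simp; intros; rfl
        show Nat.card ↥{g : G | g ∈ (P : Subgroup G) ∧ g ≠ x ∧ g ≠ 1} = 2
        rw [hset, Nat.card_coe_set_eq, Set.ncard_sdiff (Set.insert_subset hxP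
          (Set.singleton_subset_iff.2 (one_mem (P : Subgroup G)))), Set.ncard_pair (Involution.ne_one hx),
          ← Nat.card_coe_set_eq]
        have h4 : Nat.card (P : Subgroup G) = 4 := IsKleinFour.card_four
        simp only [SetLike.coe_sort_coe, h4]
      · refine ⟨hone x g hx (hxx g h.1 h.2.2), hone x _ hx ?_⟩
        rw [hy, mul_one]
        exact hxx _ ((P : Subgroup G).mul_mem ((P : Subgroup G).inv_mem h.1) hxP)
          (fun e' => h.2.1 (inv_mul_eq_one.1 e'))
    · have : IsEmpty {g : G // IsConj x g ∧ IsConj x (g⁻¹ * (x * y))} :=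
        ⟨fun g => hy (hP g.1 g.2.1 g.2.2).2.2.2⟩
      exact Nat.card_of_isEmpty
  have hmain := card_mul_pairs hx hKodd hKz hKn hcard hM hB hcard4 hunit hval
  simp only [hfib] at hmain
  have hsum : (∑ y : K, if (y : G) = 1 then 2 else 0 : ℕ) = 2 := by
    rw [Finset.sum_eq_single (1 : K)]
    · simp
    · intro y _ hy
      exact if_neg fun h => hy (Subtype.ext h)
    · simp
  rw [hsum, ← C.card_mul_index, hcard] at hmain
  have hk0 : (k : ℂ) ≠ 0 := Nat.cast_ne_zero.2 Nat.card_pos.ne'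
  have hm0 : (C.index : ℂ) ≠ 0 := Nat.cast_ne_zero.2 index_ne_zero_of_finite
  push_cast at hmain
  refine mul_left_cancel₀ (mul_ne_zero hk0 hm0) ?_
  linear_combination hmain

/-- The arithmetic of four signed degrees. -/
theorem sum_div_ge {d₁ d₂ d₃ e₁ e₂ e₃ : ℤ} (he₁ : e₁ = 1 ∨ e₁ = -1) (he₂ : e₂ = 1 ∨ e₂ = -1)
    (he₃ : e₃ = 1 ∨ e₃ = -1) (h₁ : 3 ≤ d₁) (h₂ : 3 ≤ d₂) (h₃ : 3 ≤ d₃)
    (hsum : 1 + e₁ * d₁ + e₂ * d₂ + e₃ * d₃ = 0) :
    (1 : ℚ) / 3 ≤ 1 + (e₁ : ℚ) / d₁ + (e₂ : ℚ) / d₂ + (e₃ : ℚ) / d₃ := by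
  have key : ∀ d : ℤ, 3 ≤ d → (0 : ℚ) ≤ 1 / (d : ℚ) ∧ 1 / (d : ℚ) ≤ 1 / 3 := fun d hd => by
    have : (3 : ℚ) ≤ d := by exact_mod_cast hd
    exact ⟨by positivity, one_div_le_one_div_of_le (by norm_num) this⟩
  obtain ⟨a0, a1⟩ := key d₁ h₁
  obtain ⟨b0, b1⟩ := key d₂ h₂
  obtain ⟨c0, c1⟩ := key d₃ h₃
  rcases he₁ with rfl | rfl <;> rcases he₂ with rfl | rfl <;> rcases he₃ with rfl | rfl <;>
    simp only [Int.cast_one, Int.cast_neg, neg_div] at * <;> first | omega | linarith

/-- The centralizer is the four-group, and the order is 60. -/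
theorem card_cent_eq_four [IsSimpleGroup G] {x : G} (hx : orderOf x = 2) {S₀ : Subgroup G}
    (hle : S₀ ≤ centralizer ({x} : Set G)) (hK : IsKleinFour S₀)
    (hodd : ¬ 2 ∣ S₀.relIndex (centralizer ({x} : Set G)))
    (hn : (S₀.subgroupOf (centralizer ({x} : Set G))).Normal) :
    Nat.card (centralizer ({x} : Set G)) = 4 ∧
      (∀ c ∈ centralizer ({x} : Set G), c ^ 2 = 1) ∧ Nat.card G = 60 := by
  classical
  haveI : Fact (Nat.Prime 2) := ⟨Nat.prime_two⟩
  haveI := hn
  set C := centralizer ({x} : Set G) with hCdef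
  have hself : x ∈ C := mem_centralizer_singleton_iff.2 rfl
  -- `x` lies in the normal four-group
  have hxS : x ∈ S₀ := by
    set π := QuotientGroup.mk' (S₀.subgroupOf C)
    have h1 : orderOf (π ⟨x, hself⟩) ∣ 2 := (orderOf_map_dvd π _).trans (by rw [orderOf_mk, hx])
    have h2 : orderOf (π ⟨x, hself⟩) ∣ S₀.relIndex C := orderOf_dvd_natCard _
    have h := Nat.eq_one_of_dvd_coprimes (Nat.prime_two.coprime_iff_not_dvd.2 hodd) h1 h2
    exact (QuotientGroup.eq_one_iff (⟨x, hself⟩ : C)).1 (orderOf_eq_one_iff.1 h)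
  obtain ⟨P, hP⟩ := sylow_eq hx hle hK hodd hxS
  haveI : IsKleinFour (P : Subgroup G) := by rw [hP]; exact hK
  subst hP
  have hone : ∀ s t : G, orderOf s = 2 → orderOf t = 2 → IsConj s t :=
    fun s t hs ht => isConj_involutions P hs ht
  have hna := not_abelian_of_klein (P : Subgroup G) inferInstance
  obtain ⟨K, hKodd, hKz, hKn, -, hcard⟩ := KleinBlock.exists_complement P hx hxS
  have h4 : Nat.card (P : Subgroup G) = 4 := IsKleinFour.card_four
  have hPK : ∀ a ∈ (P : Subgroup G), a ∈ K → a = 1 := fun a ha haK => by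
    have h := Nat.dvd_gcd (orderOf_dvd_of_pow_eq_one (show a ^ 2 = 1 by
      rw [pow_two]; exact KleinBlock.sq_eq_one P ha)) (K.orderOf_dvd_natCard haK)
    rwa [Nat.Coprime.gcd_eq_one (Nat.prime_two.coprime_iff_not_dvd.2 hKodd), Nat.dvd_one,
      orderOf_eq_one_iff] at h
  have hPcomm : ∀ a ∈ (P : Subgroup G), ∀ b ∈ (P : Subgroup G), a * b = b * a := fun a ha b hb =>
    congrArg Subtype.val (mul_comm_of_exponent_two (IsKleinFour.exponent_two)
      (⟨a, ha⟩ : (P : Subgroup G)) ⟨b, hb⟩)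
  -- `C` centralises the four-group
  have hCP : C ≤ centralizer ((P : Subgroup G) : Set G) := by
    set D := C ⊓ centralizer ((P : Subgroup G) : Set G) with hD
    have hPD : (P : Subgroup G) ≤ D := le_inf hle fun a ha b hb => hPcomm b hb a ha
    have hKD : K ≤ D := by
      intro o ho
      refine ⟨mem_centralizer_singleton_iff.2 (hKz o ho).eq, fun a ha => ?_⟩
      have hoC : o ∈ C := mem_centralizer_singleton_iff.2 (hKz o ho).eq
      have h1 : o * a * o⁻¹ ∈ (P : Subgroup G) :=
        (inferInstance : ((P : Subgroup G).subgroupOf C).Normal).conj_mem ⟨a, hle ha⟩ ha ⟨o, hoC⟩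
      have h2 : a * o⁻¹ * a⁻¹ ∈ K := hKn a (mem_centralizer_singleton_iff.1 (hle ha)) _ (inv_mem ho)
      have h3 : o * a * o⁻¹ * a⁻¹ = 1 := hPK _
        ((P : Subgroup G).mul_mem h1 ((P : Subgroup G).inv_mem ha))
        (by simpa only [mul_assoc] using mul_mem ho h2)
      exact (mul_inv_eq_iff_eq_mul.1 (mul_inv_eq_one.1 h3)).symm
    have hd : Nat.card C ∣ Nat.card D := by
      rw [hcard]
      exact (show Nat.Coprime 4 (Nat.card K) from (Nat.prime_two.coprime_iff_not_dvd.2 hKodd).pow_left 2).mul_dvd_of_dvd_of_dvd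
        (by have h := card_dvd_of_le hPD; rw [h4] at h; exact h) (card_dvd_of_le hKD)
    have : D = C := eq_of_le_of_card_ge inf_le_left (Nat.le_of_dvd Nat.card_pos hd)
    exact this ▸ inf_le_right
  have hcent : ∀ u ∈ (P : Subgroup G), u ≠ 1 → centralizer ({u} : Set G) = C := by
    intro u hu hu1
    obtain ⟨g, hg⟩ := isConj_iff.1 (hone x u hx (Involution.orderOf_of_sq (KleinBlock.sq_eq_one P hu) hu1))
    refine (eq_of_le_of_card_ge (fun c hc => mem_centralizer_singleton_iff.2 (hCP hc u hu).symm) ?_).symm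
    rw [← hg, card_cent_conj]
  -- a Sylow subgroup through an involution is unique
  have huniqP : ∀ (R : Sylow 2 G) (u : G), u ∈ (P : Subgroup G) → u ≠ 1 → u ∈ (R : Subgroup G) → R = P := by
    intro R u hu hu1 huR
    have hRC : (R : Subgroup G) ≤ C := by
      intro r hr
      rw [← hcent u hu hu1, mem_centralizer_singleton_iff]
      have hsq : ∀ a ∈ (R : Subgroup G), a * a = 1 := fun a ha => by
        obtain ⟨j, hj⟩ := IsPGroup.iff_orderOf.1 R.isPGroup' ⟨a, ha⟩
        exact KleinBlock.sq_eq_one_of_two_power P (k := j) (by rw [← hj, orderOf_mk])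
      have h1 := hsq _ ((R : Subgroup G).mul_mem hr huR)
      calc r * u = (r * u)⁻¹ := (inv_eq_of_mul_eq_one_right h1).symm
        _ = u * r := by
          rw [mul_inv_rev, inv_eq_of_mul_eq_one_right (hsq r hr), inv_eq_of_mul_eq_one_right (hsq u huR)]
    let P' : Sylow 2 C := P.subtype hle
    let R' : Sylow 2 C := R.subtype hRC
    haveI : ((P' : Sylow 2 C) : Subgroup C).Normal := hn
    letI := Sylow.unique_of_normal P' inferInstance
    have h : (R : Subgroup G).subgroupOf C = (P : Subgroup G).subgroupOf C :=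
      congrArg (fun T : Sylow 2 C => (T : Subgroup C)) (Subsingleton.elim R' P')
    exact Sylow.ext ((inf_eq_left.2 hRC).symm.trans ((subgroupOf_inj.1 h).trans (inf_eq_left.2 hle)))
  set n := Nat.card (Sylow 2 G) with hn'
  set m := C.index with hm
  -- three involutions in each Sylow subgroup
  have hIcard : Nat.card {u : G // IsConj x u} = m := ClassCount.card_class_eq_index x
  have hm3 : m = n * 3 := by
    rw [← hIcard]
    let f : (Σ R : Sylow 2 G, {u : (R : Subgroup G) // u ≠ 1}) → {u : G // IsConj x u} := fun p =>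
      ⟨((p.2.1 : (p.1 : Subgroup G)) : G), by
        obtain ⟨j, hj⟩ := IsPGroup.iff_orderOf.1 p.1.isPGroup' p.2.1
        exact hone x _ hx (Involution.orderOf_of_sq
          (KleinBlock.sq_eq_one_of_two_power P (k := j) (by rw [orderOf_coe, hj]))
          (fun h => p.2.2 (Subtype.ext h)))⟩
    have hto : ∀ (R : Sylow 2 G) (g u : G), g • R = P → u ∈ (R : Subgroup G) → g * u * g⁻¹ ∈ (P : Subgroup G) := by
      intro R g u hg hu
      rw [← hg]; exact ⟨u, hu, rfl⟩
    have hf : Function.Bijective f := by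
      constructor
      · rintro ⟨R, ⟨u, hu⟩, hu1⟩ ⟨R', ⟨u', hu'⟩, hu1'⟩ h
        have he : u = u' := congrArg Subtype.val h
        subst he
        obtain ⟨g, hg⟩ := MulAction.exists_smul_eq G R P
        have h1 : g • R' = P := huniqP _ (g * u * g⁻¹) (hto R g u hg hu)
          (fun e => hu1 (Subtype.ext (conj_eq_one_iff.1 e))) ⟨u, hu', rfl⟩
        obtain rfl : R = R' := (smul_left_cancel g (hg.trans h1.symm))
        rfl
      · rintro ⟨u, hu⟩
        obtain ⟨g, hg⟩ := isConj_iff.1 hu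
        refine ⟨⟨g • P, ⟨u, hg ▸ ⟨x, hxS, rfl⟩⟩, fun h => ?_⟩, Subtype.ext rfl⟩
        have h' : u = 1 := congrArg Subtype.val h
        exact Involution.ne_one hx (conj_eq_one_iff.1 (hg.trans h'))
    have := Fintype.ofFinite (Sylow 2 G)
    rw [← Nat.card_congr (Equiv.ofBijective f hf), Nat.card_sigma]
    have h3 : ∀ R : Sylow 2 G, Nat.card {u : (R : Subgroup G) // u ≠ 1} = 3 := fun R => by
      have e : Nat.card (R : Subgroup G) = 4 := by rw [R.card_eq_multiplicity, ← P.card_eq_multiplicity, h4]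
      have := Nat.card_congr (Equiv.optionSubtypeNe (1 : (R : Subgroup G)))
      rw [Finite.card_option, e] at this
      omega
    simp only [h3, Finset.sum_const, smul_eq_mul, Finset.card_univ, hn', Nat.card_eq_fintype_card]
  -- `n ≡ 1 (mod 4)`
  have hn4 : ∃ j, n = 4 * j + 1 := by
    let X := {R : Sylow 2 G // R ≠ P}
    have hfixP : ∀ a : (P : Subgroup G), (a : G) • P = P := fun a =>
      Sylow.smul_eq_iff_mem_normalizer.2 (le_normalizer a.2)
    letI : MulAction (P : Subgroup G) X :=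
      { smul := fun a R => ⟨(a : G) • R.1, fun h => R.2 (smul_left_cancel (a : G) (h.trans (hfixP a).symm))⟩
        one_smul := fun R => Subtype.ext (one_smul G R.1)
        mul_smul := fun a b R => Subtype.ext (mul_smul (a : G) (b : G) R.1) }
    have hfree : ∀ R : X, MulAction.stabilizer (P : Subgroup G) R = ⊥ := by
      intro R
      rw [eq_bot_iff]
      intro a ha
      have h1 : (a : G) • R.1 = R.1 := congrArg Subtype.val (MulAction.mem_stabilizer_iff.1 ha)
      have h2 : (a : G) ∈ (P : Subgroup G) ⊓ normalizer (R.1 : Set G) :=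
        ⟨a.2, Sylow.smul_eq_iff_mem_normalizer.1 h1⟩
      rw [P.isPGroup'.inf_normalizer_sylow] at h2
      by_contra ha1
      exact R.2 (huniqP R.1 a a.2 (fun e => ha1 (mem_bot.2 (Subtype.ext e))) h2.2)
    have h := Nat.card_congr (MulAction.selfEquivOrbitsQuotientProd hfree)
    rw [Nat.card_prod, h4] at h
    refine ⟨Nat.card (Quotient (MulAction.orbitRel (P : Subgroup G) X)), ?_⟩
    have h2 : Nat.card X + 1 = n := by
      rw [← Finite.card_option]; exact Nat.card_congr (Equiv.optionSubtypeNe P)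
    omega
  -- the character bound
  obtain ⟨M, hM⟩ := Blocks.exists_isPModular Nat.prime_two
  obtain ⟨s, B, hB, hB4, hunit, hval, hmod, horth⟩ := KleinBlock.signs P hM hone
  have hinv : ∀ u ∈ C, orderOf u = 2 → u ∈ (P : Subgroup G) := by
    intro u hu hu2
    set π := QuotientGroup.mk' ((P : Subgroup G).subgroupOf C)
    have h1 : orderOf (π ⟨u, hu⟩) ∣ 2 := (orderOf_map_dvd π _).trans (by rw [orderOf_mk, hu2])
    have h := Nat.eq_one_of_dvd_coprimes (Nat.prime_two.coprime_iff_not_dvd.2 hodd) h1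
      (orderOf_dvd_natCard (π ⟨u, hu⟩))
    exact (QuotientGroup.eq_one_iff (⟨u, hu⟩ : C)).1 (orderOf_eq_one_iff.1 h)
  have hform := card_eq_sum P hx hxS hone hKodd hKz hKn hcard hinv hM hB hB4 hunit hval
  set one : IrrCharacter G := ⟨fun _ => 1, Char.isIrrCharacter_one⟩
  have hone' : one ∈ B := (hB one).2 (Blocks.sameBlock_refl hM _)
  have hs1 : s one = 1 := by
    have h : (s one : ℂ) = 1 := (hval one hone' x hx).symm
    exact_mod_cast h
  obtain ⟨a, b, c, hab, hac, hbc, habc⟩ := Finset.card_eq_three.1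
    (show (B.erase one).card = 3 by rw [Finset.card_erase_of_mem hone', hB4])
  have hdeg : ∀ χ ∈ B.erase one, 3 ≤ (charDegree (χ : G → ℂ) : ℤ) := by
    intro χ hχ
    obtain ⟨hne, hχB⟩ := Finset.mem_erase.1 hχ
    have h0 := Blocks.charDegree_pos χ
    have h1 : charDegree (χ : G → ℂ) ≠ 1 := fun h => hne (Subtype.ext
      (Blocks.eq_one_of_degree_one hna (by rw [← Blocks.charDegree_cast, h, Nat.cast_one])))
    have := hmod χ hχB
    rcases hunit χ hχB with e | e <;> rw [e] at this <;> omega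
  have hmem : ∀ χ, χ = a ∨ χ = b ∨ χ = c → χ ∈ B.erase one := fun χ h => by rw [habc]; simp [h]
  have hBsum : ∀ f : IrrCharacter G → ℂ, ∑ χ ∈ B, f χ = f one + f a + f b + f c := by
    intro f
    rw [← Finset.add_sum_erase B f hone', habc, Finset.sum_insert (by simp [hab, hac]),
      Finset.sum_pair hbc]
    ring
  have hrel : 1 + s a * (charDegree (a : G → ℂ) : ℤ) + s b * (charDegree (b : G → ℂ) : ℤ) +
      s c * (charDegree (c : G → ℂ) : ℤ) = 0 := by
    have h := horth 1 (by rw [orderOf_one]; exact odd_one)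
    rw [hBsum, hs1] at h
    simp only [← Blocks.charDegree_cast] at h
    have h1 : (charDegree (one : G → ℂ) : ℂ) = 1 := by rw [Blocks.charDegree_cast]
    rw [h1, Int.cast_one, one_mul] at h
    exact_mod_cast h
  have hS := sum_div_ge (hunit a (Finset.mem_of_mem_erase (hmem a (by simp))))
    (hunit b (Finset.mem_of_mem_erase (hmem b (by simp)))) (hunit c (Finset.mem_of_mem_erase (hmem c (by simp))))
    (hdeg a (hmem a (by simp))) (hdeg b (hmem b (by simp))) (hdeg c (hmem c (by simp))) hrel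
  have hn8 : n * 3 ≤ 24 := by
    rw [hBsum, hs1] at hform
    simp only [← Blocks.charDegree_cast] at hform
    have h1 : (charDegree (one : G → ℂ) : ℂ) = 1 := by rw [Blocks.charDegree_cast]
    rw [h1, Int.cast_one, div_one, ← hm] at hform
    have hq : (8 : ℚ) = (m : ℚ) * (1 + (s a : ℚ) / (charDegree (a : G → ℂ) : ℤ) +
        (s b : ℚ) / (charDegree (b : G → ℂ) : ℤ) + (s c : ℚ) / (charDegree (c : G → ℂ) : ℤ)) := by
      refine (algebraMap ℚ ℂ).injective ?_
      simp only [map_mul, map_add, map_div₀, map_one, map_intCast, map_natCast, map_ofNat, Int.cast_natCast]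
      exact hform
    have h8 := mul_le_mul_of_nonneg_left hS (Nat.cast_nonneg m)
    rw [← hq] at h8
    have : (m : ℚ) ≤ 24 := by linarith
    rw [← hm3]
    exact_mod_cast this
  have hn5 : n = 5 := by
    obtain ⟨j, hj⟩ := hn4
    rcases Nat.eq_zero_or_pos j with rfl | hj0
    · exfalso
      haveI : Subsingleton (Sylow 2 G) := (Finite.card_le_one_iff_subsingleton).1 (by omega)
      haveI : (P : Subgroup G).Normal := P.normal_of_subsingleton
      obtain ⟨u, w, huw⟩ := hna
      rcases (inferInstance : (P : Subgroup G).Normal).eq_bot_or_eq_top with e | e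
      · rw [e, card_bot] at h4; omega
      · exact huw (hPcomm u (e ▸ mem_top u) w (e ▸ mem_top w))
    · omega
  -- embedding in a symmetric group
  let π := MulAction.toPermHom G (Sylow 2 G)
  have hinj : Function.Injective π := by
    rw [← MonoidHom.ker_eq_bot_iff]
    refine (π.normal_ker.eq_bot_or_eq_top).resolve_right fun h => ?_
    have hsub : Subsingleton (Sylow 2 G) := ⟨fun R R' => by
      obtain ⟨g, hg⟩ := MulAction.exists_smul_eq G R R'
      have h' : π g = 1 := MonoidHom.mem_ker.1 (h ▸ mem_top g)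
      rw [← hg]
      exact (DFunLike.congr_fun h' R).symm⟩
    have := Finite.card_le_one_iff_subsingleton.2 hsub
    omega
  have hG : Nat.card G = 4 * Nat.card K * m := by rw [← hcard, hm, card_mul_index]
  have hK1 : Nat.card K = 1 := by
    have h := Subgroup.card_dvd_of_injective π hinj
    rw [Nat.card_perm, ← hn', hn5, hG, hm3, hn5] at h
    have h2 : 60 * Nat.card K ∣ 60 * 2 := by
      rw [show 60 * Nat.card K = 4 * Nat.card K * (5 * 3) by ring]
      exact h
    rcases (Nat.dvd_prime Nat.prime_two).1 (Nat.dvd_of_mul_dvd_mul_left (by norm_num) h2) with e | e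
    · exact e
    · exact absurd (e ▸ dvd_rfl) hKodd
  have hC4 : Nat.card C = 4 := by rw [hcard, hK1]
  refine ⟨hC4, fun c hc => ?_, by rw [hG, hK1, hm3, hn5]⟩
  rw [← eq_of_le_of_card_ge hle (by rw [hC4, h4])] at hc
  rw [pow_two]; exact KleinBlock.sq_eq_one P hc

end Cfsg.Agent.KleinSimple
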