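import Cfsg.Agent.Lib.ZStar.KleinSimple
import Cfsg.Agent.Lib.Cores.Basic
import Cfsg.Agent.Lib.FSInd.Basic
import Cfsg.Agent.S0895

/-!
# Brauer's order formula for a Klein four Sylow 2-subgroup

* `setup`: without normal 2-complement the Sylow subgroup is a four-group and involutions fuse
* `sum_fibreCount`: pairs of involutions with product in the coset of an involution
* `order_formula`: `8 r ^ 2 = |G : C(J)| * ∑ ε / x`
* `degree_eq`: the two characters with sign `+1` are complex conjugate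
-/

set_option autoImplicit false

open scoped ComplexConjugate

namespace Cfsg.Agent.KleinOrder

open Cfsg Subgroup

variable {G : Type*} [Group G] [Finite G]

/-- Burnside: a cyclic Sylow 2-subgroup has a normal complement. -/
theorem card_pPrimeCore_of_cyclic {H : Type*} [Group H] [Finite H] (T : Sylow 2 H)
    (hT : IsCyclic (T : Subgroup H)) (heven : 2 ∣ Nat.card H) :
    Nat.card (Cfsg.pPrimeCore 2 H) = (T : Subgroup H).index := by
  haveI : Fact (Nat.Prime 2) := ⟨Nat.prime_two⟩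
  have hmin : (Nat.card H).minFac = 2 := (Nat.minFac_eq_two_iff _).2 heven
  have hN : Subgroup.normalizer ((T : Subgroup H) : Set H) ≤ centralizer (T : Set H) :=
    IsCyclic.normalizer_le_centralizer hmin hT
  have hcompl := MonoidHom.ker_transferSylow_isComplement' T hN
  set N := (MonoidHom.transferSylow T hN).ker
  have hle : N ≤ Cfsg.pPrimeCore 2 H := Cores.le_pPrimeCore inferInstance
    ((Nat.prime_two.coprime_iff_not_dvd.2 (MonoidHom.not_dvd_card_ker_transferSylow T hN)).symm)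
  have hcardN : Nat.card N = (T : Subgroup H).index := hcompl.index_eq_card.symm
  refine le_antisymm ?_ (hcardN ▸ card_le_of_le hle)
  obtain ⟨a, ha⟩ := IsPGroup.iff_card.1 T.isPGroup'
  have h := (Cfsg.pPrimeCore 2 H).card_subgroup_dvd_card
  rw [← (T : Subgroup H).card_mul_index, ha] at h
  exact Nat.le_of_dvd (Nat.pos_of_ne_zero index_ne_zero_of_finite)
    (((Cores.coprime_card_pPrimeCore 2).pow_right a).dvd_of_dvd_mul_left h)

/-- Order `4 g₀` and no normal subgroup of order `g₀`: a four-group and one class of involutions. -/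
theorem setup {g₀ : ℕ} (hg₀ : Odd g₀) (hG : Nat.card G = 4 * g₀)
    (hnc : ¬ ∃ N : Subgroup G, N.Normal ∧ Nat.card N = g₀) (P : Sylow 2 G) :
    IsKleinFour (P : Subgroup G) ∧ ∀ s t : G, orderOf s = 2 → orderOf t = 2 → IsConj s t := by
  classical
  haveI : Fact (Nat.Prime 2) := ⟨Nat.prime_two⟩
  have hg2 : ¬ 2 ∣ g₀ := fun h => Nat.not_even_iff_odd.2 hg₀ (even_iff_two_dvd.2 h)
  have hP4 : Nat.card (P : Subgroup G) = 4 := by
    rw [P.card_eq_multiplicity, hG, show (4 : ℕ) = 2 ^ 2 from rfl,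
      Nat.factorization_mul (by norm_num) (fun h => hg2 (by rw [h]; exact dvd_zero 2)), Finsupp.add_apply,
      Nat.Prime.factorization_pow Nat.prime_two, Finsupp.single_eq_same,
      Nat.factorization_eq_zero_of_not_dvd hg2]
  -- no subgroup of index two
  have hno : ∀ M : Subgroup G, M.Normal → M.index ≠ 2 := by
    intro M hMn hM
    obtain ⟨S⟩ : Nonempty (Sylow 2 M) := inferInstance
    have hMcard : Nat.card M = 2 * g₀ := by
      have h := M.card_mul_index
      rw [hM, hG] at h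
      omega
    have hS : Nat.card (S : Subgroup M) = 2 := by
      rw [S.card_eq_multiplicity, hMcard, Nat.factorization_mul (by norm_num) (fun h => hg2 (by rw [h]; exact dvd_zero 2)),
        Finsupp.add_apply, Nat.Prime.factorization_self Nat.prime_two,
        Nat.factorization_eq_zero_of_not_dvd hg2]
      norm_num
    have h := card_pPrimeCore_of_cyclic S (isCyclic_of_prime_card hS) (hMcard ▸ dvd_mul_right 2 g₀)
    refine hnc ⟨(Cfsg.pPrimeCore 2 M).map M.subtype,
      Cores.map_subtype_normal_of_characteristic M _, ?_⟩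
    rw [Cores.card_map_subtype, h]
    have h2 := (S : Subgroup M).card_mul_index
    rw [hS, hMcard] at h2
    omega
  have hncyc : ¬ IsCyclic (P : Subgroup G) := fun hc => hnc ⟨Cfsg.pPrimeCore 2 G, inferInstance, by
    rw [card_pPrimeCore_of_cyclic P hc (hG ▸ ⟨2 * g₀, by ring⟩)]
    have h2 := (P : Subgroup G).card_mul_index
    rw [hP4, hG] at h2
    omega⟩
  haveI hK : IsKleinFour (P : Subgroup G) := by
    refine ⟨hP4, ?_⟩
    have hdvd : ∀ a : (P : Subgroup G), a ^ 2 = 1 := fun a => by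
      obtain ⟨j, hj, hj'⟩ := (Nat.dvd_prime_pow Nat.prime_two (i := orderOf a) (m := 2)).1
        (by rw [show (2 : ℕ) ^ 2 = Nat.card (P : Subgroup G) by rw [hP4]; norm_num]; exact orderOf_dvd_natCard a)
      have : j ≠ 2 := fun e => hncyc (isCyclic_of_orderOf_eq_card a (by rw [hj', e, hP4]; norm_num))
      exact orderOf_dvd_iff_pow_eq_one.1 (hj' ▸ (by interval_cases j <;> first | exact absurd rfl this | norm_num))
    rcases (Nat.dvd_prime Nat.prime_two).1 (Monoid.exponent_dvd_of_forall_pow_eq_one hdvd) with h | h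
    · haveI := Monoid.exp_eq_one_iff.1 h
      rw [Nat.card_unique] at hP4
      omega
    · exact h
  refine ⟨hK, ?_⟩
  have key : ∀ u w : G, u ∈ (P : Subgroup G) → w ∈ (P : Subgroup G) → orderOf u = 2 → orderOf w = 2 →
      IsConj u w := by
    intro u w hu hw hu2 hw2
    by_cases huw : u = w
    · rw [huw]
    have hrel : (zpowers w).relIndex (P : Subgroup G) = 2 := by
      have h := relIndex_mul_relIndex ⊥ (zpowers w) (P : Subgroup G) bot_le (zpowers_le.2 hw)
      rw [relIndex_bot_left, relIndex_bot_left, Nat.card_zpowers, hw2, hP4] at h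
      omega
    have hmem : ∀ a ∈ zpowers w, orderOf a = 2 → a = w := fun a ha ha2 =>
      KleinSimple.eq_of_orderOf_two (isOfFinOrder_of_finite w) ha (mem_zpowers w) ha2 hw2
    rcases S0111.result P _ (zpowers_le.2 hw) hrel u hu2 hu (fun h => huw (hmem u h hu2)) with
      ⟨M, hMn, hM, -⟩ | ⟨g, hg⟩
    · exact absurd hM (hno M hMn)
    · exact isConj_iff.2 ⟨g, hmem _ hg (by rw [Involution.orderOf_conj, hu2])⟩
  have into : ∀ u : G, orderOf u = 2 → ∃ w ∈ (P : Subgroup G), orderOf w = 2 ∧ IsConj u w := by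
    intro u hu
    obtain ⟨R, hR⟩ := (IsPGroup.of_card (n := 1) (by rw [Nat.card_zpowers, hu, pow_one]) :
      IsPGroup 2 (zpowers u)).exists_le_sylow
    obtain ⟨g, hg⟩ := MulAction.exists_smul_eq G R P
    refine ⟨g * u * g⁻¹, ?_, by rw [Involution.orderOf_conj, hu], isConj_iff.2 ⟨g, rfl⟩⟩
    rw [← hg]
    exact ⟨u, hR (mem_zpowers u), rfl⟩
  intro s t hs ht
  obtain ⟨w, hw, hw2, hsw⟩ := into s hs
  obtain ⟨w', hw', hw2', htw⟩ := into t ht
  exact hsw.trans ((key w w' hw hw' hw2 hw2').trans htw.symm)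

variable (P : Sylow 2 G) [IsKleinFour (P : Subgroup G)]

include P

/-- The centralizer of the four-group lies in that of each of its elements. -/
theorem centralizer_le {x : G} (hxP : x ∈ (P : Subgroup G)) :
    centralizer ((P : Subgroup G) : Set G) ≤ centralizer ({x} : Set G) := fun _ hc =>
  mem_centralizer_singleton_iff.2 (hc x hxP).symm

omit [Finite G] in
theorem le_cent {x : G} (hxP : x ∈ (P : Subgroup G)) : (P : Subgroup G) ≤ centralizer ({x} : Set G) :=
  fun a ha => mem_centralizer_singleton_iff.2 (congrArg Subtype.val (mul_comm_of_exponent_two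
    (IsKleinFour.exponent_two) (⟨a, ha⟩ : (P : Subgroup G)) ⟨x, hxP⟩))

variable {x : G}

/-- The pairs of involutions with product in `x K` number `2 r ^ 2`, `r = |C(x) : C(P)|`. -/
theorem sum_fibreCount (hx : orderOf x = 2) (hxP : x ∈ (P : Subgroup G))
    (hone : ∀ s t : G, orderOf s = 2 → orderOf t = 2 → IsConj s t)
    {K : Subgroup G} [Fintype K] (hKodd : ¬ 2 ∣ Nat.card K) (hKz : ∀ o ∈ K, Commute o x)
    (hKn : ∀ c, Commute c x → ∀ o ∈ K, c * o * c⁻¹ ∈ K)
    (hcard : Nat.card (centralizer ({x} : Set G)) = 4 * Nat.card K) :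
    ∑ y : K, ClassCount.fibreCount x x (x * y) = 2 * ((centralizer ((P : Subgroup G) : Set G)).relIndex
      (centralizer ({x} : Set G))) ^ 2 := by
  classical
  haveI : Fact (Nat.Prime 2) := ⟨Nat.prime_two⟩
  set C := centralizer ({x} : Set G)
  set k := Nat.card K
  obtain ⟨e, he⟩ : Odd k := Nat.not_even_iff_odd.1 fun h => hKodd (even_iff_two_dvd.1 h)
  have hx2 := Involution.mul_self hx
  have hPC := le_cent P hxP
  have hKC : K ≤ C := fun o ho => mem_centralizer_singleton_iff.2 (hKz o ho).eq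
  haveI hKn' : (K.subgroupOf C).Normal :=
    ⟨fun o ho c => hKn c (mem_centralizer_singleton_iff.1 c.2) o ho⟩
  set q := QuotientGroup.mk' (K.subgroupOf C) with hq
  let Q : Sylow 2 C := P.subtype hPC
  have hq1 : ∀ a : C, q a = 1 ↔ (a : G) ∈ K := fun a => QuotientGroup.eq_one_iff a
  have hqinj : ∀ a b : C, (a : G) ∈ (P : Subgroup G) → (b : G) ∈ (P : Subgroup G) → q a = q b → a = b := by
    intro a b ha hb h
    have h1 : ((a⁻¹ * b : C) : G) ∈ K := (hq1 _).1 (by rw [map_mul, map_inv, h, inv_mul_cancel])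
    have h2 : ((a⁻¹ * b : C) : G) ^ 2 = 1 := by
      rw [pow_two]; exact KleinBlock.sq_eq_one P ((P : Subgroup G).mul_mem ((P : Subgroup G).inv_mem ha) hb)
    have h3 := Nat.dvd_gcd (orderOf_dvd_of_pow_eq_one h2) (K.orderOf_dvd_natCard h1)
    rw [Nat.Coprime.gcd_eq_one (Nat.prime_two.coprime_iff_not_dvd.2 hKodd), Nat.dvd_one,
      orderOf_eq_one_iff, ← coe_one (H := C), Subtype.coe_inj, inv_mul_eq_one] at h3
    exact h3
  have hP4 : Nat.card (P : Subgroup G) = 4 := IsKleinFour.card_four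
  -- the quotient is the image of `P`
  have hqsurj : ∀ w : C ⧸ K.subgroupOf C, ∃ a : C, (a : G) ∈ (P : Subgroup G) ∧ q a = w := by
    have hcardq : Nat.card (C ⧸ K.subgroupOf C) = 4 := by
      have h := (K.subgroupOf C).card_mul_index
      rw [Nat.card_congr (subgroupOfEquivOfLe hKC).toEquiv, hcard, mul_comm 4] at h
      exact Nat.eq_of_mul_eq_mul_left Nat.card_pos h
    have hbij := Function.Injective.bijective_of_nat_card_le
      (f := fun a : (P : Subgroup G) => q ⟨a, hPC a.2⟩)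
      (fun a b h => Subtype.ext (congrArg (fun c : C => (c : G)) (hqinj _ _ a.2 b.2 h) :))
      (by rw [hcardq, hP4])
    intro w
    obtain ⟨a, ha⟩ := hbij.2 w
    exact ⟨⟨a, hPC a.2⟩, a.2, ha⟩
  have hqcomm : ∀ a b : C, q a * q b = q b * q a := by
    intro a b
    obtain ⟨a', ha', hqa⟩ := hqsurj (q a)
    obtain ⟨b', hb', hqb⟩ := hqsurj (q b)
    rw [← hqa, ← hqb, ← map_mul, ← map_mul]
    congr 1
    refine Subtype.ext ?_
    exact (congrArg Subtype.val (mul_comm_of_exponent_two (IsKleinFour.exponent_two)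
      (⟨(a' : G), ha'⟩ : (P : Subgroup G)) ⟨(b' : G), hb'⟩) :)
  have hqconj : ∀ w g : C, IsConj w g → q g = q w := by
    intro w g h
    obtain ⟨c, rfl⟩ := isConj_iff.1 h
    rw [map_mul, map_mul, map_inv, hqcomm c w, mul_inv_cancel_right]
  -- involutions of `C` are conjugate into `P`
  have hinto : ∀ g : C, orderOf g = 2 → ∃ w : C, (w : G) ∈ (P : Subgroup G) ∧ IsConj w g := by
    intro g hg
    obtain ⟨R, hR⟩ := (IsPGroup.of_card (n := 1) (by rw [Nat.card_zpowers, hg, pow_one]) :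
      IsPGroup 2 (zpowers g)).exists_le_sylow
    obtain ⟨c, hc⟩ := MulAction.exists_smul_eq C R Q
    have h : c * g * c⁻¹ ∈ (Q : Subgroup C) := by rw [← hc]; exact ⟨g, hR (mem_zpowers g), rfl⟩
    exact ⟨c * g * c⁻¹, h, (isConj_iff.2 ⟨c, rfl⟩ : IsConj g _).symm⟩
  have hxC : x ∈ C := mem_centralizer_singleton_iff.2 rfl
  obtain ⟨u₀, hu1, hu2⟩ : ∃ u : (P : Subgroup G), u ≠ 1 ∧ u ≠ ⟨x, hxP⟩ := by
    by_contra! h
    have hle : Nat.card (P : Subgroup G) ≤ 2 := by
      refine le_trans (Nat.card_le_card_of_injective (fun u => decide (u = (1 : (P : Subgroup G)))) ?_)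
        (by simp)
      intro a b hab
      simp only [decide_eq_decide] at hab
      by_cases ha : a = 1
      · rw [ha, hab.1 ha]
      · rw [h a ha, h b (fun hb => ha (hab.2 hb))]
    omega
  set u : C := ⟨u₀, hPC u₀.2⟩ with hu
  set xc : C := ⟨x, hxC⟩ with hxc
  set v : C := xc * u with hv
  have huP : (u : G) ∈ (P : Subgroup G) := u₀.2
  have hvP : (v : G) ∈ (P : Subgroup G) := (P : Subgroup G).mul_mem hxP u₀.2
  have hPsq : ∀ w : C, (w : G) ∈ (P : Subgroup G) → w * w = 1 := fun w hw =>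
    Subtype.ext (KleinBlock.sq_eq_one P hw)
  have hu1' : u ≠ 1 := fun h => hu1 (Subtype.ext (congrArg (fun c : C => (c : G)) h :))
  have hu2' : u ≠ xc := fun h => hu2 (Subtype.ext (congrArg (fun c : C => (c : G)) h :))
  have hv1 : v ≠ 1 := fun h => hu2' (by
    rw [← inv_eq_of_mul_eq_one_right h, inv_eq_of_mul_eq_one_right (hPsq xc hxP)])
  have hv2 : v ≠ xc := fun h => hu1' (mul_eq_left.1 h)
  have huv : u ≠ v := fun h => by
    have h' : xc = 1 := mul_eq_right.1 h.symm
    exact Involution.ne_one hx (congrArg Subtype.val h')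
  have hxcomm : xc * u = u * xc := Subtype.ext (mem_centralizer_singleton_iff.1 u.2).symm
  have hvxu : xc * v = u := by rw [hv, ← mul_assoc, hPsq xc hxP, one_mul]
  have huvx : u * v = xc := by rw [hv, hxcomm, ← mul_assoc, hPsq u huP, one_mul]
  have hvux : v * u = xc := by rw [hv, mul_assoc, hPsq u huP, mul_one]
  -- the four elements of `P`
  have hfour : ∀ w : C, (w : G) ∈ (P : Subgroup G) → w = 1 ∨ w = xc ∨ w = u ∨ w = v := by
    intro w hw
    by_cases h1 : w = 1
    · exact Or.inl h1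
    by_cases h2 : w = xc
    · exact Or.inr (Or.inl h2)
    by_cases h3 : w = u
    · exact Or.inr (Or.inr (Or.inl h3))
    refine Or.inr (Or.inr (Or.inr ?_))
    have := IsKleinFour.eq_mul_of_ne_all (G := (P : Subgroup G)) (x := ⟨x, hxP⟩) (y := u₀) (z := ⟨w, hw⟩)
      (fun h => Involution.ne_one hx (congrArg Subtype.val h)) hu1 (Ne.symm hu2)
      (fun h => h1 (Subtype.ext (congrArg Subtype.val h :))) (fun h => h2 (Subtype.ext (congrArg Subtype.val h :)))
      (fun h => h3 (Subtype.ext (congrArg Subtype.val h :)))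
    exact Subtype.ext (congrArg Subtype.val this :)
  have hclass : ∀ w : C, (w : G) ∈ (P : Subgroup G) → w ≠ 1 → w ≠ xc →
      Nat.card {g : C // IsConj w g} = (centralizer ((P : Subgroup G) : Set G)).relIndex C := by
    intro w hw h1 h2
    rw [ClassCount.card_class_eq_index]
    show _ = ((centralizer ((P : Subgroup G) : Set G)).subgroupOf C).index
    congr 1
    ext c
    rw [mem_centralizer_singleton_iff, mem_subgroupOf]
    constructor
    · intro hc a ha
      have hcx : c * xc = xc * c := Subtype.ext (mem_centralizer_singleton_iff.1 c.2)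
      have hcw : c * (xc * w) = xc * w * c := by rw [← mul_assoc, hcx, mul_assoc, hc, mul_assoc]
      suffices h : ∀ d : C, (d : G) ∈ (P : Subgroup G) → c * d = d * c from
        (congrArg Subtype.val (h ⟨a, hPC ha⟩ ha)).symm
      intro d hd
      rcases hfour d hd with rfl | rfl | rfl | rfl
      · rw [mul_one, one_mul]
      · exact hcx
      · rcases hfour w hw with e | e | e | e
        · exact absurd e h1
        · exact absurd e h2
        · rwa [e] at hc
        · rw [e, hvxu] at hcw; exact hcw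
      · rcases hfour w hw with e | e | e | e
        · exact absurd e h1
        · exact absurd e h2
        · rw [e] at hcw; exact hcw
        · rwa [e] at hc
    · intro hc
      exact Subtype.ext (hc (w : G) hw).symm
  set Y := fun w : C => {g : C // IsConj w g}
  have hsq : ∀ (w g : C), (w : G) ∈ (P : Subgroup G) → IsConj w g → g * g = 1 := by
    intro w g hw h
    obtain ⟨c, rfl⟩ := isConj_iff.1 h
    have e : c * w * c⁻¹ * (c * w * c⁻¹) = c * (w * w) * c⁻¹ := by group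
    rw [e, hPsq w hw, mul_one, mul_inv_cancel]
  have hne : ∀ (w g : C), w ≠ 1 → IsConj w g → g ≠ 1 := by
    rintro w g hw h rfl
    exact hw (isConj_one_left.1 h)
  have hG2 : ∀ (w g : C), (w : G) ∈ (P : Subgroup G) → w ≠ 1 → IsConj w g → IsConj x (g : G) := by
    intro w g hw h1 h
    refine hone x g hx (Involution.orderOf_of_sq ?_ fun e' => hne w g h1 h (Subtype.ext e'))
    exact congrArg Subtype.val (hsq w g hw h)
  have hmk : ∀ (w z g h : C), (w : G) ∈ (P : Subgroup G) → (z : G) ∈ (P : Subgroup G) → w ≠ 1 → z ≠ 1 →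
      w * z = xc → IsConj w g → IsConj z h →
      ∃ y : K, IsConj x (g : G) ∧ IsConj x ((g : G)⁻¹ * (x * y)) ∧ (g : G)⁻¹ * (x * y) = h := by
    intro w z g h hw hz hw1 hz1 hwz hg hh
    have hy : ((xc⁻¹ * (g * h) : C) : G) ∈ K := (hq1 _).1 (by
      rw [map_mul, map_mul, map_inv, hqconj w g hg, hqconj z h hh, ← map_mul, hwz, inv_mul_cancel])
    have he' : (g : G)⁻¹ * (x * ((xc⁻¹ * (g * h) : C) : G)) = h := by
      show (g : G)⁻¹ * (x * (x⁻¹ * ((g : G) * h))) = h
      group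
    exact ⟨⟨_, hy⟩, hG2 w g hw hw1 hg, by rw [he']; exact hG2 z h hz hz1 hh, he'⟩
  let S := Σ y : K, {g : G // IsConj x g ∧ IsConj x (g⁻¹ * (x * y))}
  -- every pair lies in `C`, one factor in each of two classes
  have hsplit : ∀ p : S, ∃ g h : C, (g : G) = p.2.1 ∧ (h : G) = p.2.1⁻¹ * (x * p.1) ∧
      ((IsConj u g ∧ IsConj v h) ∨ (IsConj v g ∧ IsConj u h)) := by
    rintro ⟨⟨y, hy⟩, g, hg, hh⟩
    have hg2 : orderOf g = 2 := by obtain ⟨c, rfl⟩ := isConj_iff.1 hg; rw [Involution.orderOf_conj, hx]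
    have hh2 : orderOf (g⁻¹ * (x * y)) = 2 := by
      obtain ⟨c, hc⟩ := isConj_iff.1 hh; rw [← hc, Involution.orderOf_conj, hx]
    have hgi := Involution.inv_eq hg2
    have hw : g * (x * y) * g⁻¹ = (x * y)⁻¹ := by
      have h := Involution.mul_self hh2
      rw [hgi] at h ⊢
      refine eq_inv_of_mul_eq_one_left ?_
      rw [mul_assoc (g * (x * y))]; exact h
    have hpow : (x * y) ^ k = x := by
      rw [(hKz y hy).symm.mul_pow, show y ^ k = 1 from congrArg Subtype.val
        (pow_card_eq_one' (x := (⟨y, hy⟩ : K))), mul_one, he, pow_succ, pow_mul, pow_two, hx2, one_pow,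
        one_mul]
    have hgC : g ∈ C := by
      refine mem_centralizer_singleton_iff.2 (mul_inv_eq_iff_eq_mul.1 ?_)
      have h := congrArg (· ^ k) hw
      simp only [conj_pow, inv_pow, hpow] at h
      rw [h, Involution.inv_eq hx]
    have hhC : g⁻¹ * (x * y) ∈ C := mul_mem (inv_mem hgC) (mul_mem hxC (hKC hy))
    refine ⟨⟨g, hgC⟩, ⟨_, hhC⟩, rfl, rfl, ?_⟩
    set g' : C := ⟨g, hgC⟩
    set h' : C := ⟨g⁻¹ * (x * y), hhC⟩
    obtain ⟨w, hwP, hwg⟩ := hinto g' (by rw [← orderOf_coe]; exact hg2)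
    obtain ⟨z, hzP, hzh⟩ := hinto h' (by rw [← orderOf_coe]; exact hh2)
    have hw1 : w ≠ 1 := fun e' => by
      have he1 : g' = 1 := isConj_one_right.1 (e' ▸ hwg)
      exact Involution.ne_one hg2 (congrArg Subtype.val he1)
    have hz1 : z ≠ 1 := fun e' => by
      have he1 : h' = 1 := isConj_one_right.1 (e' ▸ hzh)
      exact Involution.ne_one hh2 (congrArg Subtype.val he1)
    have hprod : w * z = xc := by
      have e1 : g' * h' = xc * ⟨y, hKC hy⟩ := Subtype.ext (mul_inv_cancel_left g (x * y))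
      have e2 : q (w * z) = q xc := by
        rw [map_mul, ← hqconj w g' hwg, ← hqconj z h' hzh, ← map_mul, e1, map_mul,
          (hq1 ⟨y, hKC hy⟩).2 hy, mul_one]
      exact hqinj _ _ ((P : Subgroup G).mul_mem hwP hzP) hxP e2
    have hz' : z = w * xc := by rw [← hprod, ← mul_assoc, hPsq w hwP, one_mul]
    rcases hfour w hwP with e' | e' | e' | e'
    · exact absurd e' hw1
    · exact absurd (by rw [hz', e', hPsq xc hxP]) hz1
    · refine Or.inl ⟨e' ▸ hwg, ?_⟩
      rw [show v = z by rw [hz', e', hv, hxcomm]]; exact hzh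
    · refine Or.inr ⟨e' ▸ hwg, ?_⟩
      rw [show u = z by rw [hz', e', hv, hxcomm, mul_assoc, hPsq xc hxP, mul_one]]; exact hzh
  have hdisj : ∀ g : C, IsConj u g → ¬ IsConj v g := fun g h1 h2 =>
    huv (hqinj _ _ huP hvP ((hqconj u g h1).symm.trans (hqconj v g h2)))
  have hcardS : Nat.card S = ∑ y : K, ClassCount.fibreCount x x (x * y) := by
    rw [Nat.card_sigma]; rfl
  choose gp hp hgp hhp hcase using hsplit
  choose my hmy1 hmy2 hmy3 using hmk
  let back : (Y u × Y v) ⊕ (Y v × Y u) → S := Sum.elim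
    (fun a => ⟨my u v a.1 a.2 huP hvP hu1' hv1 huvx a.1.2 a.2.2, (a.1.1 : G),
      hmy1 u v a.1 a.2 huP hvP hu1' hv1 huvx a.1.2 a.2.2, hmy2 u v a.1 a.2 huP hvP hu1' hv1 huvx a.1.2 a.2.2⟩)
    (fun a => ⟨my v u a.1 a.2 hvP huP hv1 hu1' hvux a.1.2 a.2.2, (a.1.1 : G),
      hmy1 v u a.1 a.2 hvP huP hv1 hu1' hvux a.1.2 a.2.2, hmy2 v u a.1 a.2 hvP huP hv1 hu1' hvux a.1.2 a.2.2⟩)
  have hback : Function.Bijective back := by
    let fst : (Y u × Y v) ⊕ (Y v × Y u) → C := Sum.elim (fun a => a.1.1) (fun a => a.1.1)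
    let snd : (Y u × Y v) ⊕ (Y v × Y u) → C := Sum.elim (fun a => a.2.1) (fun a => a.2.1)
    have hg' : ∀ a, (back a).2.1 = (fst a : G) := fun a => by cases a <;> rfl
    have hh' : ∀ a, (back a).2.1⁻¹ * (x * (back a).1) = (snd a : G) := fun a => by
      cases a with
      | inl a => exact hmy3 u v a.1 a.2 huP hvP hu1' hv1 huvx a.1.2 a.2.2
      | inr a => exact hmy3 v u a.1 a.2 hvP huP hv1 hu1' hvux a.1.2 a.2.2
    constructor
    · intro a b hab
      have e1 : fst a = fst b := Subtype.ext (by rw [← hg', ← hg', hab])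
      have e2 : snd a = snd b := Subtype.ext (by rw [← hh', ← hh', hab])
      rcases a with a | a <;> rcases b with b | b <;>
        simp only [fst, snd, Sum.elim_inl, Sum.elim_inr] at e1 e2
      · rw [Prod.ext (Subtype.ext e1) (Subtype.ext e2)]
      · exact absurd (e1 ▸ b.1.2) (hdisj _ a.1.2)
      · exact absurd a.1.2 (e1 ▸ hdisj _ b.1.2)
      · rw [Prod.ext (Subtype.ext e1) (Subtype.ext e2)]
    · intro p
      have hfin : ∀ a, fst a = gp p → snd a = hp p → back a = p := by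
        intro a e1 e2
        have h1 : (back a).2.1 = p.2.1 := by rw [hg', e1, hgp]
        have h2 : (back a).2.1⁻¹ * (x * (back a).1) = p.2.1⁻¹ * (x * p.1) := by rw [hh', e2, hhp]
        rw [h1] at h2
        exact Sigma.subtype_ext (Subtype.ext (mul_left_cancel (mul_left_cancel h2))) h1
      rcases hcase p with ⟨h1, h2⟩ | ⟨h1, h2⟩
      · exact ⟨Sum.inl (⟨gp p, h1⟩, ⟨hp p, h2⟩), hfin _ rfl rfl⟩
      · exact ⟨Sum.inr (⟨gp p, h1⟩, ⟨hp p, h2⟩), hfin _ rfl rfl⟩
  rw [← hcardS, ← Nat.card_congr (Equiv.ofBijective back hback), Nat.card_sum, Nat.card_prod,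
    Nat.card_prod, hclass u huP hu1' hu2', hclass v hvP hv1 hv2]
  ring

/-- The order formula `8 r ^ 2 = |G : C(x)| * ∑ ε / x`. -/
theorem order_formula (hx : orderOf x = 2) (hxP : x ∈ (P : Subgroup G))
    (hone : ∀ s t : G, orderOf s = 2 → orderOf t = 2 → IsConj s t)
    {M : Ideal AlgInt} (hM : IsPModular 2 M) {χ₁ χ₂ χ₃ : IrrCharacter G} {ε₁ ε₂ ε₃ : ℤ}
    (hB : principalBlock M G = {χ : IrrCharacter G | (χ : G → ℂ) = (fun _ => 1) ∨ χ = χ₁ ∨ χ = χ₂ ∨ χ = χ₃})
    (hdist : (χ₁ : G → ℂ) ≠ (fun _ => 1) ∧ (χ₂ : G → ℂ) ≠ (fun _ => 1) ∧ (χ₃ : G → ℂ) ≠ (fun _ => 1) ∧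
      χ₁ ≠ χ₂ ∧ χ₁ ≠ χ₃ ∧ χ₂ ≠ χ₃)
    (hval : (χ₁ : G → ℂ) x = ε₁ ∧ (χ₂ : G → ℂ) x = ε₂ ∧ (χ₃ : G → ℂ) x = ε₃) :
    (8 * ((centralizer ((P : Subgroup G) : Set G)).relIndex (centralizer ({x} : Set G)) : ℚ) ^ 2 =
      ((centralizer ({x} : Set G)).index : ℚ) * (1 + (ε₁ : ℚ) / charDegree (χ₁ : G → ℂ) +
        (ε₂ : ℚ) / charDegree (χ₂ : G → ℂ) + (ε₃ : ℚ) / charDegree (χ₃ : G → ℂ))) ∧
      (1 + ε₁ * charDegree (χ₁ : G → ℂ) + ε₂ * charDegree (χ₂ : G → ℂ) + ε₃ * charDegree (χ₃ : G → ℂ) = 0) ∧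
      ((4 : ℤ) ∣ (charDegree (χ₁ : G → ℂ) : ℤ) - ε₁ ∧ (4 : ℤ) ∣ (charDegree (χ₂ : G → ℂ) : ℤ) - ε₂ ∧
        (4 : ℤ) ∣ (charDegree (χ₃ : G → ℂ) : ℤ) - ε₃) := by
  classical
  obtain ⟨s, B, hB', hB4, hunit, hvalB, hmod, horth⟩ := KleinBlock.signs P hM hone
  obtain ⟨K, hKodd, hKz, hKn, -, hcard⟩ := KleinBlock.exists_complement P hx hxP
  have := Fintype.ofFinite K
  obtain ⟨h1, h2, h3, h12, h13, h23⟩ := hdist
  set one : IrrCharacter G := ⟨fun _ => 1, Char.isIrrCharacter_one⟩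
  have hmem : ∀ χ, χ ∈ B ↔ χ = one ∨ χ = χ₁ ∨ χ = χ₂ ∨ χ = χ₃ := fun χ => by
    rw [hB', hB, Set.mem_ofPred_eq]
    exact or_congr_left (Subtype.ext_iff (a1 := χ) (a2 := one)).symm
  have hBeq : B = {one, χ₁, χ₂, χ₃} := by
    ext χ; rw [hmem]; simp
  have hne1 : one ≠ χ₁ := fun e => h1 (congrArg Subtype.val e).symm
  have hne2 : one ≠ χ₂ := fun e => h2 (congrArg Subtype.val e).symm
  have hne3 : one ≠ χ₃ := fun e => h3 (congrArg Subtype.val e).symm
  have hs : s one = 1 ∧ s χ₁ = ε₁ ∧ s χ₂ = ε₂ ∧ s χ₃ = ε₃ := by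
    refine ⟨?_, ?_, ?_, ?_⟩
    · have h := hvalB one ((hmem _).2 (Or.inl rfl)) x hx
      have h' : (s one : ℂ) = 1 := h.symm
      exact_mod_cast h'
    · exact_mod_cast ((hvalB χ₁ ((hmem _).2 (by simp)) x hx).symm.trans hval.1)
    · exact_mod_cast ((hvalB χ₂ ((hmem _).2 (by simp)) x hx).symm.trans hval.2.1)
    · exact_mod_cast ((hvalB χ₃ ((hmem _).2 (by simp)) x hx).symm.trans hval.2.2)
  have hBsum : ∀ f : IrrCharacter G → ℂ, ∑ χ ∈ B, f χ = f one + f χ₁ + f χ₂ + f χ₃ := by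
    intro f
    rw [hBeq, Finset.sum_insert (by simp [hne1, hne2, hne3]), Finset.sum_insert (by simp [h12, h13]),
      Finset.sum_pair h23]
    ring
  have hdeg1 : (charDegree (one : G → ℂ) : ℂ) = 1 := by rw [Blocks.charDegree_cast]
  refine ⟨?_, ?_, ?_, ?_, ?_⟩
  · have h := KleinSimple.card_mul_pairs hx hKodd hKz hKn hcard hM hB' hB4 hunit hvalB
    rw [sum_fibreCount P hx hxP hone hKodd hKz hKn hcard, hBsum, hs.1, hs.2.1, hs.2.2.1, hs.2.2.2] at h
    simp only [← Blocks.charDegree_cast, hdeg1, Int.cast_one, div_one] at h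
    rw [← (centralizer ({x} : Set G)).card_mul_index, hcard] at h
    refine (algebraMap ℚ ℂ).injective ?_
    simp only [map_mul, map_add, map_div₀, map_one, map_pow, map_intCast, map_natCast, map_ofNat]
    have hk : (Nat.card K : ℂ) ≠ 0 := Nat.cast_ne_zero.2 Nat.card_pos.ne'
    have hm : ((centralizer ({x} : Set G)).index : ℂ) ≠ 0 := Nat.cast_ne_zero.2 index_ne_zero_of_finite
    push_cast at h
    refine mul_left_cancel₀ (mul_ne_zero hk hm) ?_
    linear_combination h
  · have h := horth 1 (by rw [orderOf_one]; exact odd_one)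
    rw [hBsum, hs.1, hs.2.1, hs.2.2.1, hs.2.2.2] at h
    simp only [← Blocks.charDegree_cast, hdeg1, Int.cast_one, mul_one] at h
    exact_mod_cast h
  · rw [← hs.2.1]; exact hmod χ₁ ((hmem _).2 (by simp))
  · rw [← hs.2.2.1]; exact hmod χ₂ ((hmem _).2 (by simp))
  · rw [← hs.2.2.2]; exact hmod χ₃ ((hmem _).2 (by simp))

/-- Two characters with sign `+1` and one with sign `-1`: the first two are conjugate, of one degree. -/
theorem degree_eq (hx : orderOf x = 2) (hxP : x ∈ (P : Subgroup G))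
    (hone : ∀ s t : G, orderOf s = 2 → orderOf t = 2 → IsConj s t)
    {M : Ideal AlgInt} (hM : IsPModular 2 M) {χ₁ χ₂ χ₃ : IrrCharacter G}
    (hB : principalBlock M G = {χ : IrrCharacter G | (χ : G → ℂ) = (fun _ => 1) ∨ χ = χ₁ ∨ χ = χ₂ ∨ χ = χ₃})
    (hdist : (χ₁ : G → ℂ) ≠ (fun _ => 1) ∧ (χ₂ : G → ℂ) ≠ (fun _ => 1) ∧ (χ₃ : G → ℂ) ≠ (fun _ => 1) ∧
      χ₁ ≠ χ₂ ∧ χ₁ ≠ χ₃ ∧ χ₂ ≠ χ₃)
    (hval : (χ₁ : G → ℂ) x = 1 ∧ (χ₂ : G → ℂ) x = 1 ∧ (χ₃ : G → ℂ) x = -1) :
    charDegree (χ₁ : G → ℂ) = charDegree (χ₂ : G → ℂ) := by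
  classical
  haveI : Fact (Nat.Prime 2) := ⟨Nat.prime_two⟩
  have := Fintype.ofFinite G
  have := Fintype.ofFinite (IrrCharacter G)
  obtain ⟨s, B, hB', hB4, hunit, hvalB, hmod, -⟩ := KleinBlock.signs P hM hone
  obtain ⟨K, hKodd, hKz, hKn, -, hcard⟩ := KleinBlock.exists_complement P hx hxP
  have := Fintype.ofFinite K
  obtain ⟨h1, h2, h3, h12, h13, h23⟩ := hdist
  set one : IrrCharacter G := ⟨fun _ => 1, Char.isIrrCharacter_one⟩
  have hmem : ∀ χ, χ ∈ B ↔ χ = one ∨ χ = χ₁ ∨ χ = χ₂ ∨ χ = χ₃ := fun χ => by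
    rw [hB', hB, Set.mem_ofPred_eq]
    exact or_congr_left (Subtype.ext_iff (a1 := χ) (a2 := one)).symm
  have hBeq : B = {one, χ₁, χ₂, χ₃} := by
    ext χ; rw [hmem]; simp
  have hne1 : one ≠ χ₁ := fun e => h1 (congrArg Subtype.val e).symm
  have hne2 : one ≠ χ₂ := fun e => h2 (congrArg Subtype.val e).symm
  have hne3 : one ≠ χ₃ := fun e => h3 (congrArg Subtype.val e).symm
  have hB1 : χ₁ ∈ B := (hmem _).2 (by simp)
  have hB2 : χ₂ ∈ B := (hmem _).2 (by simp)
  have hB3 : χ₃ ∈ B := (hmem _).2 (by simp)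
  have hsum := fun χ => KleinSimple.coset_sum hx hKodd hKz hKn hcard hM hB' hB4 hunit hvalB χ
  have hk : (Nat.card K : ℂ) ≠ 0 := Nat.cast_ne_zero.2 Nat.card_pos.ne'
  have hval' : ∀ χ : IrrCharacter G, χ ∈ B → (s χ : ℂ) = (χ : G → ℂ) x := fun χ hχ =>
    (hvalB χ hχ x hx).symm
  -- the Frobenius-Schur indicators
  have hkey : FSInd.fsInd (one : G → ℂ) + FSInd.fsInd (χ₁ : G → ℂ) + FSInd.fsInd (χ₂ : G → ℂ) -
      FSInd.fsInd (χ₃ : G → ℂ) = 0 := by
    have hno : ∀ y : K, IsEmpty {g : G // g * g = x * y} := by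
      intro y
      refine ⟨fun ⟨g, hg⟩ => ?_⟩
      obtain ⟨a, b, hb, hab⟩ := Nat.exists_eq_two_pow_mul_odd (orderOf_pos g).ne'
      have hgb : orderOf (g ^ b) = 2 ^ a := by
        rw [orderOf_pow' g hb.pos.ne', hab, Nat.gcd_eq_right (Dvd.intro_left _ rfl),
          Nat.mul_div_cancel _ hb.pos]
      have hsq := KleinBlock.sq_eq_one_of_two_power P hgb
      have h1' : (x * y) ^ b = 1 := by
        rw [← hg, ← pow_two, ← pow_mul, mul_comm 2 b, pow_mul, pow_two]; exact hsq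
      have hk' : ((x * y) ^ b) ^ Nat.card K = x := by
        rw [← pow_mul, mul_comm b, pow_mul, (hKz y y.2).symm.mul_pow,
          show (y : G) ^ Nat.card K = 1 from congrArg Subtype.val (pow_card_eq_one' (x := y)), mul_one,
          ← pow_mul]
        obtain ⟨e, he⟩ := Odd.mul (Nat.not_even_iff_odd.1 fun h => hKodd (even_iff_two_dvd.1 h)) hb
        rw [he, pow_succ, pow_mul, pow_two, Involution.mul_self hx, one_pow, one_mul]
      rw [h1', one_pow] at hk'
      exact Involution.ne_one hx hk'.symm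
    have h := Finset.sum_congr rfl fun (y : K) (_ : y ∈ Finset.univ) =>
      FSInd.card_sqrt_eq_sum (G := G) (x * y)
    simp only [fun y : K => (@Nat.card_of_isEmpty _ (hno y)), Nat.cast_zero, Finset.sum_const_zero] at h
    rw [Finset.sum_comm] at h
    simp only [← Finset.mul_sum, hsum, mul_ite, mul_zero] at h
    rw [Finset.sum_ite_mem, Finset.univ_inter, hBeq, Finset.sum_insert (by simp [hne1, hne2, hne3]),
      Finset.sum_insert (by simp [h12, h13]), Finset.sum_pair h23, hval' one ((hmem _).2 (Or.inl rfl)),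
      hval' χ₁ hB1, hval' χ₂ hB2, hval' χ₃ hB3, hval.1, hval.2.1, hval.2.2] at h
    refine mul_left_cancel₀ hk ?_
    rw [mul_zero]
    have e1 : (one : G → ℂ) x = 1 := rfl
    rw [e1] at h
    linear_combination -h
  have hodd : ∀ χ ∈ B, (∀ g : G, ((χ : G → ℂ) g).im = 0) → FSInd.fsInd (χ : G → ℂ) = 1 := by
    intro χ hχ hr
    refine S0895.result (χ : G → ℂ) χ.2 hr (charDegree (χ : G → ℂ)) (Blocks.charDegree_cast χ).symm ?_
    have := hmod χ hχ
    rcases hunit χ hχ with e | e <;> rw [e] at this <;> rw [Nat.odd_iff] <;> omega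
  have hconj : ∀ χ ∈ B, ∃ ψ ∈ B, (ψ : G → ℂ) = fun g => conj ((χ : G → ℂ) g) := by
    intro χ hχ
    refine ⟨⟨_, Char.IsIrrCharacter.conj χ.2⟩, ?_, rfl⟩
    by_contra hψ
    have h := hsum ⟨_, Char.IsIrrCharacter.conj χ.2⟩
    rw [if_neg hψ] at h
    have h' := congrArg conj (hsum χ)
    rw [if_pos hχ, map_sum, map_mul, map_intCast, map_natCast] at h'
    rw [show ∑ y : K, conj ((χ : G → ℂ) (x * y)) = 0 from h] at h'
    rcases hunit χ hχ with e | e <;> exact mul_ne_zero hk (by rw [e]; norm_num) h'.symm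
  -- the one with sign `-1` is real
  have h3real : ∀ g : G, ((χ₃ : G → ℂ) g).im = 0 := by
    obtain ⟨ψ, hψ, he⟩ := hconj χ₃ hB3
    have hx' : (ψ : G → ℂ) x = -1 := by rw [he]; simp [hval.2.2]
    obtain rfl : ψ = χ₃ := by
      rcases (hmem ψ).1 hψ with e | e | e | e
      · rw [e] at hx'; have : (1 : ℂ) = -1 := hx'; norm_num at this
      · rw [e, hval.1] at hx'; norm_num at hx'
      · rw [e, hval.2.1] at hx'; norm_num at hx'
      · exact e
    exact fun g => Complex.conj_eq_iff_im.1 (congrFun he g).symm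
  obtain ⟨ψ, hψ, he⟩ := hconj χ₁ hB1
  have hψ1 : charDegree (ψ : G → ℂ) = charDegree (χ₁ : G → ℂ) := by
    have h := Blocks.charDegree_cast ψ
    rw [he] at h
    have h' : (charDegree (fun g => conj ((χ₁ : G → ℂ) g)) : ℂ) = (charDegree (χ₁ : G → ℂ) : ℂ) := by
      rw [h]
      show conj ((χ₁ : G → ℂ) 1) = _
      rw [← Blocks.charDegree_cast, map_natCast]
    rw [he]; exact_mod_cast h'
  have hx' : (ψ : G → ℂ) x = 1 := by rw [he]; simp [hval.1]
  rcases (hmem ψ).1 hψ with e | e | e | e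
  · exfalso
    apply h1
    funext g
    have hg : (ψ : G → ℂ) g = 1 := by rw [e]
    rw [he] at hg
    exact (starRingEnd ℂ).injective (hg.trans (map_one _).symm)
  · exfalso
    have h1real : ∀ g : G, ((χ₁ : G → ℂ) g).im = 0 := fun g =>
      Complex.conj_eq_iff_im.1 ((congrFun he g).symm.trans (by rw [e]))
    have hone1 : FSInd.fsInd (one : G → ℂ) = 1 :=
      hodd one ((hmem _).2 (Or.inl rfl)) fun _ => Complex.one_im
    obtain ⟨ψ', hψ', he'⟩ := hconj χ₂ hB2
    have hx2 : (ψ' : G → ℂ) x = 1 := by rw [he']; simp [hval.2.1]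
    rcases (hmem ψ').1 hψ' with e' | e' | e' | e'
    · apply h2
      funext g
      have hg : (ψ' : G → ℂ) g = 1 := by rw [e']
      rw [he'] at hg
      exact (starRingEnd ℂ).injective (hg.trans (map_one _).symm)
    · apply h12
      refine Subtype.ext (funext fun g => ?_)
      have hg := congrFun he' g
      rw [e'] at hg
      rw [← Complex.conj_eq_iff_im.2 (h1real g), hg, Complex.conj_conj]
    · have h2real : ∀ g : G, ((χ₂ : G → ℂ) g).im = 0 := fun g =>
        Complex.conj_eq_iff_im.1 ((congrFun he' g).symm.trans (by rw [e']))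
      rw [hone1, hodd χ₁ hB1 h1real, hodd χ₂ hB2 h2real, hodd χ₃ hB3 h3real] at hkey
      norm_num at hkey
    · rw [e', hval.2.2] at hx2; norm_num at hx2
  · rw [← hψ1, e]
  · rw [e, hval.2.2] at hx'; norm_num at hx'

end Cfsg.Agent.KleinOrder
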