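import Cfsg.Agent.Lib.Blocks.Osima
import Cfsg.Agent.Lib.Blocks.OrbitSum

/-!
# The Brauer truncation on central elements, read through central characters

`trunc ι c` restricts the coefficient function of the central element `c` of `K` along `ι : L →* K`.
If the image of `ι` is the fixed point group of a `p`-group `R` acting on `K`, it is multiplicative
modulo small elements on `R`-invariant elements: `trunc_mul`.
`small_of_idem`: an idempotent modulo small with all values in the local ideal is small.
-/

set_option autoImplicit false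

namespace Cfsg.Agent.ZStar

open Cfsg Cfsg.Agent.Blocks

section rel

variable {G : Type*} [Group G] [Finite G] {p : ℕ} {M : Ideal AlgInt}

/-- Congruence of central elements modulo small ones. -/
def Cong (M : Ideal AlgInt) (c d : IrrCharacter G → ℂ) : Prop := IsSmall M (c - d)

theorem isSmall_zero (hM : IsPModular p M) : IsSmall M (0 : IrrCharacter G → ℂ) := fun g => by
  rw [ofOmega_zero]; exact memI_zero hM

theorem isSmall_neg {c : IrrCharacter G → ℂ} (h : IsSmall M c) : IsSmall M (-c) := fun g => by
  rw [ofOmega_neg]; exact memI_neg (h g)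

theorem isSmall_add (hM : IsPModular p M) {c d : IrrCharacter G → ℂ} (hc : IsSmall M c)
    (hd : IsSmall M d) : IsSmall M (c + d) := fun g => by
  rw [ofOmega_add]; exact memI_add hM (hc g) (hd g)

theorem Cong.refl (hM : IsPModular p M) (c : IrrCharacter G → ℂ) : Cong M c c := by
  rw [Cong, sub_self]; exact isSmall_zero hM

theorem Cong.symm {c d : IrrCharacter G → ℂ} (h : Cong M c d) : Cong M d c := by
  rw [Cong, ← neg_sub]; exact isSmall_neg h

theorem Cong.trans (hM : IsPModular p M) {c d e : IrrCharacter G → ℂ} (h : Cong M c d)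
    (h' : Cong M d e) : Cong M c e := by
  have := isSmall_add hM h h'
  rwa [sub_add_sub_cancel] at this

theorem Cong.sub (hM : IsPModular p M) {c c' d d' : IrrCharacter G → ℂ} (h : Cong M c c')
    (h' : Cong M d d') : Cong M (c - d) (c' - d') := by
  have := isSmall_add hM h (isSmall_neg h')
  rw [Cong]
  convert! this using 1
  abel

theorem Cong.mul_left (hM : IsPModular p M) {a c d : IrrCharacter G → ℂ}
    (ha : a ∈ intRing hM) (h : Cong M c d) : Cong M (a * c) (a * d) := by
  rw [Cong, ← mul_sub]; exact isSmall_mul hM ha h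

theorem Cong.mul_right (hM : IsPModular p M) {a c d : IrrCharacter G → ℂ}
    (ha : a ∈ intRing hM) (h : Cong M c d) : Cong M (c * a) (d * a) := by
  rw [mul_comm c, mul_comm d]; exact h.mul_left hM ha

theorem Cong.apply {c d : IrrCharacter G → ℂ} (h : Cong M c d) (g : G) :
    MemLocalIdeal M (ofOmega c g - ofOmega d g) := by
  have := h g
  rwa [sub_eq_add_neg, ofOmega_add, ofOmega_neg, Pi.add_apply, Pi.neg_apply, ← sub_eq_add_neg]
    at this

theorem cong_of_apply {c d : IrrCharacter G → ℂ}
    (h : ∀ g, MemLocalIdeal M (ofOmega c g - ofOmega d g)) : Cong M c d := fun g => by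
  rw [sub_eq_add_neg, ofOmega_add, ofOmega_neg, Pi.add_apply, Pi.neg_apply, ← sub_eq_add_neg]
  exact h g

theorem Cong.value (hM : IsPModular p M) {c d : IrrCharacter G → ℂ} (h : Cong M c d)
    (χ : IrrCharacter G) : MemLocalIdeal M (c χ - d χ) :=
  memI_of_isSmall hM h χ

/-- An idempotent modulo small elements all of whose values lie in the local ideal is small. -/
theorem small_of_idem (hM : IsPModular p M) {c : IrrCharacter G → ℂ} (hc : c ∈ intRing hM)
    (hcc : Cong M (c * c) c) (h0 : ∀ χ, MemLocalIdeal M (c χ)) : IsSmall M c := by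
  obtain ⟨N, hN⟩ := exists_small_pow hM h0
  have hpow : ∀ n, Cong M (c ^ (n + 1)) c := by
    intro n
    induction n with
    | zero => rw [zero_add, pow_one]; exact Cong.refl hM c
    | succ n ih => rw [pow_succ']; exact (ih.mul_left hM hc).trans hM hcc
  have := isSmall_sub hM (hN (N + 1) (Nat.le_succ N)) (hpow N)
  rwa [sub_sub_cancel] at this

/-- An idempotent with values `≡ 1` on the block `B` absorbs its idempotent. -/
theorem mul_blockInd_cong (hM : IsPModular p M) {B : Set (IrrCharacter G)} (hB : IsPBlock M B)
    {c : IrrCharacter G → ℂ} (hc : c ∈ intRing hM) (hcc : Cong M (c * c) c)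
    (h1 : ∀ χ ∈ B, MemLocalIdeal M (c χ - 1)) : Cong M (c * blockInd B) (blockInd B) := by
  have he : blockInd B ∈ intRing hM := blockInd_mem_intRing hM hB
  have hee := blockInd_mul_self B
  refine Cong.symm (small_of_idem hM ((intRing hM).sub_mem he ((intRing hM).mul_mem hc he)) ?_ ?_)
  · have hid : (blockInd B - c * blockInd B) * (blockInd B - c * blockInd B) -
        (blockInd B - c * blockInd B) = blockInd B * (c * c - c) := by
      linear_combination (1 - 2 * c + c * c) * hee
    rw [Cong, hid]
    exact isSmall_mul hM he hcc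
  · intro χ
    by_cases h : χ ∈ B
    · simp only [Pi.sub_apply, Pi.mul_apply, blockInd_of_mem h, mul_one]
      exact memI_sub_comm (h1 χ h)
    · simp only [Pi.sub_apply, Pi.mul_apply, blockInd_of_notMem h, mul_zero, sub_zero]
      exact memI_zero hM

end rel

section trunc

variable {K L R : Type*} [Group K] [Finite K] [Group L] [Finite L] [Group R] {p : ℕ}
  {M : Ideal AlgInt} (ι : L →* K)

/-- Restriction of coefficient functions along `ι`. -/
noncomputable def trunc (c : IrrCharacter K → ℂ) : IrrCharacter L → ℂ :=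
  omegaFun fun l => ofOmega c (ι l)

theorem isClassFunction_comp {z : K → ℂ} (hz : IsClassFunction K z) :
    IsClassFunction L fun l => z (ι l) := fun g h => by
  show z (ι (h * g * h⁻¹)) = z (ι g)
  rw [map_mul, map_mul, map_inv]
  exact hz _ _

theorem ofOmega_trunc (c : IrrCharacter K → ℂ) (l : L) :
    ofOmega (trunc ι c) l = ofOmega c (ι l) :=
  congrFun (ofOmega_omega (isClassFunction_comp ι (isClassFunction_ofOmega c))) l

theorem trunc_mem (hM : IsPModular p M) {c : IrrCharacter K → ℂ} (hc : c ∈ intRing hM) :
    trunc ι c ∈ intRing hM := fun l => by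
  rw [ofOmega_trunc]; exact hc _

theorem trunc_cong {c d : IrrCharacter K → ℂ} (h : Cong M c d) :
    Cong M (trunc ι c) (trunc ι d) :=
  cong_of_apply fun l => by rw [ofOmega_trunc, ofOmega_trunc]; exact h.apply _

/-- Coefficients invariant under the action. -/
def Inv (φ : R →* MulAut K) (c : IrrCharacter K → ℂ) : Prop :=
  ∀ r x, ofOmega c (φ r x) = ofOmega c x

open scoped Classical in
theorem trunc_mul [Fact p.Prime] (hM : IsPModular p M) (φ : R →* MulAut K) (hR : IsPGroup p R)
    (hι : Function.Injective ι) (hfix : ∀ x : K, x ∈ ι.range ↔ ∀ r, φ r x = x)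
    {c d : IrrCharacter K → ℂ} (hc : c ∈ intRing hM) (hd : d ∈ intRing hM)
    (hci : Inv φ c) (hdi : Inv φ d) :
    Cong M (trunc ι (c * d)) (trunc ι c * trunc ι d) := by
  have := Fintype.ofFinite K
  have := Fintype.ofFinite L
  refine cong_of_apply fun l => ?_
  rw [ofOmega_trunc, ofOmega_mul, ofOmega_mul, conv_eq_sum, conv_eq_sum]
  simp only [ofOmega_trunc, map_mul, map_inv]
  set f : K → ℂ := fun x => ofOmega c x * ofOmega d (x⁻¹ * ι l)
  have hl : ∀ r, φ r (ι l) = ι l := (hfix _).mp ⟨l, rfl⟩
  letI : MulAction R K := MulAction.compHom K φ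
  have hsmul : ∀ (r : R) (x : K), r • x = φ r x := fun r x => rfl
  let S : AddSubmonoid ℂ :=
    { carrier := {z | MemLocalIdeal M z}
      zero_mem' := memI_zero hM
      add_mem' := fun ha hb => memI_add hM ha hb }
  have h := sum_not_fixed_mem (A := ℂ) hR f (fun r x => by
    rw [hsmul]
    simp only [f]
    rw [hci r x]
    congr 1
    rw [← hdi r (x⁻¹ * ι l), map_mul, map_inv, hl r]) S (fun x => by
    rw [nsmul_eq_mul]
    exact memI_mul_right hM (memI_p hM) (memR_mul hM (hc _) (hd _)))
  have h2 : ∑ x ∈ Finset.univ.filter (fun x => x ∈ MulAction.fixedPoints R K), f x =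
      ∑ m : L, f (ι m) := by
    rw [← Finset.sum_image (f := f) (fun a _ b _ hab => hι hab)]
    congr 1
    ext x
    simp only [Finset.mem_filter, Finset.mem_univ, true_and, Finset.mem_image,
      MulAction.mem_fixedPoints, hsmul, ← hfix x, MonoidHom.mem_range]
  have h3 := Finset.sum_filter_add_sum_filter_not Finset.univ
    (fun x => x ∈ MulAction.fixedPoints R K) f
  rw [h2] at h3
  change MemLocalIdeal M ((∑ x, f x) - ∑ m : L, f (ι m))
  rw [← h3, add_sub_cancel_left]
  exact h

end trunc

end Cfsg.Agent.ZStar
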