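import Cfsg.Agent.Lib.ZStar.Trunc
import Cfsg.Agent.Lib.Blocks.SylowIn
import Cfsg.Agent.Lib.BrauerPairs.Principal

/-!
# The third main theorem for the principal block, coefficient form

`third_main_principal`: for a `p`-subgroup `P`, the idempotent of the principal block of `G` is
congruent on `C_G(P)` to the idempotent of the principal block of `C_G(P)`.
-/

set_option autoImplicit false

namespace Cfsg.Agent.ZStar

open Cfsg Cfsg.Agent.Blocks

universe u

variable {G : Type u} [Group G] [Finite G] {p : ℕ} {M : Ideal AlgInt}

theorem ofOmega_blockInd (B : Set (IrrCharacter G)) (g : G) :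
    ofOmega (blockInd B) g = blockCoeff B g := by
  rw [blockCoeff_eq_ofOmega]

theorem principal_isPBlock (hM : IsPModular p M) (H : Type u) [Group H] :
    IsPBlock M (principalBlock M H) := ⟨BrauerPairs.oneIrr H, rfl⟩

theorem memR_principal (hM : IsPModular p M) (H : Type u) [Group H] [Finite H] (h : H) :
    MemLocalRing M (blockCoeff (principalBlock M H) h) :=
  Blocks.memR_blockCoeff hM (principal_isPBlock hM H) h

theorem sum_principal (hM : IsPModular p M) (H : Type u) [Group H] [Finite H] [Fintype H] :
    ∑ h : H, blockCoeff (principalBlock M H) h = 1 :=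
  BrauerPairs.sum_blockCoeff (BrauerPairs.oneIrr_mem_principal hM)

theorem subgroupBlockCoeff_coe (K : Subgroup G) (x : K) (e : Set (IrrCharacter K)) :
    subgroupBlockCoeff K e x = blockCoeff e x := by
  rw [subgroupBlockCoeff, dif_pos x.2]

/-- Conjugation on a subgroup by a subgroup normalising it. -/
noncomputable def conjHom (C R : Subgroup G) (h : R ≤ Subgroup.normalizer (C : Set G)) :
    R →* MulAut C where
  toFun r := BrauerPairs.conjEquiv C C r fun x => Subgroup.mem_normalizer_iff.1 (h r.2) x
  map_one' := by ext x; simp [BrauerPairs.coe_conjEquiv]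
  map_mul' a b := by ext x; simp [BrauerPairs.coe_conjEquiv, mul_assoc]

theorem coe_conjHom (C R : Subgroup G) (h : R ≤ Subgroup.normalizer (C : Set G)) (r : R) (x : C) :
    ((conjHom C R h r x : C) : G) = r * x * (r : G)⁻¹ := rfl

theorem brauerOmega_eq (P : Subgroup G) (β : G → ℂ)
    (ξ : IrrCharacter (Subgroup.centralizer (P : Set G))) :
    brauerOmega P β (ξ : Subgroup.centralizer (P : Set G) → ℂ) =
      omega (ξ : Subgroup.centralizer (P : Set G) → ℂ)
        (fun x : Subgroup.centralizer (P : Set G) => β x) := by
  have := Fintype.ofFinite (Subgroup.centralizer (P : Set G))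
  rw [brauerOmega, omega, finsum_eq_sum_of_fintype, finsum_eq_sum_of_fintype, Finset.sum_div]

variable [Fact p.Prime]

theorem trunc_principal_value (hM : IsPModular p M) (P : Subgroup G) (hP : IsPGroup p P)
    {ξ : IrrCharacter (Subgroup.centralizer (P : Set G))}
    (hξ : ξ ∈ principalBlock M (Subgroup.centralizer (P : Set G))) :
    MemLocalIdeal M (trunc (Subgroup.centralizer (P : Set G)).subtype
      (blockInd (principalBlock M G)) ξ - 1) := by
  have := Fintype.ofFinite G
  have h := BrauerPairs.brauerOmega_principal (β := blockCoeff (principalBlock M G)) hM hP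
    (fun u _ x => Blocks.isClassFunction_blockCoeff _ x u)
    (fun c _ x => Blocks.isClassFunction_blockCoeff _ x c) (memR_principal hM G)
    (sum_principal hM G) hξ
  rw [brauerOmega_eq] at h
  simpa only [trunc, omegaFun, ofOmega_blockInd, Subgroup.coe_subtype] using h

theorem trunc_subtype_mul (hM : IsPModular p M) (P : Subgroup G) (hP : IsPGroup p P)
    {c d : IrrCharacter G → ℂ} (hc : c ∈ intRing hM) (hd : d ∈ intRing hM) :
    Cong M (trunc (Subgroup.centralizer (P : Set G)).subtype (c * d))
      (trunc (Subgroup.centralizer (P : Set G)).subtype c *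
        trunc (Subgroup.centralizer (P : Set G)).subtype d) := by
  refine trunc_mul _ hM (MulAut.conj.comp P.subtype) hP Subtype.coe_injective (fun x => ?_) hc hd
    (fun r x => isClassFunction_ofOmega c x r) (fun r x => isClassFunction_ofOmega d x r)
  simp only [MonoidHom.mem_range, Subgroup.coe_subtype, MonoidHom.coe_comp, Function.comp_apply,
    MulAut.conj_apply, Subtype.forall, mul_inv_eq_iff_eq_mul]
  exact ⟨fun ⟨y, hy⟩ r hr => hy ▸ Subgroup.mem_centralizer_iff.mp y.2 r hr,
    fun h => ⟨⟨x, Subgroup.mem_centralizer_iff.mpr h⟩, rfl⟩⟩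

/-- **Third main theorem for the principal block.** -/
theorem third_main_cong (hM : IsPModular p M) (P : Subgroup G) (hP : IsPGroup p P) :
    Cong M (trunc (Subgroup.centralizer (P : Set G)).subtype (blockInd (principalBlock M G)))
      (blockInd (principalBlock M (Subgroup.centralizer (P : Set G)))) := by
  classical
  have := Fintype.ofFinite G
  induction hk : Nat.card G - Nat.card P using Nat.strong_induction_on generalizing P with
  | _ k ih =>
  set eG := blockInd (principalBlock M G) with heG
  set e := blockInd (principalBlock M (Subgroup.centralizer (P : Set G))) with he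
  set ι := (Subgroup.centralizer (P : Set G)).subtype with hι
  set c := trunc ι eG with hc
  have heGR : eG ∈ intRing hM := blockInd_mem_intRing hM (principal_isPBlock hM G)
  have heR : e ∈ intRing hM := blockInd_mem_intRing hM (principal_isPBlock hM _)
  have hcR : c ∈ intRing hM := trunc_mem ι hM heGR
  have hee : e * e = e := blockInd_mul_self _
  have hcc : Cong M (c * c) c := by
    have h := (trunc_subtype_mul hM P hP heGR heGR).symm
    rwa [← hι, heG, blockInd_mul_self, ← heG] at h
  have hce : Cong M (c * e) e := mul_blockInd_cong hM (principal_isPBlock hM _) hcR hcc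
    (fun ξ hξ => trunc_principal_value hM P hP hξ)
  have hdcc : Cong M ((c - e) * c) (c - e) := by
    rw [sub_mul, mul_comm e c]; exact hcc.sub hM hce
  have hdd : Cong M ((c - e) * (c - e)) (c - e) := by
    have h1 : Cong M ((c - e) * e) 0 := by
      rw [sub_mul, hee]
      have := hce.sub hM (Cong.refl hM e)
      rwa [sub_self] at this
    rw [mul_sub]
    have := hdcc.sub hM h1
    rwa [sub_zero] at this
  have ha : ∀ x : Subgroup.centralizer (P : Set G),
      ofOmega c x = blockCoeff (principalBlock M G) x := fun x => by
    rw [hc, ofOmega_trunc, heG, ofOmega_blockInd]; rfl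
  have hε : ∀ x, ofOmega e x =
      blockCoeff (principalBlock M (Subgroup.centralizer (P : Set G))) x := fun x => by
    rw [he, ofOmega_blockInd]
  -- Step A: agreement away from the elements having `P` as a Sylow subgroup of their centraliser
  have stepA : ∀ x : Subgroup.centralizer (P : Set G),
      ¬ SylowIn p (Subgroup.centralizer ({(x : G)} : Set G)) P →
        MemLocalIdeal M (blockCoeff (principalBlock M G) x -
          blockCoeff (principalBlock M (Subgroup.centralizer (P : Set G))) x) := by
    intro x hx
    have hPC : P ≤ Subgroup.centralizer ({(x : G)} : Set G) := le_centralizer_singleton.2 x.2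
    obtain ⟨D, hD, hPD⟩ := sylowIn_exists_ge _ hPC hP
    have hne : D ≠ P := fun h => hx (h ▸ hD)
    set R := D ⊓ Subgroup.normalizer (P : Set G) with hR
    have hDp := sylowIn_isPGroup hD
    have hRp : IsPGroup p R := hDp.to_le inf_le_left
    have hPR : P ≤ R := le_inf hPD Subgroup.le_normalizer
    have hlt : P < R := by
      refine lt_of_le_of_ne hPR fun h => hne ?_
      have := hDp.isNilpotent
      refine le_antisymm ?_ hPD
      have h2 : P.subgroupOf D = ⊤ := by
        refine (normalizerCondition_iff_only_full_group_self_normalizing.mp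
          Group.normalizerCondition_of_isNilpotent) _ (le_antisymm (fun g hg => ?_)
            Subgroup.le_normalizer)
        have hgN : (g : G) ∈ Subgroup.normalizer (P : Set G) := by
          rw [Subgroup.mem_normalizer_iff] at hg ⊢
          intro y
          constructor
          · intro hy
            exact (hg ⟨y, hPD hy⟩).1 hy
          · intro hy
            have hyD : y ∈ D := by
              have := D.mul_mem (D.mul_mem (D.inv_mem g.2) (hPD hy)) g.2
              simpa [mul_assoc] using this
            exact (hg ⟨y, hyD⟩).2 hy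
        have hgR : (g : G) ∈ R := ⟨g.2, hgN⟩
        rw [← h] at hgR
        exact hgR
      exact Subgroup.subgroupOf_eq_top.mp h2
    have hxR : (x : G) ∈ Subgroup.centralizer (R : Set G) :=
      le_centralizer_singleton.1 (inf_le_left.trans (sylowIn_le hD))
    have hIH := ih (Nat.card G - Nat.card R) (by
      have h1 : Nat.card P < Nat.card R := by
        by_contra hle
        exact hlt.ne (Subgroup.eq_of_le_of_card_ge hPR (not_lt.mp hle))
      have h2 := Subgroup.card_le_card_group R
      omega) R hRp rfl
    have hCle : Subgroup.centralizer (R : Set G) ≤ Subgroup.centralizer (P : Set G) :=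
      Subgroup.centralizer_le hPR
    have hRN : R ≤ Subgroup.normalizer (Subgroup.centralizer (P : Set G) : Set G) :=
      fun r hr => BrauerPairs.mem_normalizer_centralizer hr.2
    set ι' := Subgroup.inclusion hCle with hι'
    set f := trunc ι' e with hf
    set eR := blockInd (principalBlock M (Subgroup.centralizer (R : Set G))) with heRdef
    have hfR : f ∈ intRing hM := trunc_mem ι' hM heR
    have hfix : ∀ y, y ∈ ι'.range ↔
        ∀ r, conjHom (Subgroup.centralizer (P : Set G)) R hRN r y = y := by
      intro y
      simp only [hι', Subtype.ext_iff, coe_conjHom, mul_inv_eq_iff_eq_mul, Subtype.forall,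
        MonoidHom.mem_range]
      constructor
      · rintro ⟨z, hz⟩ r hr
        rw [← hz]
        exact Subgroup.mem_centralizer_iff.mp z.2 r hr
      · exact fun h => ⟨⟨y, Subgroup.mem_centralizer_iff.mpr h⟩, rfl⟩
    have hce_inv : Inv (conjHom (Subgroup.centralizer (P : Set G)) R hRN) e := fun r y => by
      rw [hε, hε]
      exact (BrauerPairs.blockCoeff_principalBlock_equiv _ y).symm
    have hcc_inv : Inv (conjHom (Subgroup.centralizer (P : Set G)) R hRN) c := fun r y => by
      rw [ha, ha, coe_conjHom]
      exact Blocks.isClassFunction_blockCoeff _ _ _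
    have hinj := Subgroup.inclusion_injective hCle
    have hTc : trunc ι' c = trunc (Subgroup.centralizer (R : Set G)).subtype eG := by
      refine congrArg omegaFun (funext fun l => ?_)
      rw [hc, ofOmega_trunc]; rfl
    have hff : Cong M (f * f) f := by
      have h := (trunc_mul ι' hM _ hRp hinj hfix heR heR hce_inv hce_inv).symm
      rwa [hee] at h
    have hf1 : ∀ η ∈ principalBlock M (Subgroup.centralizer (R : Set G)),
        MemLocalIdeal M (f η - 1) := by
      intro η hη
      have h := BrauerPairs.brauerOmega_principal
        (β := subgroupBlockCoeff (Subgroup.centralizer (P : Set G))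
          (principalBlock M (Subgroup.centralizer (P : Set G)))) hM hRp
        (fun u hu y => BrauerPairs.subgroupBlockCoeff_principal_conj _ (hRN hu) y)
        (fun d hd y => BrauerPairs.subgroupBlockCoeff_principal_conj _
          (Subgroup.le_normalizer (hCle hd)) y)
        (fun y => by
          unfold subgroupBlockCoeff
          split_ifs
          · exact memR_principal hM _ _
          · exact memR_zero hM)
        (BrauerPairs.sum_subgroupBlockCoeff_principal hM _) hη
      rw [brauerOmega_eq] at h
      have hfun : (fun l => ofOmega e (ι' l)) = fun l : Subgroup.centralizer (R : Set G) =>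
          subgroupBlockCoeff (Subgroup.centralizer (P : Set G))
            (principalBlock M (Subgroup.centralizer (P : Set G))) l := funext fun l => by
        rw [hε, ← subgroupBlockCoeff_coe]
        rfl
      simpa only [hf, trunc, omegaFun, hfun] using h
    have h1 : Cong M (f * eR) eR := mul_blockInd_cong hM (principal_isPBlock hM _) hfR hff hf1
    have h2 : Cong M f eR := by
      have ha1 : Cong M (trunc ι' (e * c)) f := trunc_cong ι' (by rw [mul_comm]; exact hce)
      have ha2 := trunc_mul ι' hM _ hRp hinj hfix heR hcR hce_inv hcc_inv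
      rw [hTc] at ha2
      exact (ha1.symm.trans hM ha2).trans hM ((hIH.mul_left hM hfR).trans hM h1)
    have h3 := (hIH.trans hM h2.symm).apply ⟨x, hxR⟩
    rw [ofOmega_trunc, heG, ofOmega_blockInd, hf, ofOmega_trunc, hε] at h3
    exact h3
  -- Step B: lift to a class function on `G`
  let Cd : G → Subgroup.centralizer (P : Set G) → Prop := fun y x =>
    IsConj (x : G) y ∧ SylowIn p (Subgroup.centralizer ({(x : G)} : Set G)) P
  have hwd : ∀ y x x', Cd y x → Cd y x' →
      ofOmega (c - e) x = ofOmega (c - e) x' := by
    rintro y x x' ⟨hxy, hx⟩ ⟨hxy', hx'⟩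
    obtain ⟨g, hg⟩ := isConj_iff.mp (hxy.trans hxy'.symm)
    have h1 := sylowIn_conj hx g
    rw [hg] at h1
    obtain ⟨z, hz, hzP⟩ := sylowIn_isConj h1 hx'
    rw [conjSub_mul] at hzP
    have hn : z * g ∈ Subgroup.normalizer (P : Set G) := conjSub_eq_self_iff.mp hzP
    have hn' := BrauerPairs.mem_normalizer_centralizer hn
    have hxx : (z * g) * (x : G) * (z * g)⁻¹ = x' := by
      calc z * g * (x : G) * (z * g)⁻¹ = z * (g * x * g⁻¹) * z⁻¹ := by group
        _ = x' := by rw [hg, mem_centralizer_singleton.mp hz, mul_inv_cancel_right]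
    simp only [sub_eq_add_neg, ofOmega_add, ofOmega_neg, Pi.add_apply, Pi.neg_apply, ha, hε]
    congr 1
    · rw [← hxx]; exact (Blocks.isClassFunction_blockCoeff _ _ _).symm
    · rw [← subgroupBlockCoeff_coe, ← subgroupBlockCoeff_coe, ← hxx,
        BrauerPairs.subgroupBlockCoeff_principal_conj _ hn']
  let j : G → ℂ := fun y => if h : ∃ x, Cd y x then ofOmega (c - e) h.choose else 0
  have hjx : ∀ y x, Cd y x → j y = ofOmega (c - e) x := by
    intro y x hx
    have h : ∃ x, Cd y x := ⟨x, hx⟩
    simp only [j, dif_pos h]
    exact hwd y _ _ h.choose_spec hx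
  have hj : IsClassFunction G j := by
    intro y g
    have hy : IsConj y (g * y * g⁻¹) := isConj_iff.mpr ⟨g, rfl⟩
    by_cases h : ∃ x, Cd y x
    · obtain ⟨x, hx⟩ := h
      rw [hjx y x hx, hjx _ x ⟨hx.1.trans hy, hx.2⟩]
    · have h' : ¬ ∃ x, Cd (g * y * g⁻¹) x := fun ⟨x, hx⟩ => h ⟨x, hx.1.trans hy.symm, hx.2⟩
      simp only [j, dif_neg h, dif_neg h']
  have hdR : c - e ∈ intRing hM := (intRing hM).sub_mem hcR heR
  have hjR : ∀ y, MemLocalRing M (j y) := by
    intro y
    simp only [j]
    split_ifs
    · exact hdR _
    · exact memR_zero hM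
  set J := omegaFun j with hJdef
  have hJR : J ∈ intRing hM := omega_mem_intRing hM hj hjR
  have hTJ : Cong M (trunc ι J) (c - e) := by
    refine cong_of_apply fun x => ?_
    rw [ofOmega_trunc, hJdef, ofOmega_omega hj]
    by_cases hx : SylowIn p (Subgroup.centralizer ({(x : G)} : Set G)) P
    · rw [hι, Subgroup.coe_subtype, hjx _ x ⟨IsConj.refl _, hx⟩, sub_self]
      exact memI_zero hM
    · have hno : ¬ ∃ x', Cd (x : G) x' := by
        rintro ⟨x', hx'x, hx'⟩
        obtain ⟨g, hg⟩ := isConj_iff.mp hx'x
        have h1 := sylowIn_conj hx' g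
        rw [hg] at h1
        refine hx (sylowIn_of_card_eq (le_centralizer_singleton.2 x.2) hP ?_)
        rw [← sylowIn_card h1, card_conjSub]
      simp only [hι, Subgroup.coe_subtype, j, dif_neg hno, zero_sub]
      refine memI_neg ?_
      simpa only [sub_eq_add_neg, ofOmega_add, ofOmega_neg, Pi.add_apply, Pi.neg_apply, ha, hε]
        using stepA x hx
  -- Step C
  have hu0 : ∀ χ, MemLocalIdeal M ((J * eG) χ) := by
    intro χ
    rw [Pi.mul_apply, heG]
    by_cases hχ : χ ∈ principalBlock M G
    · rw [blockInd_of_mem hχ, mul_one]
      have h1 := intRing_congr hM hJR (χ := χ) (ψ := BrauerPairs.oneIrr G)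
        (Blocks.sameBlock_symm hχ)
      suffices h2 : MemLocalIdeal M (J (BrauerPairs.oneIrr G)) by
        simpa using memI_add hM h1 h2
      have hJ1 : J (BrauerPairs.oneIrr G) = ∑ y, j y := by
        simp [hJdef, omegaFun, omega_eq_sum, BrauerPairs.oneIrr]
      rw [hJ1]
      have h3 := BrauerPairs.sum_sub_sum_centralizer hM hP j (fun u _ y => hj y u) hjR
      have h4 := BrauerPairs.sum_sub_sum_centralizer hM hP (blockCoeff (principalBlock M G))
        (fun u _ y => Blocks.isClassFunction_blockCoeff _ y u) (memR_principal hM G)
      have hsub : ∀ f : G → ℂ, ∑ x ∈ Finset.univ.filter (fun x => x ∈ Subgroup.centralizer (P : Set G)), f x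
          = ∑ x : Subgroup.centralizer (P : Set G), f x :=
        fun f => Finset.sum_subtype _ (fun y => by simp) f
      rw [sum_principal hM G, hsub] at h4
      rw [hsub] at h3
      have h5 : MemLocalIdeal M (∑ x : Subgroup.centralizer (P : Set G), (j x -
          (blockCoeff (principalBlock M G) x -
            blockCoeff (principalBlock M (Subgroup.centralizer (P : Set G))) x))) := by
        refine memI_sum hM _ fun x _ => ?_
        have := hTJ.apply x
        rw [ofOmega_trunc, hJdef, ofOmega_omega hj] at this
        simpa only [sub_eq_add_neg, ofOmega_add, ofOmega_neg, Pi.add_apply, Pi.neg_apply, ha, hε,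
          hι, Subgroup.coe_subtype] using this
      rw [Finset.sum_sub_distrib, Finset.sum_sub_distrib,
        sum_principal hM (Subgroup.centralizer (P : Set G))] at h5
      have h6 := memI_sub hM (memI_add hM h3 h5) h4
      convert! h6 using 1
      ring
    · rw [blockInd_of_notMem hχ, mul_zero]; exact memI_zero hM
  obtain ⟨N, hN⟩ := exists_small_pow hM hu0
  have hUR : J * eG ∈ intRing hM := (intRing hM).mul_mem hJR heGR
  have hT1 : Cong M (trunc ι (J * eG)) (c - e) :=
    ((trunc_subtype_mul hM P hP hJR heGR).trans hM (hTJ.mul_right hM hcR)).trans hM hdcc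
  have hTn : ∀ n, Cong M (trunc ι ((J * eG) ^ (n + 1))) (c - e) := by
    intro n
    induction n with
    | zero => rwa [zero_add, pow_one]
    | succ n ihn =>
      rw [pow_succ]
      refine (trunc_subtype_mul hM P hP ((intRing hM).pow_mem hUR _) hUR).trans hM ?_
      exact ((ihn.mul_right hM (trunc_mem ι hM hUR)).trans hM (hT1.mul_left hM hdR)).trans hM hdd
  have hsmall : IsSmall M (trunc ι ((J * eG) ^ (N + 1))) := fun x => by
    rw [ofOmega_trunc]; exact hN (N + 1) (Nat.le_succ N) _
  have := isSmall_sub hM hsmall (hTn N)
  rwa [sub_sub_cancel] at this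

theorem third_main_principal (hM : IsPModular p M) (P : Subgroup G) (hP : IsPGroup p P)
    (x : Subgroup.centralizer (P : Set G)) :
    MemLocalIdeal M (blockCoeff (principalBlock M G) x -
      blockCoeff (principalBlock M (Subgroup.centralizer (P : Set G))) x) := by
  have h := (third_main_cong hM P hP).apply x
  rwa [ofOmega_trunc, ofOmega_blockInd, ofOmega_blockInd] at h

end Cfsg.Agent.ZStar
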