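import Cfsg.Agent.Lib.ZStar.Unique
import Cfsg.Agent.Lib.ZStar.Apply
import Cfsg.Agent.Lib.Fusion.TameChain
import Cfsg.Agent.Lib.QDWreath.Wreathed
import Cfsg.Agent.S1190

/-!
# The centre of a Sylow 2-subgroup of rank two containing an isolated involution

If `z ∈ P` is an isolated involution and the only involutions of `P` commuting with an involution
`e ≠ z` are `z`, `e`, `z * e`, every element of `Z(P)` is isolated, so `Z(P) O(G)` is normal in `G`.
-/

set_option autoImplicit false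

namespace Cfsg.Agent.ZStar

open Cfsg

/-- `S` has no elementary abelian subgroup of order 8 through the central involution `z`. -/
def RankTwoAt {S : Type*} [Group S] (z : S) : Prop :=
  ∀ e f : S, e * e = 1 → f * f = 1 → Commute e f → e ≠ 1 → e ≠ z → f = 1 ∨ f = z ∨ f = e ∨ f = z * e

/-- The four group generated by two commuting involutions. -/
def fourGroup {S : Type*} [Group S] (z e : S) (hz : z * z = 1) (he : e * e = 1) (h : Commute z e) : Subgroup S where
  carrier := {1, z, e, z * e}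
  one_mem' := Or.inl rfl
  mul_mem' := by
    have h1 : e * z = z * e := h.eq.symm
    have h2 : z * (z * e) = e := by rw [← mul_assoc, hz, one_mul]
    have h3 : e * (z * e) = z := by rw [← mul_assoc, h1, mul_assoc, he, mul_one]
    have h4 : z * e * z = e := by rw [mul_assoc, h1, h2]
    have h5 : z * e * e = z := by rw [mul_assoc, he, mul_one]
    have h6 : z * e * (z * e) = 1 := by rw [← mul_assoc, h4, he]
    simp only [Set.mem_insert_iff, Set.mem_singleton_iff]
    rintro a b (rfl | rfl | rfl | rfl) (rfl | rfl | rfl | rfl) <;> simp [hz, he, h1, h2, h3, h4, h5, h6]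
  inv_mem' := by
    have h6 : (z * e)⁻¹ = z * e := by
      rw [mul_inv_rev, inv_eq_of_mul_eq_one_right he, inv_eq_of_mul_eq_one_right hz, h.eq]
    simp only [Set.mem_insert_iff, Set.mem_singleton_iff]
    rintro a (rfl | rfl | rfl | rfl)
    · simp
    · simp [inv_eq_of_mul_eq_one_right hz]
    · simp [inv_eq_of_mul_eq_one_right he]
    · exact Or.inr (Or.inr (Or.inr h6))

theorem rankTwoAt_quasiDihedral {S : Type*} [Group S] [Finite S] (hS : IsQuasiDihedral S) {z : S}
    (hz : z ∈ Subgroup.center S) (hz2 : orderOf z = 2) : RankTwoAt z := by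
  intro e f he hf hef he1 hez
  have hzz : z * z = 1 := Involution.mul_self hz2
  have hz1 : z ≠ 1 := Involution.ne_one hz2
  have hc : ∀ g, Commute z g := fun g => (Subgroup.mem_center_iff.1 hz g).symm
  let T := fourGroup z e hzz he (hc e)
  have hT : IsKleinFour T := by
    have hcard : Nat.card T = 4 := by
      show Nat.card ({1, z, e, z * e} : Set S) = 4
      have h1 : z ≠ z * e := fun h => he1 (mul_eq_left.1 h.symm)
      have h2 : e ≠ z * e := fun h => hz1 (mul_eq_right.1 h.symm)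
      have h3 : (1 : S) ≠ z * e := fun h => hez
        (by rw [← inv_eq_of_mul_eq_one_right h.symm, inv_eq_of_mul_eq_one_right hzz])
      rw [Nat.card_coe_set_eq, Set.ncard_insert_of_notMem, Set.ncard_insert_of_notMem,
        Set.ncard_insert_of_notMem, Set.ncard_singleton] <;> simp [hz1.symm, Ne.symm he1, h3, h1, h2, Ne.symm hez]
    refine ⟨hcard, ?_⟩
    have hd : Monoid.exponent T ∣ 2 := Monoid.exponent_dvd_of_forall_pow_eq_one fun g => by
      refine Subtype.ext ?_
      rw [SubgroupClass.coe_pow, pow_two, Subgroup.coe_one]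
      rcases g.2 with h | h | h | h <;> rw [h]
      · exact one_mul 1
      · exact hzz
      · exact he
      · rw [(hc e).symm.mul_mul_mul_comm, hzz, he, one_mul]
    rcases (Nat.dvd_prime Nat.prime_two).1 hd with h | h
    · haveI := Monoid.exp_eq_one_iff.1 h
      rw [Nat.card_unique] at hcard
      omega
    · exact h
  have hfC : f ∈ Subgroup.centralizer (T : Set S) := by
    refine Subgroup.mem_centralizer_iff.2 ?_
    rintro g (rfl | rfl | rfl | rfl)
    · simp
    · exact (hc f).eq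
    · exact hef.eq
    · exact ((hc f).mul_left hef).eq
  rw [((S1190.result hS).2 T hT).1] at hfC
  exact hfC

theorem rankTwoAt_wreathed {S : Type*} [Group S] (hS : IsWreathed S) {z : S} (hz : z ∈ Subgroup.center S)
    (hz2 : orderOf z = 2) : RankTwoAt z := by
  obtain ⟨n, ⟨d⟩⟩ := QDWreath.nonempty_wrData hS
  set h := QDWreath.tp n (n - 1) with hh
  have h2 : h + h = 0 := by rw [← two_mul, mul_comm]; exact QDWreath.half_mul_two d.one_le
  have hz1 : z ≠ 1 := Involution.ne_one hz2
  have hzh : z = d.a h h := by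
    obtain ⟨i, rfl⟩ := d.mem_center.1 hz
    rcases d.sq_eq_one.1 (Involution.mul_self hz2) with ⟨p, q, e, hp, -⟩ | ⟨p, e⟩
    · obtain ⟨rfl, -⟩ := d.a_inj.1 e
      rcases hp with rfl | rfl
      · exact absurd d.a_zero hz1
      · rfl
    · exact absurd e (d.a_ne_b _ _ _ _)
  subst hzh
  intro e f he hf hef he1 hez
  rcases d.sq_eq_one.1 he with ⟨p, q, rfl, hp, hq⟩ | ⟨i, rfl⟩ <;>
    rcases d.sq_eq_one.1 hf with ⟨r, s, rfl, hr, hs⟩ | ⟨k, rfl⟩
  · rcases hp with rfl | rfl <;> rcases hq with rfl | rfl <;> rcases hr with rfl | rfl <;>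
      rcases hs with rfl | rfl <;> simp [d.a_mul_a, h2, ← hh] at he1 hez ⊢
  · have h3 := hef.eq
    rw [d.a_mul_b, d.b_mul_a, d.b_inj] at h3
    have hpq : p = q := by linear_combination h3.1
    subst hpq
    rcases hp with rfl | rfl
    · exact absurd d.a_zero he1
    · exact absurd rfl hez
  · have h3 := hef.eq
    rw [d.b_mul_a, d.a_mul_b, d.b_inj] at h3
    have hrs : s = r := by linear_combination h3.1
    subst hrs
    rcases hr with rfl | rfl
    · exact Or.inl d.a_zero
    · exact Or.inr (Or.inl rfl)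
  · have h3 := hef.eq
    rw [d.b_mul_b, d.b_mul_b, d.a_inj] at h3
    have h4 : 2 * (k - i) = 0 := by linear_combination -h3.1
    rcases (QDWreath.two_mul_eq_zero d.one_le).1 h4 with h5 | h5
    · exact Or.inr (Or.inr (Or.inl (by rw [sub_eq_zero.1 h5])))
    · refine Or.inr (Or.inr (Or.inr ?_))
      rw [d.a_mul_b, d.b_inj]
      rw [← hh] at h5
      exact ⟨by linear_combination h5, by linear_combination -h5 - h2⟩

theorem rankTwoAt_of_qd_or_wreathed {S : Type*} [Group S] [Finite S] (hS : IsQuasiDihedral S ∨ IsWreathed S)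
    {z : S} (hz : z ∈ Subgroup.center S) (hz2 : orderOf z = 2) : RankTwoAt z :=
  hS.elim (fun h => rankTwoAt_quasiDihedral h hz hz2) fun h => rankTwoAt_wreathed h hz hz2

variable {G : Type*} [Group G] [Finite G]

/-- An element of odd order fixing `z` centralizes every 2-element of an abelian group of 2-rank two through `z`
that it normalizes. -/
theorem commute_of_odd_order {W : Set G} {x z : G} (hodd : Odd (orderOf x)) (hxz : Commute x z)
    (hW : ∀ a ∈ W, x * a * x⁻¹ ∈ W) (hmul : ∀ a ∈ W, ∀ b ∈ W, a * b ∈ W) (hinv : ∀ a ∈ W, a⁻¹ ∈ W)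
    (hcomm : ∀ a ∈ W, ∀ b ∈ W, Commute a b)
    (hr : ∀ e ∈ W, ∀ f ∈ W, e * e = 1 → f * f = 1 → e ≠ 1 → e ≠ z → f = 1 ∨ f = z ∨ f = e ∨ f = z * e)
    (hz2 : z * z = 1) (k : ℕ) : ∀ a ∈ W, a ^ 2 ^ k = 1 → Commute x a := by
  have hsmall : ∀ e ∈ W, e * e = 1 → Commute x e := by
    intro e he he2
    by_cases he1 : e = 1
    · rw [he1]; exact Commute.one_right x
    by_cases hez : e = z
    · rw [hez]; exact hxz
    have hf2 : x * e * x⁻¹ * (x * e * x⁻¹) = 1 := by
      rw [show x * e * x⁻¹ * (x * e * x⁻¹) = x * (e * e) * x⁻¹ by group, he2]; group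
    rcases hr e he _ (hW e he) he2 hf2 he1 hez with h | h | h | h
    · exact absurd (conj_eq_one_iff.1 h) he1
    · refine absurd ?_ hez
      have h2 : x * e * x⁻¹ = x * z * x⁻¹ := by rw [h, hxz.eq, mul_inv_cancel_right]
      exact mul_left_cancel (mul_right_cancel h2)
    · exact mul_inv_eq_iff_eq_mul.1 h
    · -- `x ^ 2` fixes `e`, and `x` is a power of it
      have h2 : Commute (x ^ 2) e := by
        refine mul_inv_eq_iff_eq_mul.1 ?_
        calc x ^ 2 * e * (x ^ 2)⁻¹ = x * (x * e * x⁻¹) * x⁻¹ := by rw [pow_two]; group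
          _ = x * (z * e) * x⁻¹ := by rw [h]
          _ = x * z * x⁻¹ * (x * e * x⁻¹) := by group
          _ = e := by rw [h, hxz.eq, mul_inv_cancel_right, ← mul_assoc, hz2, one_mul]
      obtain ⟨m, hm⟩ := hodd
      have h3 := h2.pow_left (m + 1)
      rwa [← pow_mul, show 2 * (m + 1) = orderOf x + 1 by omega, pow_succ, pow_orderOf_eq_one, one_mul] at h3
  induction k with
  | zero => intro a _ h; rw [pow_zero, pow_one] at h; rw [h]; exact Commute.one_right x
  | succ k ih =>
    intro a ha h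
    set e := a⁻¹ * (x * a * x⁻¹) with he
    have heW : e ∈ W := hmul _ (hinv a ha) _ (hW a ha)
    have hsq : Commute x (a * a) := ih _ (hmul a ha a ha) (by rw [← pow_two, ← pow_mul, ← pow_succ']; exact h)
    have hc : Commute (a⁻¹) (x * a * x⁻¹) := hcomm _ (hinv a ha) _ (hW a ha)
    have he2 : e * e = 1 := by
      calc e * e = a⁻¹ * a⁻¹ * (x * (a * a) * x⁻¹) := by rw [he, hc.symm.mul_mul_mul_comm]; group
        _ = 1 := by rw [hsq.eq, mul_inv_cancel_right]; group
    have hxe : Commute x e := hsmall e heW he2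
    have hstep : ∀ m : ℕ, x ^ m * a * (x ^ m)⁻¹ = a * e ^ m := by
      intro m
      induction m with
      | zero => simp
      | succ m ihm =>
        calc x ^ (m + 1) * a * (x ^ (m + 1))⁻¹ = x * (x ^ m * a * (x ^ m)⁻¹) * x⁻¹ := by rw [pow_succ']; group
          _ = (x * a * x⁻¹) * (x * e ^ m * x⁻¹) := by rw [ihm]; group
          _ = a * e * e ^ m := by rw [(hxe.pow_right m).eq, mul_inv_cancel_right, he, mul_inv_cancel_left]
          _ = a * e ^ (m + 1) := by rw [pow_succ', mul_assoc]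
    have h1 := hstep (orderOf x)
    obtain ⟨m, hm⟩ := hodd
    rw [pow_orderOf_eq_one, one_mul, inv_one, mul_one, hm, pow_succ, pow_mul, pow_two e, he2, one_pow, one_mul,
      left_eq_mul, he, inv_mul_eq_one] at h1
    exact mul_inv_eq_iff_eq_mul.1 h1.symm

variable (P : Sylow 2 G) {z : G} (hzP : z ∈ P)

/-- If `z` is central, the elements of `Z(P)` are fixed by the fusion of `P`. -/
theorem conj_eq_self (hzc : z ∈ Subgroup.center G) (hz2 : orderOf z = 2)
    (hr : RankTwoAt (⟨z, hzP⟩ : (P : Subgroup G)))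
    {c : G} (hcP : c ∈ P) (hc : ∀ s ∈ P, Commute s c) {g : G} (hg : g⁻¹ * c * g ∈ P) :
    g⁻¹ * c * g = c := by
  haveI : Fact (Nat.Prime 2) := ⟨Nat.prime_two⟩
  have hzall : ∀ Q : Sylow 2 G, z ∈ Q := by
    intro Q
    obtain ⟨y, rfl⟩ := MulAction.exists_smul_eq G P Q
    refine ⟨z, hzP, ?_⟩
    show y * z * y⁻¹ = z
    rw [Subgroup.mem_center_iff.1 hzc y, mul_inv_cancel_right]
  have key : ∀ (A : Set G) (g : G), TameChain.Chain P A g → A = {c} → g⁻¹ * c * g = c := by
    intro A g hch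
    induction hch with
    | nil A => intro _; simp
    | cons A Q x g' hx htame hA _ ih =>
      rintro rfl
      suffices hfix : x⁻¹ * c * x = c by
        have h2 := ih (by simp [TameChain.conjSet, hfix])
        rw [show (x * g')⁻¹ * c * (x * g') = g'⁻¹ * (x⁻¹ * c * x) * g' by group, hfix]
        exact h2
      set D : Subgroup G := (P : Subgroup G) ⊓ (Q : Subgroup G)
      set N := TameChain.interNormalizer P Q
      have hcD : c ∈ D := hA rfl
      set W : Set G := {a | a ∈ D ∧ ∀ d ∈ D, Commute d a}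
      have hWr : ∀ e ∈ W, ∀ f ∈ W, e * e = 1 → f * f = 1 → e ≠ 1 → e ≠ z →
          f = 1 ∨ f = z ∨ f = e ∨ f = z * e := by
        intro e he f hf he2 hf2 he1 hez
        have := hr ⟨e, he.1.1⟩ ⟨f, hf.1.1⟩ (Subtype.ext he2) (Subtype.ext hf2) (Subtype.ext (hf.2 e he.1).eq)
          (fun h => he1 (congrArg Subtype.val h)) (fun h => hez (congrArg Subtype.val h))
        simpa [Subtype.ext_iff] using this
      have hodd : ∀ y ∈ N, Odd (orderOf y) → Commute y c := by
        intro y hy ho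
        obtain ⟨k, hk⟩ := P.isPGroup' ⟨c, hcP⟩
        refine commute_of_odd_order (W := W) ho (Subgroup.mem_center_iff.1 hzc y) ?_ ?_ ?_
          (fun a ha b hb => hb.2 a ha.1) hWr (Involution.mul_self hz2) k c
          ⟨hcD, fun d hd => hc d hd.1⟩ (congrArg Subtype.val hk)
        · rintro a ⟨haD, ha⟩
          refine ⟨(Subgroup.mem_normalizer_iff.1 hy a).1 haD, fun d hd => ?_⟩
          have hd' : y⁻¹ * d * y ∈ D := (Subgroup.mem_normalizer_iff''.1 hy d).1 hd
          have := (ha _ hd').map (MulAut.conj y).toMonoidHom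
          simpa [mul_assoc] using this
        · rintro a ⟨haD, ha⟩ b ⟨hbD, hb⟩
          exact ⟨D.mul_mem haD hbD, fun d hd => (ha d hd).mul_right (hb d hd)⟩
        · rintro a ⟨haD, ha⟩
          exact ⟨D.inv_mem haD, fun d hd => (ha d hd).inv_right⟩
      set C : Subgroup N := (Subgroup.centralizer ({c} : Set G)).subgroupOf N
      have hCtop : C = ⊤ := by
        refine Subgroup.index_eq_one.1 (Nat.eq_one_iff_not_exists_prime_dvd.2 fun q hq hdvd => ?_)
        by_cases hq2 : q = 2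
        · subst hq2
          have hle : ((P : Subgroup G) ⊓ N).subgroupOf N ≤ C := fun y hy =>
            Subgroup.mem_subgroupOf.2 (Subgroup.mem_centralizer_singleton_iff.2
              (hc _ (Subgroup.mem_subgroupOf.1 hy).1).eq)
          exact htame.1 (hdvd.trans (Subgroup.index_dvd_of_le hle))
        · haveI := Fact.mk hq
          obtain ⟨R⟩ : Nonempty (Sylow q N) := inferInstance
          have hle : (R : Subgroup N) ≤ C := fun y hy => by
            refine Subgroup.mem_subgroupOf.2 (Subgroup.mem_centralizer_singleton_iff.2 (hodd y y.2 ?_).eq)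
            obtain ⟨k, hk⟩ := IsPGroup.iff_orderOf.1 R.isPGroup' ⟨y, hy⟩
            rw [Subgroup.orderOf_coe, ← Subgroup.orderOf_mk y hy, hk]
            exact (hq.odd_of_ne_two hq2).pow
          exact R.not_dvd_index (hdvd.trans (Subgroup.index_dvd_of_le hle))
      have hxC : (⟨x, hx⟩ : N) ∈ C := hCtop ▸ Subgroup.mem_top _
      have := Subgroup.mem_centralizer_singleton_iff.1 (Subgroup.mem_subgroupOf.1 hxC)
      rw [mul_assoc, ← this, inv_mul_cancel_left]
  exact key _ g (TameChain.exists_chain P (by simpa using hcP) (by simpa [TameChain.conjSet] using hg)) rfl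

/-- The elements of `Z(P)` are central modulo `O(G)`. -/
theorem center_sylow_inZStar (hiso : IsIsolatedInvolution z) (hr : RankTwoAt (⟨z, hzP⟩ : (P : Subgroup G)))
    {c : G} (hcP : c ∈ P) (hc : ∀ s ∈ P, Commute s c) (g : G) : g * c * g⁻¹ * c⁻¹ ∈ oddCore G := by
  haveI : Fact (Nat.Prime 2) := ⟨Nat.prime_two⟩
  haveI : (oddCore G).Normal := Cores.pPrimeCore_normal 2 G
  let f := QuotientGroup.mk' (oddCore G)
  have hf : Function.Surjective f := QuotientGroup.mk'_surjective _
  let P' := P.mapSurjective hf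
  have hinj : ∀ a ∈ P, f a = 1 → a = 1 := by
    intro a ha h
    obtain ⟨k, hk⟩ := IsPGroup.iff_orderOf.1 P.isPGroup' ⟨a, ha⟩
    have h1 : orderOf a ∣ Nat.card (oddCore G) := Subgroup.orderOf_dvd_natCard _ ((QuotientGroup.eq_one_iff a).1 h)
    rw [← Subgroup.orderOf_mk a ha, hk] at h1
    have h2 : orderOf (⟨a, ha⟩ : (P : Subgroup G)) = 1 := hk.trans
      (Nat.Coprime.eq_one_of_dvd ((Cores.coprime_card_pPrimeCore 2).symm.pow_left k) h1)
    exact congrArg Subtype.val (orderOf_eq_one_iff.1 h2)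
  have hinj' : ∀ a ∈ P, ∀ b ∈ P, f a = f b → a = b := fun a ha b hb h =>
    mul_inv_eq_one.1 (hinj _ ((P : Subgroup G).mul_mem ha ((P : Subgroup G).inv_mem hb)) (by simp [h]))
  have hmem : ∀ y ∈ P', ∃ a ∈ P, f a = y := fun y ⟨a, ha, e⟩ => ⟨a, ha, e⟩
  have hzc : f z ∈ Subgroup.center (G ⧸ oddCore G) := by
    refine Subgroup.mem_center_iff.2 fun y => ?_
    obtain ⟨y, rfl⟩ := hf y
    have h := (QuotientGroup.eq_one_iff _).2 (zStar_of_brauerSuzuki uniqueInvolution hiso y)
    change f (z * y * z⁻¹ * y⁻¹) = 1 at h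
    rw [map_mul, map_mul, map_mul, map_inv, map_inv, mul_inv_eq_one, mul_inv_eq_iff_eq_mul] at h
    exact h.symm
  have hz2 : orderOf (f z) = 2 := by
    refine orderOf_eq_prime (by rw [← map_pow, ← hiso.1, pow_orderOf_eq_one, map_one]) fun h =>
      Involution.ne_one hiso.1 (hinj z hzP h)
  have hzP' : f z ∈ P' := ⟨z, hzP, rfl⟩
  have hr' : RankTwoAt (⟨f z, hzP'⟩ : (P' : Subgroup (G ⧸ oddCore G))) := by
    intro e e' he he' hee he1 hez
    obtain ⟨a, ha, hae⟩ := hmem _ e.2
    obtain ⟨b, hb, hbe⟩ := hmem _ e'.2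
    have hsq : ∀ a, ∀ ha : a ∈ P, f a * f a = 1 → (⟨a, ha⟩ : (P : Subgroup G)) * ⟨a, ha⟩ = 1 := fun a ha h =>
      Subtype.ext (hinj (a * a) ((P : Subgroup G).mul_mem ha ha) (by rw [map_mul]; exact h))
    have h := hr ⟨a, ha⟩ ⟨b, hb⟩ (hsq a ha (by rw [hae]; exact congrArg Subtype.val he))
      (hsq b hb (by rw [hbe]; exact congrArg Subtype.val he'))
      (Subtype.ext (hinj' (a * b) ((P : Subgroup G).mul_mem ha hb) (b * a) ((P : Subgroup G).mul_mem hb ha)
        (by rw [map_mul, map_mul, hae, hbe]; exact congrArg Subtype.val hee.eq)))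
      (fun h => he1 (Subtype.ext (by rw [← hae, show a = 1 from congrArg Subtype.val h, map_one]; rfl)))
      (fun h => hez (Subtype.ext (by rw [← hae, show a = z from congrArg Subtype.val h])))
    simp only [Subtype.ext_iff, Subgroup.coe_one, Subgroup.coe_mul] at h ⊢
    rw [← hae, ← hbe]
    rcases h with rfl | rfl | rfl | rfl <;> simp
  have hfix : ∀ y, y * f c * y⁻¹ ∈ P' → y * f c * y⁻¹ = f c := fun y hy => by
    have hcy : ∀ s ∈ P', Commute s (f c) := fun s hs => by
      obtain ⟨a, ha, rfl⟩ := hmem s hs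
      exact (hc a ha).map f
    have h := conj_eq_self P' hzP' hzc hz2 hr' (c := f c) ⟨c, hcP, rfl⟩ hcy (g := y⁻¹) (by rwa [inv_inv])
    rwa [inv_inv] at h
  have hc2 : ∃ k, orderOf (f c) = 2 ^ k := by
    obtain ⟨k, hk⟩ := IsPGroup.iff_orderOf.1 P'.isPGroup' ⟨f c, c, hcP, rfl⟩
    exact ⟨k, by rwa [← Subgroup.orderOf_coe] at hk⟩
  have hisoc : IsIsolated (f c) := by
    intro y hy
    obtain ⟨k, hk⟩ := hc2
    have hS2 : IsPGroup 2 (Subgroup.zpowers (f c) ⊔ Subgroup.zpowers (y * f c * y⁻¹) : Subgroup _) := by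
      refine (IsPGroup.of_card (n := k) (by rw [Nat.card_zpowers, hk])).to_sup_of_normal_left'
        (IsPGroup.of_card (n := k) (by rw [Nat.card_zpowers, Involution.orderOf_conj, hk])) ?_
      refine le_trans ?_ (Subgroup.centralizer_le_normalizer _)
      refine Subgroup.zpowers_le.2 (Subgroup.mem_centralizer_iff.2 ?_)
      rintro _ ⟨i, rfl⟩
      exact (hy.zpow_left i).eq
    obtain ⟨R, hR⟩ := hS2.exists_le_sylow
    obtain ⟨u, hu⟩ := MulAction.exists_smul_eq (G ⧸ oddCore G) R P'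
    have h1 : u * f c * u⁻¹ ∈ P' := by
      rw [← hu]; exact ⟨_, hR (Subgroup.mem_sup_left (Subgroup.mem_zpowers _)), rfl⟩
    have h2 : u * y * f c * (u * y)⁻¹ ∈ P' := by
      rw [show u * y * f c * (u * y)⁻¹ = u * (y * f c * y⁻¹) * u⁻¹ by group, ← hu]
      exact ⟨_, hR (Subgroup.mem_sup_right (Subgroup.mem_zpowers _)), rfl⟩
    have e1 := hfix u h1
    have e2 := hfix _ h2
    calc y * f c * y⁻¹ = u⁻¹ * (u * y * f c * (u * y)⁻¹) * u := by group
      _ = u⁻¹ * (u * f c * u⁻¹) * u := by rw [e2, e1]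
      _ = f c := by group
  have h := zStar_pElement uniqueInvolution hc2 hisoc (f g)
  rw [Cores.pPrimeCore_quotient_self, Subgroup.mem_bot, ← map_inv, ← map_inv, ← map_mul, ← map_mul,
    ← map_mul] at h
  exact (QuotientGroup.eq_one_iff _).1 h

/-- Every element is a product of an element of `O(G)` and one centralizing `Z(P)`; `O(G) Z(P)` is normal. -/
theorem factor_center (hiso : IsIsolatedInvolution z) (hr : RankTwoAt (⟨z, hzP⟩ : (P : Subgroup G))) :
    (oddCore G ⊔ (Subgroup.center (P : Subgroup G)).map (P : Subgroup G).subtype).Normal ∧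
      ∀ h : G, ∃ o ∈ oddCore G, ∃ c ∈ Subgroup.centralizer
        (((Subgroup.center (P : Subgroup G)).map (P : Subgroup G).subtype : Subgroup G) : Set G), h = o * c := by
  haveI : Fact (Nat.Prime 2) := ⟨Nat.prime_two⟩
  set O := oddCore G
  haveI : O.Normal := Cores.pPrimeCore_normal 2 G
  set Z := (Subgroup.center (P : Subgroup G)).map (P : Subgroup G).subtype
  have hZ : ∀ c ∈ Z, c ∈ P ∧ ∀ s ∈ P, Commute s c := by
    rintro _ ⟨c, hc, rfl⟩
    exact ⟨c.2, fun s hs => congrArg Subtype.val (Subgroup.mem_center_iff.1 hc ⟨s, hs⟩)⟩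
  have hcore : ∀ c ∈ Z, ∀ g, g * c * g⁻¹ * c⁻¹ ∈ O := fun c hc =>
    center_sylow_inZStar P hzP hiso hr (hZ c hc).1 (hZ c hc).2
  set K := O ⊔ Z
  have hK : K.Normal := by
    rw [← Subgroup.normalizer_eq_top_iff, eq_top_iff]
    intro g _
    have hstep : ∀ g : G, ∀ k ∈ K, g * k * g⁻¹ ∈ K := by
      intro g k hk
      obtain ⟨o, ho, c, hc, rfl⟩ := Subgroup.mem_sup_of_normal_left.1 hk
      rw [show g * (o * c) * g⁻¹ = (g * o * g⁻¹) * (g * c * g⁻¹ * c⁻¹) * c by group]
      exact K.mul_mem (Subgroup.mem_sup_left (O.mul_mem (Subgroup.Normal.conj_mem inferInstance o ho g) (hcore c hc g)))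
        (Subgroup.mem_sup_right hc)
    refine Subgroup.mem_normalizer_iff.2 fun k => ⟨hstep g k, fun h => ?_⟩
    simpa [mul_assoc] using hstep g⁻¹ _ h
  refine ⟨hK, fun h => ?_⟩
  have hZp : IsPGroup 2 Z := P.isPGroup'.to_le fun c hc => (hZ c hc).1
  obtain ⟨R, hR⟩ := (hZp.of_equiv (Subgroup.subgroupOfEquivOfLe (le_sup_right : Z ≤ K)).symm).exists_le_sylow
  have hdis : ∀ a ∈ O, a ∈ P → a = 1 := fun a haO haP => by
    obtain ⟨k, hk⟩ := IsPGroup.iff_orderOf.1 P.isPGroup' ⟨a, haP⟩
    have h1 := Subgroup.orderOf_dvd_natCard O haO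
    rw [← Subgroup.orderOf_mk a haP, hk] at h1
    have h2 : orderOf (⟨a, haP⟩ : (P : Subgroup G)) = 1 := hk.trans
      (Nat.Coprime.eq_one_of_dvd ((Cores.coprime_card_pPrimeCore 2).symm.pow_left k) h1)
    exact congrArg Subtype.val (orderOf_eq_one_iff.1 h2)
  have hReq : (R : Subgroup K).map K.subtype = Z := by
    refine le_antisymm ?_ fun c hc => ⟨⟨c, Subgroup.mem_sup_right hc⟩, hR (Subgroup.mem_subgroupOf.2 hc), rfl⟩
    rintro _ ⟨r, hr', rfl⟩
    obtain ⟨o, ho, c, hc, e⟩ := Subgroup.mem_sup_of_normal_left.1 r.2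
    have hoR : (⟨o, Subgroup.mem_sup_left ho⟩ : K) ∈ R := by
      have h1 : (⟨o, Subgroup.mem_sup_left ho⟩ : K) = r * ⟨c, Subgroup.mem_sup_right hc⟩⁻¹ :=
        Subtype.ext (eq_mul_inv_of_mul_eq e)
      rw [h1]
      exact (R : Subgroup K).mul_mem hr' ((R : Subgroup K).inv_mem (hR (Subgroup.mem_subgroupOf.2 hc)))
    obtain ⟨k, hk⟩ := IsPGroup.iff_orderOf.1 R.isPGroup' ⟨_, hoR⟩
    have h1 := Subgroup.orderOf_dvd_natCard O ho
    rw [← Subgroup.orderOf_mk o (Subgroup.mem_sup_left (T := Z) ho), ← Subgroup.orderOf_mk _ hoR, hk] at h1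
    have h2 : orderOf (⟨_, hoR⟩ : (R : Subgroup K)) = 1 := hk.trans
      (Nat.Coprime.eq_one_of_dvd ((Cores.coprime_card_pPrimeCore 2).symm.pow_left k) h1)
    have h3 : o = 1 := congrArg (fun w : (R : Subgroup K) => ((w : K) : G)) (orderOf_eq_one_iff.1 h2)
    show (r : G) ∈ Z
    rw [← e, h3, one_mul]
    exact hc
  haveI := hK
  have htop : Subgroup.normalizer (Z : Set G) ⊔ K = ⊤ := by
    rw [← hReq]
    exact R.normalizer_sup_eq_top
  have hle : Subgroup.normalizer (Z : Set G) ⊔ K ≤ Subgroup.normalizer (Z : Set G) ⊔ O :=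
    sup_le le_sup_left (sup_le le_sup_right (le_sup_of_le_left Subgroup.le_normalizer))
  obtain ⟨o, ho, n, hn, rfl⟩ := Subgroup.mem_sup_of_normal_left.1
    (show h ∈ O ⊔ Subgroup.normalizer (Z : Set G) by rw [sup_comm]; exact hle (htop ▸ Subgroup.mem_top h))
  refine ⟨o, ho, n, Subgroup.mem_centralizer_iff.2 fun c hc => ?_, rfl⟩
  have h1 : n * c * n⁻¹ * c⁻¹ = 1 := hdis _ (hcore c hc n)
    ((P : Subgroup G).mul_mem (hZ _ ((Subgroup.mem_normalizer_iff.1 hn c).1 hc)).1 ((P : Subgroup G).inv_mem (hZ c hc).1))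
  exact (mul_inv_eq_iff_eq_mul.1 (mul_inv_eq_one.1 h1)).symm

end Cfsg.Agent.ZStar
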