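import Cfsg.Agent.Lib.ZStar.Glauberman

/-!
# A block-orthogonality criterion for non-simplicity

`not_simple_of_closed_system`: a finite non-empty family `S` of elements of even order such that, for all
`u ∈ S` and all conjugates `x` of a fixed `ω ≠ 1`, every character `χ` of the principal `2`-block takes the
same value at `x * u` as at some member of `S`, cannot exist in a simple group.  Used in the manner of the
`Z*`-theorem, with no isolation hypothesis.
-/

set_option autoImplicit false

open scoped ComplexConjugate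

namespace Cfsg.Agent.ZStar

open Cfsg

universe u

variable {G : Type u} [Group G]

theorem apply_sub_ne_of_simple [Finite G] [IsSimpleGroup G] {ω : G} (h1 : ω ≠ 1) (h2 : ω * ω = 1)
    {χ : IrrCharacter G} (hne : χ ≠ BrauerPairs.oneIrr G) : (χ : G → ℂ) ω ≠ (χ : G → ℂ) 1 := by
  classical
  intro hχz
  have := Fintype.ofFinite G
  obtain ⟨n, ρ, hirr, hρ⟩ := χ.2
  have hker : ω ∈ MonoidHom.ker ρ := by
    refine MonoidHom.mem_ker.2 (Frobenius.apply_eq_one_of_char_pow ρ ω fun x hx => ?_)
    rw [← Representation.char_one ρ, hρ]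
    obtain ⟨k, rfl⟩ := Subgroup.mem_zpowers_iff.1 hx
    rcases Int.even_or_odd k with ⟨l, hl⟩ | ⟨l, hl⟩
    · rw [hl, ← two_mul, zpow_mul, zpow_two, h2, one_zpow]
    · rw [hl, zpow_add_one, zpow_mul, zpow_two, h2, one_zpow, one_mul, hχz]
  rcases Subgroup.Normal.eq_bot_or_eq_top (MonoidHom.normal_ker ρ) with h | h
  · exact h1 (Subgroup.mem_bot.1 (h ▸ hker))
  · have hval : ∀ g, (χ : G → ℂ) g = (χ : G → ℂ) 1 := by
      intro g
      have h1 : ρ g = 1 := MonoidHom.mem_ker.1 (h ▸ Subgroup.mem_top g)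
      rw [← hρ]
      show LinearMap.trace ℂ _ (ρ g) = LinearMap.trace ℂ _ (ρ 1)
      rw [h1, map_one ρ]
    have := Fintype.ofFinite G
    have h3 := Char.classInner_irr_of_ne χ.2 (BrauerPairs.oneIrr G).2 fun he => hne (Subtype.ext he)
    simp [classInner, BrauerPairs.oneIrr, hval] at h3
    exact Blocks.irr_one_ne_zero χ h3

theorem not_simple_of_closed_system [Finite G] {ω : G} (h1 : ω ≠ 1) (h2 : ω * ω = 1) (S : Set G)
    (hne : S.Nonempty) (heven : ∀ u ∈ S, orderOf u = 2)
    (hstep : ∀ {M : Ideal AlgInt}, IsPModular 2 M → ∀ u ∈ S, ∀ b : G, ∃ u' ∈ S,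
      ∀ χ ∈ principalBlock M G, (χ : G → ℂ) (b * ω * b⁻¹ * u) = (χ : G → ℂ) u') :
    ¬ IsSimpleGroup G := by
  classical
  intro hs
  haveI : Fact (Nat.Prime 2) := ⟨Nat.prime_two⟩
  obtain ⟨M, hM⟩ := Blocks.exists_isPModular Nat.prime_two
  have := Fintype.ofFinite G
  have := Fintype.ofFinite (IrrCharacter G)
  set lam : IrrCharacter G → ℂ := fun χ => (χ : G → ℂ) ω / (χ : G → ℂ) 1 with hlam
  set c : IrrCharacter G → ℂ := fun χ =>
    Blocks.blockInd (principalBlock M G) χ * (χ : G → ℂ) 1 with hc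
  have hG : (Nat.card G : ℂ) ≠ 0 := Nat.cast_ne_zero.2 Nat.card_pos.ne'
  have hsum : ∀ (χ : IrrCharacter G) (u : G), ∑ b : G, (χ : G → ℂ) (b * ω * b⁻¹ * u) =
      (Nat.card G : ℂ) * (lam χ * (χ : G → ℂ) u) := by
    intro χ u
    obtain ⟨n, ρ, hirr, hρ⟩ := χ.2
    have hfr : (Module.finrank ℂ (Fin n → ℂ) : ℂ) = (χ : G → ℂ) 1 := by
      rw [← hρ, Representation.char_one]
    have h := CharApp.sum_char_conj_mul ρ ω u
    rw [hρ, hfr] at h
    rw [h, hlam]
    ring
  have claim : ∀ A : Finset (IrrCharacter G), ∀ u ∈ S,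
      ∑ χ : IrrCharacter G, c χ * (∏ a ∈ A, (lam χ - lam a)) * (χ : G → ℂ) u = 0 := by
    intro A
    induction A using Finset.induction_on with
    | empty =>
      intro u hu
      have h := Blocks.weak_orth hM (Blocks.blockInd_mem_intRing hM (principal_isPBlock hM G))
        (x := 1) (y := u) (by rw [orderOf_one]; norm_num) (by rw [heven u hu])
      rw [finsum_mem_def, finsum_eq_sum_of_fintype] at h
      rw [← h]
      refine Finset.sum_congr rfl fun χ _ => ?_
      by_cases hχ : χ ∈ principalBlock M G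
      · rw [Set.indicator_of_mem hχ, hc]
        simp only [Blocks.blockInd_of_mem hχ, one_mul, Finset.prod_empty, mul_one]
        rw [← Char.IsCharacter.apply_inv (Char.IsIrrCharacter.isCharacter χ.2),
          Involution.inv_eq (heven u hu)]
      · rw [Set.indicator_of_notMem hχ, hc]
        simp [Blocks.blockInd_of_notMem hχ]
    | @insert a A ha ih =>
      intro u hu
      have hl : ∑ χ : IrrCharacter G,
          c χ * (∏ a ∈ A, (lam χ - lam a)) * (lam χ * (χ : G → ℂ) u) = 0 := by
        have h0 : (Nat.card G : ℂ) * (∑ χ : IrrCharacter G,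
            c χ * (∏ a ∈ A, (lam χ - lam a)) * (lam χ * (χ : G → ℂ) u)) = 0 := by
          rw [Finset.mul_sum]
          have e : ∀ χ : IrrCharacter G,
              (Nat.card G : ℂ) * (c χ * (∏ a ∈ A, (lam χ - lam a)) * (lam χ * (χ : G → ℂ) u)) =
                ∑ b : G, c χ * (∏ a ∈ A, (lam χ - lam a)) * (χ : G → ℂ) (b * ω * b⁻¹ * u) := by
            intro χ
            rw [← Finset.mul_sum, hsum]
            ring
          simp only [e]
          rw [Finset.sum_comm]
          refine Finset.sum_eq_zero fun b _ => ?_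
          obtain ⟨u', hu', hval⟩ := hstep hM u hu b
          rw [← ih u' hu']
          refine Finset.sum_congr rfl fun χ _ => ?_
          by_cases hχ : χ ∈ principalBlock M G
          · rw [hval χ hχ]
          · simp [hc, Blocks.blockInd_of_notMem hχ]
        exact (mul_eq_zero.1 h0).resolve_left hG
      have hu0 := ih u hu
      have e2 : ∑ χ : IrrCharacter G, c χ * (∏ x ∈ insert a A, (lam χ - lam x)) * (χ : G → ℂ) u =
          (∑ χ : IrrCharacter G, c χ * (∏ x ∈ A, (lam χ - lam x)) * (lam χ * (χ : G → ℂ) u)) -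
            lam a * ∑ χ : IrrCharacter G, c χ * (∏ x ∈ A, (lam χ - lam x)) * (χ : G → ℂ) u := by
        rw [Finset.mul_sum, ← Finset.sum_sub_distrib]
        refine Finset.sum_congr rfl fun χ _ => ?_
        rw [Finset.prod_insert ha]
        ring
      rw [e2, hl, hu0, mul_zero, sub_zero]
  obtain ⟨u, hu⟩ := hne
  set e := BrauerPairs.oneIrr G with he
  have h := claim (Finset.univ.erase e) u hu
  rw [Finset.sum_eq_single e] at h
  · have he1 : (e : G → ℂ) = fun _ => 1 := rfl
    have hc1 : c e = 1 := by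
      show Blocks.blockInd (principalBlock M G) e * (e : G → ℂ) 1 = 1
      rw [Blocks.blockInd_of_mem (BrauerPairs.oneIrr_mem_principal hM (G := G)), one_mul, he1]
    rw [hc1, one_mul, he1, mul_one] at h
    obtain ⟨a, ha, ha0⟩ := Finset.prod_eq_zero_iff.1 h
    have hle : lam e = 1 := by simp [hlam, he, BrauerPairs.oneIrr]
    rw [hle, sub_eq_zero, hlam] at ha0
    exact apply_sub_ne_of_simple h1 h2 (Finset.ne_of_mem_erase ha)
      ((div_eq_one_iff_eq (Blocks.irr_one_ne_zero a)).1 ha0.symm)
  · intro χ _ hχ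
    rw [Finset.prod_eq_zero (Finset.mem_erase.2 ⟨hχ, Finset.mem_univ _⟩) (sub_self _), mul_zero,
      zero_mul]
  · simp

end Cfsg.Agent.ZStar
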