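import Cfsg.Agent.Lib.ZStar.SecondPrincipal
import Cfsg.Agent.Lib.BrauerSuzuki.Quaternion
import Cfsg.Agent.Lib.BrauerPairs.Basic
import Cfsg.Agent.Lib.Blocks.WeakOrth
import Cfsg.Agent.Lib.RegPart.Contribution

/-!
# The principal 2-block of a group with quaternion Sylow subgroup of order eight

With `O(G) = 1` and a Sylow subgroup `Q₈ ≠ G`: the involution `z` is central, the elements of order four form one
section with a constant value `s χ` of each principal block character, four characters have `z` in the kernel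
(`s = ±1`) and the contribution numbers force three faithful ones.
-/

set_option autoImplicit false

open scoped ComplexConjugate

namespace Cfsg.Agent.Q8Block

open Cfsg Cfsg.Agent.Blocks

variable {G : Type*} [Group G] [Finite G]

theorem isPBlock_principal' {M : Ideal AlgInt} : IsPBlock M (principalBlock M G) :=
  ⟨⟨fun _ => 1, Char.isIrrCharacter_one⟩, rfl⟩

/-- The size of a section `u * K`. -/
theorem card_section {u : G} {K : Subgroup G} {N m : ℕ} {p : G → Prop}
    (hKn : ∀ c, Commute c u → ∀ o ∈ K, c * o * c⁻¹ ∈ K) (hpow : ∀ v ∈ K, (u * v) ^ N = u)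
    (hcard : Nat.card (Subgroup.centralizer ({u} : Set G)) = m * Nat.card K)
    (hsurj : ∀ g, p g → ∃ c, ∃ v ∈ K, g = c * (u * v) * c⁻¹) (hmem : ∀ c, ∀ v ∈ K, p (c * (u * v) * c⁻¹)) :
    m * Nat.card {g : G // p g} = Nat.card G := by
  classical
  haveI := Fintype.ofFinite G
  let T := {g : G // p g}
  let f : G × K → T := fun q => ⟨q.1 * (u * q.2) * q.1⁻¹, hmem q.1 q.2 q.2.2⟩
  have hd : ∀ c c₀ v v₀, v ∈ K → v₀ ∈ K → c * (u * v) * c⁻¹ = c₀ * (u * v₀) * c₀⁻¹ →
      Commute (c₀⁻¹ * c) u := by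
    intro c c₀ v v₀ hv hv₀ h
    have h1 : (c₀⁻¹ * c) * (u * v) * (c₀⁻¹ * c)⁻¹ = u * v₀ := by
      calc c₀⁻¹ * c * (u * v) * (c₀⁻¹ * c)⁻¹ = c₀⁻¹ * (c * (u * v) * c⁻¹) * c₀ := by group
        _ = u * v₀ := by rw [h]; group
    refine mul_inv_eq_iff_eq_mul.1 ?_
    calc c₀⁻¹ * c * u * (c₀⁻¹ * c)⁻¹ = ((c₀⁻¹ * c) * (u * v) * (c₀⁻¹ * c)⁻¹) ^ N := by rw [conj_pow, hpow v hv]
      _ = u := by rw [h1, hpow v₀ hv₀]
  have hfib : ∀ t : T, Nat.card {q : G × K // f q = t} = m * Nat.card K := by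
    rintro ⟨g, hg⟩
    obtain ⟨c₀, v₀, hv₀, rfl⟩ := hsurj g hg
    rw [← hcard]
    refine Nat.card_congr
      { toFun := fun q => ⟨c₀⁻¹ * q.1.1, Subgroup.mem_centralizer_singleton_iff.2
          (hd _ _ _ _ q.1.2.2 hv₀ (congrArg Subtype.val q.2)).eq⟩
        invFun := fun d => ⟨(c₀ * d.1, ⟨(d : G)⁻¹ * v₀ * d, ?_⟩), ?_⟩
        left_inv := ?_
        right_inv := fun d => Subtype.ext (inv_mul_cancel_left c₀ (d : G)) }
    · have hdz : Commute (d : G) u := Subgroup.mem_centralizer_singleton_iff.1 d.2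
      simpa using hKn _ hdz.inv_left v₀ hv₀
    · refine Subtype.ext ?_
      have hdz : Commute (d : G) u := Subgroup.mem_centralizer_singleton_iff.1 d.2
      show c₀ * d * (u * ((d : G)⁻¹ * v₀ * d)) * (c₀ * d)⁻¹ = c₀ * (u * v₀) * c₀⁻¹
      calc c₀ * d * (u * ((d : G)⁻¹ * v₀ * d)) * (c₀ * d)⁻¹
          = c₀ * ((d : G) * u * (d : G)⁻¹ * v₀) * c₀⁻¹ := by group
        _ = _ := by rw [hdz.eq, mul_inv_cancel_right]
    · rintro ⟨⟨c, v⟩, hq⟩
      have hq' : c * (u * v) * c⁻¹ = c₀ * (u * v₀) * c₀⁻¹ := congrArg Subtype.val hq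
      refine Subtype.ext (Prod.ext (mul_inv_cancel_left c₀ c) (Subtype.ext ?_))
      show (c₀⁻¹ * c)⁻¹ * v₀ * (c₀⁻¹ * c) = v
      have hdz := hd _ _ _ _ v.2 hv₀ hq'
      have h2 : u * v₀ = u * ((c₀⁻¹ * c) * v * (c₀⁻¹ * c)⁻¹) := by
        calc u * v₀ = c₀⁻¹ * (c * (u * v) * c⁻¹) * c₀ := by rw [hq']; group
          _ = ((c₀⁻¹ * c) * u) * v * (c₀⁻¹ * c)⁻¹ := by group
          _ = _ := by rw [hdz.eq]; group
      rw [mul_left_cancel h2]; group
  have htot : Nat.card G * Nat.card K = Nat.card T * (m * Nat.card K) := by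
    rw [← Nat.card_prod, ← Nat.card_congr (Equiv.sigmaFiberEquiv f), Nat.card_sigma]
    simp only [hfib]
    rw [Finset.sum_const, Finset.card_univ, smul_eq_mul, Nat.card_eq_fintype_card (α := T)]
  refine Nat.eq_of_mul_eq_mul_right (Nat.card_pos (α := K)) ?_
  rw [htot]; ring

/-- The group theory: the central involution and the section of an element `y` of order four. -/
structure Facts (z y : G) (K : Subgroup G) : Prop where
  z_two : orderOf z = 2
  z_comm : ∀ g : G, g * z = z * g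
  y_four : orderOf y = 4
  y_inv : y⁻¹ = z * y
  odd : ¬ 2 ∣ Nat.card K
  K_comm : ∀ o ∈ K, Commute o y
  K_norm : ∀ c, Commute c y → ∀ o ∈ K, c * o * c⁻¹ ∈ K
  K_all : ∀ v, Commute v y → Odd (orderOf v) → v ∈ K
  card_cent : Nat.card (Subgroup.centralizer ({y} : Set G)) = 4 * Nat.card K
  two_elt : ∀ (u : G) (k : ℕ), orderOf u = 2 ^ k → u ^ 4 = 1
  invol : ∀ u, orderOf u = 2 → u = z
  four : ∀ u, orderOf u = 4 → IsConj y u

theorem exists_facts (S : Sylow 2 G) (e : (S : Subgroup G) ≃* QuaternionGroup 2)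
    (hO : ∀ N : Subgroup G, N.Normal → Odd (Nat.card N) → N = ⊥) (hG : (S : Subgroup G) ≠ ⊤) :
    ∃ z y K, Facts (G := G) z y K := by
  haveI : Fact (Nat.Prime 2) := ⟨Nat.prime_two⟩
  have hzc := BrauerSuzuki.q8_involution_central G S e hO _ (BrauerSuzuki.Q8.orderOf_inv S e)
  set z := BrauerSuzuki.Q8.inv S e
  have hzg : ∀ g : G, g * z = z * g := Subgroup.mem_center_iff.1 hzc
  have hinv : ∀ u, orderOf u = 2 → u = z := fun u hu => BrauerSuzuki.Q8.uniq S e hu
    (Subgroup.mem_centralizer_singleton_iff.2 (hzg u))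
  have hnc : ∀ N : Subgroup G, N.Normal → ¬ Subgroup.IsComplement' N (S : Subgroup G) := by
    intro N hN hc
    have hbot : N = ⊥ := hO N hN (by
      rw [← Nat.not_even_iff_odd, even_iff_two_dvd, ← hc.index_eq_card]
      exact S.not_dvd_index)
    subst hbot
    exact hG (Subgroup.isComplement'_bot_left.1 hc)
  set y : G := ((e.symm (.a 1) : (S : Subgroup G)) : G)
  have hyS : y ∈ (S : Subgroup G) := (e.symm (.a 1)).2
  have hy4 : orderOf y = 4 := by
    rw [Subgroup.orderOf_coe, e.symm.orderOf_eq]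
    exact orderOf_eq_prime_pow (p := 2) (n := 1) (by decide) (by decide)
  have hyy : y * y = z := BrauerSuzuki.Q8.sq_eq_inv S e hyS hy4
  have hzz : z * z = 1 := Involution.mul_self (BrauerSuzuki.Q8.orderOf_inv S e)
  have hyinv : y⁻¹ = z * y := inv_eq_of_mul_eq_one_left (by rw [mul_assoc, hyy, hzz])
  have hfour : ∀ u, orderOf u = 4 → IsConj y u := fun u hu => by
    obtain ⟨c, -, hc⟩ := BrauerSuzuki.Q8.conj_four S e hnc hyS hy4
      (Subgroup.mem_centralizer_singleton_iff.2 (hzg u)) hu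
    exact isConj_iff.2 ⟨c, hc⟩
  have htwo : ∀ (u : G) (k : ℕ), orderOf u = 2 ^ k → u ^ 4 = 1 := by
    intro u k hu
    obtain ⟨g, hg⟩ := BrauerSuzuki.Q8.exists_conj_mem S (K := Subgroup.zpowers u)
      (IsPGroup.of_card (n := k) (by rw [Nat.card_zpowers, hu]))
    have h := BrauerSuzuki.Q8.pow_four S e (hg u (Subgroup.mem_zpowers u))
    rw [conj_pow, conj_eq_one_iff] at h
    exact h
  set C := Subgroup.centralizer ({y} : Set G)
  have hyC : y ∈ C := Subgroup.mem_centralizer_singleton_iff.2 rfl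
  set yy : C := ⟨y, hyC⟩
  obtain ⟨T, hT⟩ := (IsPGroup.of_card (n := 2) (by rw [Nat.card_zpowers, Subgroup.orderOf_mk, hy4]; norm_num) :
    IsPGroup 2 (Subgroup.zpowers yy)).exists_le_sylow
  have hTeq : (T : Subgroup C) = Subgroup.zpowers yy := by
    refine le_antisymm (fun t ht => ?_) hT
    obtain ⟨g, hg⟩ := BrauerSuzuki.Q8.exists_conj_mem S (T.isPGroup'.map C.subtype)
    have ht' : g * (t : G) * g⁻¹ ∈ (S : Subgroup G) := hg _ ⟨t, ht, rfl⟩
    have hy' : g * y * g⁻¹ ∈ (S : Subgroup G) := hg _ ⟨yy, hT (Subgroup.mem_zpowers yy), rfl⟩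
    have hsq : e ⟨_, hy'⟩ * e ⟨_, hy'⟩ ≠ 1 := fun h => by
      rw [← map_mul] at h
      have h1 : g * y * g⁻¹ * (g * y * g⁻¹) = 1 := congrArg Subtype.val (e.injective (h.trans e.map_one.symm))
      rw [show g * y * g⁻¹ * (g * y * g⁻¹) = g * (y * y) * g⁻¹ by group, conj_eq_one_iff, hyy] at h1
      exact Involution.ne_one (BrauerSuzuki.Q8.orderOf_inv S e) h1
    have hcm : e ⟨_, ht'⟩ * e ⟨_, hy'⟩ = e ⟨_, hy'⟩ * e ⟨_, ht'⟩ := by
      rw [← map_mul, ← map_mul]
      congr 1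
      refine Subtype.ext ?_
      show g * (t : G) * g⁻¹ * (g * y * g⁻¹) = g * y * g⁻¹ * (g * (t : G) * g⁻¹)
      rw [show g * (t : G) * g⁻¹ * (g * y * g⁻¹) = g * ((t : G) * y) * g⁻¹ by group,
        Subgroup.mem_centralizer_singleton_iff.1 t.2]
      group
    rcases BrauerSuzuki.Q8.facts.2.2.1 _ _ hsq hcm with h | h | h
    · rw [← map_mul] at h
      have h1 : g * (t : G) * g⁻¹ * (g * (t : G) * g⁻¹) = 1 :=
        congrArg Subtype.val (e.injective (h.trans e.map_one.symm))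
      rw [show g * (t : G) * g⁻¹ * (g * (t : G) * g⁻¹) = g * ((t : G) * t) * g⁻¹ by group, conj_eq_one_iff] at h1
      by_cases ht1 : (t : G) = 1
      · rw [show t = 1 from Subtype.ext ht1]; exact one_mem _
      · refine Subgroup.mem_zpowers_iff.2 ⟨2, Subtype.ext ?_⟩
        rw [hinv _ (Involution.orderOf_of_sq h1 ht1), zpow_ofNat, pow_two]
        exact hyy
    · have h1 : g * (t : G) * g⁻¹ = g * y * g⁻¹ := congrArg Subtype.val (e.injective h)
      rw [show t = yy from Subtype.ext (mul_left_cancel (mul_right_cancel h1))]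
      exact Subgroup.mem_zpowers yy
    · rw [← map_inv] at h
      have h1 : g * (t : G) * g⁻¹ = g * y⁻¹ * g⁻¹ := by
        rw [show g * y⁻¹ * g⁻¹ = (g * y * g⁻¹)⁻¹ by group]
        exact congrArg Subtype.val (e.injective h)
      rw [show t = yy⁻¹ from Subtype.ext (mul_left_cancel (mul_right_cancel h1))]
      exact inv_mem (Subgroup.mem_zpowers yy)
  have hNC : Subgroup.normalizer ((T : Subgroup C) : Set C) ≤ Subgroup.centralizer ((T : Subgroup C) : Set C) := by
    intro n _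
    refine Subgroup.mem_centralizer_iff.2 fun a ha => ?_
    rw [SetLike.mem_coe, hTeq] at ha
    obtain ⟨i, rfl⟩ := Subgroup.mem_zpowers_iff.1 ha
    exact ((Commute.symm (Subtype.ext (Subgroup.mem_centralizer_singleton_iff.1 n.2)) :
      Commute yy n).zpow_left i).eq
  obtain ⟨K0, hK0n, hcompl, hodd0⟩ : ∃ K0 : Subgroup C, K0.Normal ∧
      Subgroup.IsComplement' K0 (T : Subgroup C) ∧ ¬ 2 ∣ Nat.card K0 :=
    ⟨_, MonoidHom.normal_ker _, MonoidHom.ker_transferSylow_isComplement' T hNC,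
      MonoidHom.not_dvd_card_ker_transferSylow T hNC⟩
  have hcardT : Nat.card (T : Subgroup C) = 4 := by
    rw [hTeq, Nat.card_zpowers, Subgroup.orderOf_mk, hy4]
  refine ⟨z, y, K0.map C.subtype, ⟨BrauerSuzuki.Q8.orderOf_inv S e, hzg, hy4, hyinv, ?_, ?_, ?_, ?_, ?_,
    htwo, hinv, hfour⟩⟩
  · rwa [Subgroup.card_map_of_injective C.subtype_injective]
  · rintro _ ⟨o, -, rfl⟩
    exact Subgroup.mem_centralizer_singleton_iff.1 o.2
  · rintro c hc _ ⟨o, ho, rfl⟩
    exact ⟨⟨c, Subgroup.mem_centralizer_singleton_iff.2 hc⟩ * o * (⟨c, Subgroup.mem_centralizer_singleton_iff.2 hc⟩)⁻¹,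
      hK0n.conj_mem o ho _, rfl⟩
  · intro v hv hvo
    refine ⟨⟨v, Subgroup.mem_centralizer_singleton_iff.2 hv⟩, ?_, rfl⟩
    set vv : C := ⟨v, Subgroup.mem_centralizer_singleton_iff.2 hv⟩
    haveI := hK0n
    set w := QuotientGroup.mk' K0 vv
    have h1 : orderOf w ∣ orderOf v := by
      rw [← Subgroup.orderOf_mk v (Subgroup.mem_centralizer_singleton_iff.2 hv)]; exact orderOf_map_dvd _ vv
    have h2 : orderOf w ∣ 2 * 2 := by
      have h := orderOf_dvd_natCard w
      rwa [← Subgroup.index, hcompl.symm.index_eq_card, hcardT] at h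
    exact (QuotientGroup.eq_one_iff vv).1 (orderOf_eq_one_iff.1 (Nat.eq_one_of_dvd_coprimes
      (Nat.Coprime.mul_right (Nat.coprime_two_right.2 hvo) (Nat.coprime_two_right.2 hvo)) h1 h2))
  · rw [Subgroup.card_map_of_injective C.subtype_injective, ← hcardT, mul_comm]
    exact hcompl.card_mul.symm

/-- A central involution multiplies the values by a sign. -/
theorem central_translate [Fintype G] {w : G} (hc : ∀ g, g * w = w * g) (hw : w * w = 1) (θ : IrrCharacter G) :
    ∃ ε : ℤ, (ε = 1 ∨ ε = -1) ∧ ∀ x, (θ : G → ℂ) (w * x) = (ε : ℂ) * (θ : G → ℂ) x := by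
  classical
  let f : G → ℂ := fun g => if g = w then 1 else 0
  have hf : IsClassFunction G f := fun g h => by
    refine if_congr ⟨fun e => ?_, fun e => by rw [e, hc, mul_inv_cancel_right]⟩ rfl rfl
    calc g = h⁻¹ * (h * g * h⁻¹) * h := by group
      _ = h⁻¹ * (w * h) := by rw [e, mul_assoc]
      _ = w := by rw [← hc, inv_mul_cancel_left]
  have h : ∀ x, (θ : G → ℂ) (w * x) = omega (θ : G → ℂ) f * (θ : G → ℂ) x := fun x => by
    have := BrauerSuzuki.sum_translate_eq θ.2 hf 1 x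
    simpa [f] using this
  have hsq : omega (θ : G → ℂ) f * omega (θ : G → ℂ) f = 1 := by
    refine mul_right_cancel₀ (Char.IsIrrCharacter.apply_one_ne_zero θ.2) ?_
    rw [mul_assoc, ← h 1, ← h (w * 1), ← mul_assoc, hw, one_mul, one_mul]
  rcases mul_self_eq_one_iff.1 hsq with e | e
  · exact ⟨1, Or.inl rfl, fun x => by rw [h x, e]; simp⟩
  · exact ⟨-1, Or.inr rfl, fun x => by rw [h x, e]; simp⟩

/-- The values on the section of `y`, the signs at `z` and the orthogonality of the principal block. -/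
theorem card_principalBlock {z y : G} {K : Subgroup G} (D : Facts z y K) {M : Ideal AlgInt}
    (hM : IsPModular 2 M) (hcard8 : (Nat.card G).factorization 2 = 3) :
    Nat.card (principalBlock M G) = 7 := by
  classical
  haveI : Fact (Nat.Prime 2) := ⟨Nat.prime_two⟩
  haveI := Fintype.ofFinite G
  haveI := Fintype.ofFinite (IrrCharacter G)
  have hB := isPBlock_principal' (G := G) (M := M)
  haveI : Fintype (principalBlock M G) := Fintype.ofFinite _
  have hzz : z * z = 1 := Involution.mul_self D.z_two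
  -- the partition into regular elements, `z` times regular elements, elements of order divisible by four
  have hpart : ∀ x : G, (¬ 2 ∣ orderOf x ∧ 2 ∣ orderOf (z * x) ∧ ¬ 4 ∣ orderOf x) ∨
      (2 ∣ orderOf x ∧ ¬ 2 ∣ orderOf (z * x) ∧ ¬ 4 ∣ orderOf x) ∨
      (2 ∣ orderOf x ∧ 2 ∣ orderOf (z * x) ∧ 4 ∣ orderOf x) := by
    intro x
    obtain ⟨a, m, hm, hn⟩ := Nat.exists_eq_two_pow_mul_odd (orderOf_pos x).ne'
    have hcomm : Commute z x := (D.z_comm x).symm
    have hxm : orderOf (x ^ m) = 2 ^ a := by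
      rw [orderOf_pow' x hm.pos.ne', hn, Nat.gcd_eq_right (Dvd.intro_left _ rfl), Nat.mul_div_cancel _ hm.pos]
    have hx4 := D.two_elt _ a hxm
    have ha : a ≤ 2 := (Nat.pow_dvd_pow_iff_le_right (by norm_num : 1 < 2)).1
      (by rw [← hxm]; exact (orderOf_dvd_of_pow_eq_one hx4).trans (by norm_num))
    have hnodd : ¬ 2 ∣ m := fun h => (Nat.not_even_iff_odd.2 hm) (even_iff_two_dvd.2 h)
    have hzxm : (z * x) ^ m = z * x ^ m := by
      rw [hcomm.mul_pow]
      obtain ⟨l, rfl⟩ := hm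
      rw [pow_succ z, pow_mul, pow_two, hzz, one_pow, one_mul]
    interval_cases a
    · rw [pow_zero, one_mul] at hn
      refine Or.inl ⟨hn ▸ hnodd, ?_, fun h => hnodd (hn ▸ (dvd_trans (by norm_num) h))⟩
      have hxm1 : x ^ m = 1 := hn ▸ pow_orderOf_eq_one x
      have h1 : orderOf (z * x ^ m) ∣ orderOf (z * x) := hzxm ▸ orderOf_pow_dvd m
      rwa [hxm1, mul_one, D.z_two] at h1
    · have hxz : x ^ m = z := D.invol _ (by simpa using hxm)
      refine Or.inr (Or.inl ⟨hn ▸ (Dvd.intro m (by ring)), fun h => ?_, fun h => ?_⟩)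
      · have h1 : (z * x) ^ m = 1 := by rw [hzxm, hxz, hzz]
        exact hnodd (h.trans (orderOf_dvd_of_pow_eq_one h1))
      · rw [hn] at h
        exact hnodd (Nat.dvd_of_mul_dvd_mul_left two_pos (by simpa using h))
    · refine Or.inr (Or.inr ⟨hn ▸ (Dvd.intro (2 * m) (by ring)), ?_, hn ▸ (Dvd.intro m (by ring))⟩)
      by_contra h
      have h1 : orderOf (z * x ^ m) ∣ orderOf (z * x) := hzxm ▸ orderOf_pow_dvd m
      have hne : z * x ^ m ≠ 1 := fun e => by
        rw [← inv_eq_of_mul_eq_one_right e, inv_eq_of_mul_eq_one_right hzz, D.z_two] at hxm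
        norm_num at hxm
      have hc : Commute z (x ^ m) := hcomm.pow_right m
      obtain ⟨j, hj, hje⟩ := (Nat.dvd_prime_pow Nat.prime_two).1 (orderOf_dvd_of_pow_eq_one
        (show (z * x ^ m) ^ 2 ^ 2 = 1 by
          rw [hc.mul_pow, show (2 : ℕ) ^ 2 = 2 * 2 from rfl, pow_mul, pow_two z, hzz, one_pow, one_mul,
            ← show (2 : ℕ) ^ 2 = 2 * 2 from rfl]
          exact hx4))
      rcases j with _ | j
      · exact hne (orderOf_eq_one_iff.1 (by simpa using hje))
      · exact h (dvd_trans (hje ▸ dvd_pow_self 2 (Nat.succ_ne_zero j)) h1)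
  have hpow : ∀ v ∈ K, (y * v) ^ (Nat.card K * Nat.card K) = y := by
    intro v hv
    have hv1 : v ^ (Nat.card K * Nat.card K) = 1 := by
      rw [pow_mul, show v ^ Nat.card K = 1 from congrArg Subtype.val (pow_card_eq_one' (x := (⟨v, hv⟩ : K))), one_pow]
    rw [(D.K_comm v hv).symm.mul_pow, hv1, mul_one]
    obtain ⟨l, hl⟩ := Nat.not_even_iff_odd.1 (fun h => D.odd (even_iff_two_dvd.1 h))
    rw [hl, show (2 * l + 1) * (2 * l + 1) = 4 * (l * l + l) + 1 by ring, pow_succ, pow_mul,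
      ← D.y_four, pow_orderOf_eq_one, one_pow, one_mul]
  have hsurj : ∀ g : G, 4 ∣ orderOf g → ∃ c, ∃ v ∈ K, g = c * (y * v) * c⁻¹ := by
    intro g hg
    obtain ⟨a, m, hm, hn⟩ := Nat.exists_eq_two_pow_mul_odd (orderOf_pos g).ne'
    have hgm : orderOf (g ^ m) = 2 ^ a := by
      rw [orderOf_pow' g hm.pos.ne', hn, Nat.gcd_eq_right (Dvd.intro_left _ rfl), Nat.mul_div_cancel _ hm.pos]
    have hg4 := D.two_elt _ a hgm
    obtain rfl : a = 2 := by
      have ha : a ≤ 2 := (Nat.pow_dvd_pow_iff_le_right (by norm_num : 1 < 2)).1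
        (by rw [← hgm]; exact (orderOf_dvd_of_pow_eq_one hg4).trans (by norm_num))
      refine le_antisymm ha ((Nat.pow_dvd_pow_iff_le_right (by norm_num : 1 < 2)).1 ?_)
      exact (Nat.Coprime.dvd_of_dvd_mul_right (Nat.Coprime.pow_left 2 (Nat.coprime_two_left.2 hm))
        (by rw [← hn]; simpa using hg))
    -- an exponent `≡ 1 mod 4` that is a multiple of `m`
    obtain ⟨t, ht⟩ : ∃ t, m * m = 4 * t + 1 := by
      obtain ⟨l, rfl⟩ := hm
      exact ⟨l * l + l, by ring⟩
    have h4 : orderOf (g ^ (m * m)) = 4 := by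
      rw [pow_mul, orderOf_pow' _ hm.pos.ne', hgm, Nat.Coprime.gcd_eq_one
        (Nat.Coprime.pow_left 2 (Nat.coprime_two_left.2 hm))]
      norm_num
    obtain ⟨c, hc⟩ := isConj_iff.1 (D.four _ h4)
    refine ⟨c, c⁻¹ * (g ^ (4 * t))⁻¹ * c, D.K_all _ ?_ ?_, ?_⟩
    · have h1 := ((Commute.pow_pow_self g (4 * t) (m * m)).inv_left).map (MulAut.conj c⁻¹).toMonoidHom
      simp only [MulEquiv.coe_toMonoidHom, MulAut.conj_apply, inv_inv] at h1
      rwa [← hc, show c⁻¹ * (c * y * c⁻¹) * c = y by group] at h1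
    · refine Odd.of_dvd_nat hm (orderOf_dvd_of_pow_eq_one ?_)
      have h2 : (c⁻¹ * (g ^ (4 * t))⁻¹ * c⁻¹⁻¹) ^ m = c⁻¹ * ((g ^ (4 * t))⁻¹) ^ m * c⁻¹⁻¹ := conj_pow
      have h3 : (g ^ (4 * t)) ^ m = 1 := by
        rw [← pow_mul, show 4 * t * m = 2 ^ 2 * m * t by ring, ← hn, pow_mul, pow_orderOf_eq_one, one_pow]
      simpa [inv_pow, h3] using h2
    · calc g = g ^ (m * m) * (g ^ (4 * t))⁻¹ := by rw [ht, pow_succ']; group
        _ = c * (y * (c⁻¹ * (g ^ (4 * t))⁻¹ * c)) * c⁻¹ := by rw [← hc]; group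
  have hmem : ∀ c, ∀ v ∈ K, 4 ∣ orderOf (c * (y * v) * c⁻¹) := fun c v hv => by
    rw [Involution.orderOf_conj, (D.K_comm v hv).symm.orderOf_mul_eq_mul_orderOf_of_coprime]
    · rw [D.y_four]; exact Dvd.intro _ rfl
    · rw [D.y_four, show (4 : ℕ) = 2 ^ 2 from rfl]
      refine Nat.Coprime.pow_left 2 (Nat.coprime_two_left.2 ?_)
      exact Nat.not_even_iff_odd.1 fun h =>
        D.odd ((even_iff_two_dvd.1 h).trans (Subgroup.orderOf_dvd_natCard K hv))
  have hT := card_section D.K_norm hpow D.card_cent hsurj hmem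
  -- signs at `z`, values on the section
  choose ε hε hεz using fun χ : IrrCharacter G => central_translate D.z_comm hzz χ
  set s : IrrCharacter G → ℂ := fun χ => (χ : G → ℂ) y
  have hsconj : ∀ χ : IrrCharacter G, conj (s χ) = s χ := by
    intro χ
    obtain ⟨c, hc⟩ := isConj_iff.1 (D.four y⁻¹ (by rw [orderOf_inv, D.y_four]))
    show conj ((χ : G → ℂ) y) = (χ : G → ℂ) y
    rw [← Char.IsCharacter.apply_inv (Char.IsIrrCharacter.isCharacter χ.2), ← hc, irr_class χ y c]
  have hsε : ∀ χ : IrrCharacter G, (ε χ : ℂ) * s χ = s χ := by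
    intro χ
    obtain ⟨c, hc⟩ := isConj_iff.1 (D.four y⁻¹ (by rw [orderOf_inv, D.y_four]))
    show (ε χ : ℂ) * (χ : G → ℂ) y = (χ : G → ℂ) y
    rw [← hεz, ← D.y_inv, ← hc, irr_class χ y c]
  have hconst : ∀ χ ∈ principalBlock M G, ∀ g, 4 ∣ orderOf g → (χ : G → ℂ) g = s χ := by
    intro χ hχ g hg
    obtain ⟨c, v, hv, rfl⟩ := hsurj g hg
    rw [irr_class χ (y * v) c, ZStar.apply_mul_eq hM ⟨2, by rw [D.y_four]; norm_num⟩ K D.odd D.K_comm D.K_norm hv hχ]
  set R : IrrCharacter G → IrrCharacter G → ℂ := fun χ ψ =>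
    classInner (pRegularPart 2 (χ : G → ℂ)) (ψ : G → ℂ)
  have hreg : ∀ (χ : IrrCharacter G) x, pRegularPart 2 (χ : G → ℂ) x = if 2 ∣ orderOf x then 0 else (χ : G → ℂ) x := by
    intro χ x
    by_cases h : 2 ∣ orderOf x <;> simp [pRegularPart, IsPRegular, h]
  have horth : ∀ χ ∈ principalBlock M G, ∀ ψ ∈ principalBlock M G,
      (1 + (ε χ : ℂ) * ε ψ) * R χ ψ + 4⁻¹ * (s χ * s ψ) = if χ = ψ then 1 else 0 := by
    intro χ hχ ψ hψ
    have hδ : classInner (χ : G → ℂ) (ψ : G → ℂ) = if χ = ψ then 1 else 0 := by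
      split
      · next h => rw [h]; exact Char.classInner_irr_self ψ.2
      · next h => exact Char.classInner_irr_of_ne χ.2 ψ.2 fun e => h (Subtype.ext e)
    rw [← hδ]
    set F : G → ℂ := fun x => pRegularPart 2 (χ : G → ℂ) x * conj ((ψ : G → ℂ) x)
    have hR : R χ ψ = (Nat.card G : ℂ)⁻¹ * ∑ x, F x := rfl
    have hshift : ∑ x, F (z * x) = ∑ x, F x := Fintype.sum_equiv (Equiv.mulLeft z) _ _ fun x => rfl
    have hpt : ∀ x, (χ : G → ℂ) x * conj ((ψ : G → ℂ) x) =
        F x + (ε χ : ℂ) * ε ψ * F (z * x) + if 4 ∣ orderOf x then s χ * s ψ else 0 := by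
      intro x
      simp only [F, hreg]
      rcases hpart x with ⟨a, b, c⟩ | ⟨a, b, c⟩ | ⟨a, b, c⟩
      · rw [if_neg a, if_pos b, if_neg c]; ring
      · rw [if_pos a, if_neg b, if_neg c, hεz, hεz, map_mul, map_intCast]
        have h1 : ∀ w : IrrCharacter G, (ε w : ℂ) * ε w = 1 := fun w => by rcases hε w with e | e <;> rw [e] <;> simp
        linear_combination -((χ : G → ℂ) x * conj ((ψ : G → ℂ) x)) * (ε ψ : ℂ) * (ε ψ : ℂ) * h1 χ -
          ((χ : G → ℂ) x * conj ((ψ : G → ℂ) x)) * h1 ψ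
      · rw [if_pos a, if_pos b, if_pos c, hconst χ hχ x c, hconst ψ hψ x c, hsconj]; ring
    rw [classInner, Finset.sum_congr rfl fun x _ => hpt x, Finset.sum_add_distrib, Finset.sum_add_distrib,
      ← Finset.mul_sum, hshift, Finset.sum_ite, Finset.sum_const, Finset.sum_const_zero, add_zero, nsmul_eq_mul,
      ← Fintype.card_subtype, ← Nat.card_eq_fintype_card, hR]
    have hG4 : (Nat.card G : ℂ) = 4 * (Nat.card {g : G // 4 ∣ orderOf g} : ℂ) := by exact_mod_cast hT.symm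
    have hG0 : (Nat.card G : ℂ) ≠ 0 := card_ne_zero_C
    rw [mul_add, mul_add, hG4]
    have hT0 : (Nat.card {g : G // 4 ∣ orderOf g} : ℂ) ≠ 0 := fun h => hG0 (by rw [hG4, h, mul_zero])
    field_simp
  -- contribution numbers
  obtain ⟨c, hc, hsym, hsum, hdiv⟩ := RegPart.exists_contribution hM hB
  set one : principalBlock M G := ⟨⟨fun _ => 1, Char.isIrrCharacter_one⟩, sameBlock_refl hM _⟩
  have hd3 : blockDefect 2 (principalBlock M G) = 3 := by
    have h0 : sInf ((fun χ : IrrCharacter G => (charDegree (χ : G → ℂ)).factorization 2) '' principalBlock M G) = 0 :=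
      Nat.sInf_eq_zero.2 (Or.inl ⟨one.1, one.2, by simp [one, charDegree]⟩)
    rw [blockDefect, h0, hcard8, Nat.sub_zero]
  have hε1 : ε one.1 = 1 := by
    have h : (1 : ℂ) = (ε one.1 : ℂ) * 1 := hεz one.1 1
    rw [mul_one] at h
    exact_mod_cast h.symm
  have hs1 : s one.1 = 1 := rfl
  have horth' : ∀ χ ψ : principalBlock M G,
      (1 + (ε χ.1 : ℂ) * ε ψ.1) * (c χ ψ : ℂ) + 2 * (s χ.1 * s ψ.1) = if χ = ψ then 8 else 0 := by
    intro χ ψ
    have h := horth χ.1 χ.2 ψ.1 ψ.2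
    have h' := hc χ ψ
    rw [hd3] at h'
    push_cast at h'
    rw [← h']
    by_cases e : χ = ψ
    · rw [if_pos e]; rw [if_pos (congrArg Subtype.val e)] at h; linear_combination 8 * h
    · rw [if_neg e]; rw [if_neg fun e' => e (Subtype.ext e')] at h; linear_combination 8 * h
  have hcne : ∀ χ : principalBlock M G, c one χ ≠ 0 := by
    intro χ h
    have h1 := ((hdiv one χ).2.1 (by rw [h]; exact dvd_zero _))
    rw [blockHeight_eq_zero_of_one rfl] at h1
    exact lt_irrefl 0 h1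
  let t : principalBlock M G → ℤ := fun χ => if ε χ.1 = 1 then (if χ = one then 1 else - c one χ) else 0
  have hst : ∀ χ : principalBlock M G, s χ.1 = (t χ : ℂ) := by
    intro χ
    rcases hε χ.1 with h | h
    · by_cases e : χ = one
      · rw [e, hs1]; simp [t, hε1]
      · have h1 := horth' one χ
        rw [if_neg (Ne.symm e), hε1, h, hs1] at h1
        simp only [t, h, if_true, if_neg e]
        push_cast at h1 ⊢
        linear_combination h1 / 2
    · have h1 := hsε χ.1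
      rw [h] at h1
      simp only [t, h, show (-1 : ℤ) ≠ 1 by norm_num, if_false]
      push_cast at h1 ⊢
      linear_combination -h1 / 2
  have ht0 : ∀ χ, ε χ.1 = 1 → t χ ≠ 0 := by
    intro χ h
    simp only [t, if_pos h]
    split
    · norm_num
    · exact neg_ne_zero.2 (hcne χ)
  have horthZ : ∀ χ ψ : principalBlock M G,
      (1 + ε χ.1 * ε ψ.1) * c χ ψ + 2 * (t χ * t ψ) = if χ = ψ then 8 else 0 := by
    intro χ ψ
    have h := horth' χ ψ
    rw [hst, hst] at h
    by_cases e : χ = ψ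
    · rw [if_pos e] at h ⊢; exact_mod_cast h
    · rw [if_neg e] at h ⊢; exact_mod_cast h
  -- the sum of squares of the values on the section
  have hS : ∑ χ : principalBlock M G, t χ * t χ = 4 := by
    have hint := blockInd_mem_intRing hM (B := principalBlock M G) hB
    have horegular : ∀ x : G, ¬ 2 ∣ orderOf x → ∑ χ : principalBlock M G, s χ.1 * (χ.1 : G → ℂ) x = 0 := by
      intro x hx
      have h := weak_orth hM hint (x := x) (y := y) hx (by rw [D.y_four]; norm_num)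
      rw [finsum_mem_eq_finite_toFinset_sum _ (principalBlock M G).toFinite,
        Finset.sum_subtype (p := (· ∈ principalBlock M G)) _ (fun w => Set.Finite.mem_toFinset _)] at h
      rw [← h]
      refine Finset.sum_congr rfl fun χ _ => ?_
      rw [show conj ((χ.1 : G → ℂ) y) = s χ.1 from hsconj χ.1, mul_comm]
    set S := ∑ χ : principalBlock M G, s χ.1 * s χ.1
    have hF : ∀ x : G, ∑ χ : principalBlock M G, s χ.1 * (χ.1 : G → ℂ) x = if 4 ∣ orderOf x then S else 0 := by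
      intro x
      rcases hpart x with ⟨a, -, c'⟩ | ⟨-, b, c'⟩ | ⟨-, -, c'⟩
      · rw [if_neg c', horegular x a]
      · rw [if_neg c', ← horegular (z * x) b]
        refine Finset.sum_congr rfl fun χ _ => ?_
        rw [hεz, ← mul_assoc, mul_comm (s χ.1) (ε χ.1 : ℂ), hsε]
      · rw [if_pos c']
        exact Finset.sum_congr rfl fun χ _ => by rw [hconst χ.1 χ.2 x c']
    have h1 : ∑ x : G, ∑ χ : principalBlock M G, s χ.1 * (χ.1 : G → ℂ) x =
        (Nat.card {g : G // 4 ∣ orderOf g} : ℂ) * S := by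
      simp only [hF]
      rw [Finset.sum_ite, Finset.sum_const, Finset.sum_const_zero, add_zero, nsmul_eq_mul,
        Nat.card_eq_fintype_card, Fintype.card_subtype]
    have h2 : ∑ x : G, ∑ χ : principalBlock M G, s χ.1 * (χ.1 : G → ℂ) x = Nat.card G := by
      rw [Finset.sum_comm, Finset.sum_eq_single_of_mem one (Finset.mem_univ _)]
      · rw [← Finset.mul_sum, hs1, one_mul]
        simp [one]
      · intro χ _ hne
        rw [← Finset.mul_sum]
        have h := Char.classInner_irr_of_ne χ.1.2 Char.isIrrCharacter_one fun e => hne (Subtype.ext (Subtype.ext e))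
        rw [classInner, mul_eq_zero, inv_eq_zero] at h
        have h' := h.resolve_left card_ne_zero_C
        simp only [Pi.one_apply, map_one, mul_one] at h'
        rw [h', mul_zero]
    rw [h1, ← hT] at h2
    push_cast at h2
    have hT0 : (Nat.card {g : G // 4 ∣ orderOf g} : ℂ) ≠ 0 :=
      Nat.cast_ne_zero.2 (Nat.card_pos_iff.2 ⟨⟨⟨y, by rw [D.y_four]⟩⟩, inferInstance⟩).ne'
    have h3 : S = 4 := mul_left_cancel₀ hT0 (h2.trans (mul_comm _ _))
    simp only [S, hst] at h3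
    exact_mod_cast h3
  set Nf := Finset.univ.filter fun χ : principalBlock M G => ε χ.1 = 1
  set Ff := Finset.univ.filter fun χ : principalBlock M G => ¬ ε χ.1 = 1
  have hone : one ∈ Nf := Finset.mem_filter.2 ⟨Finset.mem_univ _, hε1⟩
  have ht1 : t one = 1 := by simp [t, hε1]
  have hFt : ∀ χ ∈ Ff, t χ = 0 := fun χ hχ => if_neg (Finset.mem_filter.1 hχ).2
  have hSN : ∑ χ ∈ Nf, t χ * t χ = 4 := by
    rw [← hS, ← Finset.sum_filter_add_sum_filter_not Finset.univ (fun χ : principalBlock M G => ε χ.1 = 1)]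
    rw [Finset.sum_eq_zero (s := Finset.univ.filter fun χ : principalBlock M G => ¬ ε χ.1 = 1)
      (fun χ hχ => by rw [hFt χ hχ, mul_zero]), add_zero]
  have hunit : ∀ χ ∈ Nf, t χ * t χ = 1 := by
    intro χ hχ
    by_cases e : χ = one
    · rw [e, ht1, one_mul]
    have h1 : t χ * t χ + t one * t one ≤ 4 := by
      rw [← hSN, ← Finset.sum_pair (f := fun w => t w * t w) e]
      exact Finset.sum_le_sum_of_subset_of_nonneg (by
        intro w hw; rcases Finset.mem_insert.1 hw with rfl | hw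
        · exact hχ
        · rw [Finset.mem_singleton.1 hw]; exact hone) fun w _ _ => mul_self_nonneg _
    rw [ht1] at h1
    have h2 : -1 ≤ t χ := by nlinarith
    have h3 : t χ ≤ 1 := by nlinarith
    have := ht0 χ (Finset.mem_filter.1 hχ).2
    interval_cases (t χ) <;> simp_all
  have hNcard : (Nf.card : ℤ) = 4 := by
    rw [← hSN, Finset.sum_congr rfl hunit, Finset.sum_const, nsmul_eq_mul, mul_one]
  have hsum' : ∀ χ : principalBlock M G, ∑ ψ ∈ Nf, c χ ψ ^ 2 + ∑ ψ ∈ Ff, c χ ψ ^ 2 = 8 * c χ χ := by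
    intro χ
    rw [Finset.sum_filter_add_sum_filter_not, hsum χ, hd3]
    norm_num
  have hFF : ∀ χ ∈ Ff, ∑ ψ ∈ Nf, c χ ψ ^ 2 = 16 := by
    intro χ hχ
    have hεf : ∀ ψ ∈ Ff, ε ψ.1 = -1 := fun ψ hψ => (hε ψ.1).resolve_left (Finset.mem_filter.1 hψ).2
    have hcf : ∀ ψ ∈ Ff, c χ ψ = if χ = ψ then 4 else 0 := fun ψ hψ => by
      have h := horthZ χ ψ
      rw [hεf χ hχ, hεf ψ hψ, hFt χ hχ] at h
      split <;> simp_all <;> linarith
    have h := hsum' χ
    rw [Finset.sum_congr rfl (g := fun ψ => if χ = ψ then (16 : ℤ) else 0) (s₁ := Ff) (s₂ := Ff)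
      (fun ψ hψ => by rw [hcf ψ hψ]; split <;> norm_num), Finset.sum_ite_eq, if_pos hχ, hcf χ hχ, if_pos rfl] at h
    linarith
  have hNN : ∀ χ ∈ Nf, ∑ ψ ∈ Ff, c χ ψ ^ 2 = 12 := by
    intro χ hχ
    have hcn : ∀ ψ ∈ Nf, c χ ψ = (if χ = ψ then 4 else 0) - t χ * t ψ := fun ψ hψ => by
      have h := horthZ χ ψ
      rw [(Finset.mem_filter.1 hχ).2, (Finset.mem_filter.1 hψ).2] at h
      split <;> simp_all <;> linarith
    have h := hsum' χ
    rw [Finset.sum_congr rfl (g := fun ψ => (if χ = ψ then (8 : ℤ) else 0) + t ψ * t ψ) (s₁ := Nf) (s₂ := Nf)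
      (fun ψ hψ => by
        rw [hcn ψ hψ]
        have h1 := hunit χ hχ
        have h2 := hunit ψ hψ
        split
        · next e => subst e; nlinarith
        · nlinarith),
      Finset.sum_add_distrib, Finset.sum_ite_eq, if_pos hχ, hSN, hcn χ hχ, if_pos rfl, hunit χ hχ] at h
    linarith
  have hswap : ∑ χ ∈ Nf, ∑ ψ ∈ Ff, c χ ψ ^ 2 = ∑ χ ∈ Ff, ∑ ψ ∈ Nf, c χ ψ ^ 2 := by
    rw [Finset.sum_comm]
    exact Finset.sum_congr rfl fun χ _ => Finset.sum_congr rfl fun ψ _ => by rw [hsym]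
  rw [Finset.sum_congr rfl hNN, Finset.sum_congr rfl hFF, Finset.sum_const, Finset.sum_const, nsmul_eq_mul,
    nsmul_eq_mul, hNcard] at hswap
  rw [Nat.card_eq_fintype_card, ← Finset.card_univ,
    ← Finset.card_filter_add_card_filter_not (fun χ : principalBlock M G => ε χ.1 = 1)]
  have : Nf.card = 4 := by exact_mod_cast hNcard
  have : Ff.card = 3 := by omega
  convert (show Nf.card + Ff.card = 7 by omega) using 3

end Cfsg.Agent.Q8Block
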