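import Cfsg.Agent.S3209

/-!
# The centralizer of an element of order four in `SL₂(q)`, `q` odd

It is commutative and is inverted by an element conjugating the element to its inverse.
-/

set_option autoImplicit false

namespace Cfsg.Agent.ZStar

open Matrix

/-- What we use of a factor isomorphic to `SL₂(q)`, `q` odd, with involution `j`. -/
structure FourFacts {G : Type*} [Group G] (L : Subgroup G) (j x w : G) : Prop where
  x_mem : x ∈ L
  x_sq : x * x = j
  unique : ∀ a ∈ L, a * a = 1 → a = 1 ∨ a = j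
  conj : ∀ a ∈ L, a * a = j → ∃ g ∈ L, g * a * g⁻¹ = x
  comm : ∀ a ∈ L, ∀ b ∈ L, Commute a x → Commute b x → Commute a b
  w_mem : w ∈ L
  w_conj : w * x * w⁻¹ = x⁻¹
  inverts : ∀ a ∈ L, Commute a x → w * a * w⁻¹ = a⁻¹

theorem wElt_coe (F : Type*) [Field F] :
    (S3209.wElt F : Matrix (Fin 2) (Fin 2) F) = !![0, -1; 1, 0] := rfl

theorem sl2_four {F : Type*} [Field F] [Fintype F] (h2 : ringChar F ≠ 2) :
    ∃ w : SpecialLinearGroup (Fin 2) F,
      w * S3209.wElt F * w⁻¹ = (S3209.wElt F)⁻¹ ∧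
      (∀ a b : SpecialLinearGroup (Fin 2) F, Commute a (S3209.wElt F) → Commute b (S3209.wElt F) → Commute a b) ∧
      ∀ a : SpecialLinearGroup (Fin 2) F, Commute a (S3209.wElt F) → w * a * w⁻¹ = a⁻¹ := by
  have h20 : (2 : F) ≠ 0 := Ring.two_ne_zero h2
  have hKi : (S3209.wElt F)⁻¹ * (S3209.wElt F)⁻¹ = -1 := by
    apply Matrix.SpecialLinearGroup.ext
    intro i k
    rw [Matrix.SpecialLinearGroup.coe_mul, Matrix.SpecialLinearGroup.coe_neg, Matrix.SpecialLinearGroup.coe_inv]
    fin_cases i <;> fin_cases k <;>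
      simp [wElt_coe, Matrix.SpecialLinearGroup.coe_mul, Matrix.SpecialLinearGroup.coe_inv, Matrix.mul_apply, Fin.sum_univ_two, Matrix.adjugate_fin_two]
  obtain ⟨w, hw⟩ := (S3209.sl2_facts (F := F) h2).2 (S3209.wElt F)⁻¹ hKi
  have hshape : ∀ a : SpecialLinearGroup (Fin 2) F, Commute a (S3209.wElt F) → a.1 1 1 = a.1 0 0 ∧ a.1 0 1 = -a.1 1 0 := by
    intro a ha
    have h00 := congrArg (fun M : Matrix.SpecialLinearGroup (Fin 2) F => (M : Matrix (Fin 2) (Fin 2) F) 0 0) ha.eq
    have h01 := congrArg (fun M : Matrix.SpecialLinearGroup (Fin 2) F => (M : Matrix (Fin 2) (Fin 2) F) 0 1) ha.eq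
    simp [wElt_coe, Matrix.SpecialLinearGroup.coe_mul, Matrix.SpecialLinearGroup.coe_inv, Matrix.mul_apply, Fin.sum_univ_two] at h00 h01
    exact ⟨by linear_combination -h01, by linear_combination h00⟩
  have hwK : w * (S3209.wElt F) = (S3209.wElt F)⁻¹ * w := by rw [hw, inv_mul_cancel_right]
  have hwshape : w.1 1 1 = -w.1 0 0 ∧ w.1 0 1 = w.1 1 0 := by
    have h00 := congrArg (fun M : Matrix.SpecialLinearGroup (Fin 2) F => (M : Matrix (Fin 2) (Fin 2) F) 0 0) hwK
    have h01 := congrArg (fun M : Matrix.SpecialLinearGroup (Fin 2) F => (M : Matrix (Fin 2) (Fin 2) F) 0 1) hwK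
    simp [wElt_coe, Matrix.SpecialLinearGroup.coe_mul, Matrix.SpecialLinearGroup.coe_inv, Matrix.mul_apply, Fin.sum_univ_two, Matrix.adjugate_fin_two] at h00 h01
    exact ⟨by linear_combination -h01, by linear_combination h00⟩
  refine ⟨w, hw.symm, fun a b ha hb => ?_, fun a ha => ?_⟩
  · obtain ⟨ha1, ha2⟩ := hshape a ha
    obtain ⟨hb1, hb2⟩ := hshape b hb
    apply Matrix.SpecialLinearGroup.ext
    intro i k
    rw [Matrix.SpecialLinearGroup.coe_mul, Matrix.SpecialLinearGroup.coe_mul]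
    fin_cases i <;> fin_cases k <;>
      simp [Matrix.mul_apply, Fin.sum_univ_two, ha1, ha2, hb1, hb2] <;> ring
  · obtain ⟨ha1, ha2⟩ := hshape a ha
    obtain ⟨hw1, hw2⟩ := hwshape
    rw [mul_inv_eq_iff_eq_mul]
    apply Matrix.SpecialLinearGroup.ext
    intro i k
    rw [Matrix.SpecialLinearGroup.coe_mul, Matrix.SpecialLinearGroup.coe_mul, Matrix.SpecialLinearGroup.coe_inv]
    fin_cases i <;> fin_cases k <;>
      simp [Matrix.mul_apply, Fin.sum_univ_two, Matrix.adjugate_fin_two, ha1, ha2, hw1, hw2] <;> ring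

theorem exists_fourFacts {G : Type*} [Group G] (L : Subgroup G) {F : Type*} [Field F] [Fintype F]
    (e : ↥L ≃* SpecialLinearGroup (Fin 2) F) (h2 : ringChar F ≠ 2) (j : G) (hjL : j ∈ L) (hj1 : j ≠ 1)
    (hj2 : j * j = 1) : ∃ x w : G, FourFacts L j x w := by
  obtain ⟨hu, -, hc⟩ := S3209.factor_facts L e h2 j hjL hj1 hj2
  obtain ⟨w, hw1, hw2, hw3⟩ := sl2_four (F := F) h2
  have hej : e ⟨j, hjL⟩ = -1 := by
    refine ((S3209.sl2_facts (F := F) h2).1 _ ?_).resolve_left ?_
    · rw [← map_mul, ← map_one e]; exact congrArg e (Subtype.ext hj2)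
    · intro h; exact hj1 (congrArg Subtype.val (e.injective (h.trans (map_one e).symm)))
  set x : L := e.symm (S3209.wElt F) with hx
  have hxsq : (x : G) * x = j := by
    have : x * x = ⟨j, hjL⟩ := by
      apply e.injective
      rw [map_mul, hx, MulEquiv.apply_symm_apply, hej]
      apply Matrix.SpecialLinearGroup.ext
      intro i k
      rw [Matrix.SpecialLinearGroup.coe_mul, Matrix.SpecialLinearGroup.coe_neg]
      fin_cases i <;> fin_cases k <;> simp [wElt_coe, Matrix.SpecialLinearGroup.coe_mul, Matrix.SpecialLinearGroup.coe_inv, Matrix.mul_apply, Fin.sum_univ_two]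
    exact congrArg Subtype.val this
  have hcm : ∀ a (ha : a ∈ L), Commute a (x : G) → Commute (e ⟨a, ha⟩) (S3209.wElt F) := by
    intro a ha h
    have h1 : Commute (⟨a, ha⟩ : L) x := Subtype.ext h.eq
    have h2 := h1.map e.toMonoidHom
    simpa [hx] using h2
  refine ⟨x, e.symm w, ⟨x.2, hxsq, hu, fun a ha h => hc a ha h x x.2 hxsq, ?_, (e.symm w).2, ?_, ?_⟩⟩
  · intro a ha b hb h h'
    have h1 := (hw2 _ _ (hcm a ha h) (hcm b hb h')).map e.symm.toMonoidHom
    simp only [MulEquiv.coe_toMonoidHom, MulEquiv.symm_apply_apply] at h1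
    exact congrArg Subtype.val h1.eq
  · have : (e.symm w) * x * (e.symm w)⁻¹ = x⁻¹ := by
      rw [hx, ← map_mul, ← map_inv, ← map_mul, ← map_inv, hw1]
    exact congrArg Subtype.val this
  · intro a ha h
    have : (e.symm w) * ⟨a, ha⟩ * (e.symm w)⁻¹ = (⟨a, ha⟩ : L)⁻¹ := by
      apply e.injective
      rw [map_mul, map_mul, map_inv, map_inv, MulEquiv.apply_symm_apply, hw3 _ (hcm a ha h)]
    exact congrArg Subtype.val this

end Cfsg.Agent.ZStar
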