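import Cfsg.Agent.Lib.ZStar.Glauberman
import Cfsg.Agent.Lib.ZStar.SLPairSL

/-!
# Two `SL₂(q)` interchanged by an element squaring to their common involution

In such an involution centralizer `C(j) = (L * L)⟨n⟩` the involution `j` is isolated: if it were fused to
`u = (x, x)`, some element fixing `u` would take `j` to `ju`, but `j` has more square roots in `C(j) ∩ C(u)`
than `ju`.
-/

set_option autoImplicit false

namespace Cfsg.Agent.ZStar

open Cfsg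

variable {G : Type*} [Group G]

/-- The configuration: `C(j)` consists of the `p * r^n` and the `p * r^n * n`, `p r ∈ L`. -/
structure SwapPair (L : Subgroup G) (j x w n : G) : Prop where
  ff : FourFacts L j x w
  hj : orderOf j = 2
  jmem : j ∈ L
  n_j : Commute n j
  n_sq : n * n = j
  L_j : ∀ p ∈ L, Commute p j
  cross : ∀ p ∈ L, ∀ r ∈ L, Commute p (n * r * n⁻¹)
  meet : ∀ p ∈ L, ∀ r ∈ L, p = n * r * n⁻¹ → p = 1 ∨ p = j
  n_not : ∀ p ∈ L, ∀ r ∈ L, n ≠ p * (n * r * n⁻¹)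
  decomp : ∀ t, Commute t j → ∃ p ∈ L, ∃ r ∈ L, t = p * (n * r * n⁻¹) ∨ t = p * (n * r * n⁻¹) * n

/-- The element `(p, r)` of the central product. -/
def pairElt (n p r : G) : G := p * (n * r * n⁻¹)

namespace SwapPair

variable {L : Subgroup G} {j x w n : G} (D : SwapPair L j x w n)
include D

local notation "μ" => pairElt n

theorem jj : j * j = 1 := Involution.mul_self D.hj

theorem j_ne : j ≠ 1 := Involution.ne_one D.hj

theorem mul {p p' r r' : G} (hp' : p' ∈ L) (hr : r ∈ L) : μ p r * μ p' r' = μ (p * p') (r * r') := by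
  unfold pairElt
  calc p * (n * r * n⁻¹) * (p' * (n * r' * n⁻¹))
      = p * ((n * r * n⁻¹) * p') * (n * r' * n⁻¹) := by group
    _ = p * (p' * (n * r * n⁻¹)) * (n * r' * n⁻¹) := by rw [(D.cross p' hp' r hr).eq]
    _ = p * p' * (n * (r * r') * n⁻¹) := by group

theorem n_conj {p r : G} (hp : p ∈ L) (hr : r ∈ L) : n * μ p r * n⁻¹ = μ r p := by
  have h : n * n * r * (n * n)⁻¹ = r := by
    rw [D.n_sq, (D.L_j r hr).symm.eq, mul_inv_cancel_right]
  unfold pairElt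
  calc n * (p * (n * r * n⁻¹)) * n⁻¹ = n * p * n⁻¹ * (n * n * r * (n * n)⁻¹) := by group
    _ = n * p * n⁻¹ * r := by rw [h]
    _ = r * (n * p * n⁻¹) := (D.cross r hr p hp).eq.symm

theorem n_mul {p r : G} (hp : p ∈ L) (hr : r ∈ L) : n * μ p r = μ r p * n :=
  mul_inv_eq_iff_eq_mul.1 (D.n_conj hp hr)

theorem inv {p r : G} (hp : p ∈ L) (hr : r ∈ L) : (μ p r)⁻¹ = μ p⁻¹ r⁻¹ :=
  inv_eq_of_mul_eq_one_right (by rw [D.mul (L.inv_mem hp) hr]; simp [pairElt])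

theorem j_left : μ j 1 = j := by simp [pairElt]

theorem j_right : μ 1 j = j := by
  simp only [pairElt, one_mul]
  rw [D.n_j.eq, mul_inv_cancel_right]

theorem jj_one : μ j j = 1 := by
  rw [show μ j j = j * (n * j * n⁻¹) from rfl, D.n_j.eq, mul_inv_cancel_right, D.jj]

theorem eq_one {p r : G} (hp : p ∈ L) (hr : r ∈ L) (h : μ p r = 1) : p = 1 ∧ r = 1 ∨ p = j ∧ r = j := by
  have h1 : p = n * r⁻¹ * n⁻¹ := by
    rw [eq_comm, ← inv_eq_of_mul_eq_one_left (a := p) (b := n * r * n⁻¹) h]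
    group
  rcases D.meet p hp r⁻¹ (L.inv_mem hr) h1 with e | e
  · left
    refine ⟨e, ?_⟩
    rw [e, eq_comm, mul_inv_eq_one, mul_eq_left, inv_eq_one] at h1
    exact h1
  · right
    refine ⟨e, ?_⟩
    have h2 : r⁻¹ = j := by
      have : n⁻¹ * p * n = r⁻¹ := by rw [h1]; group
      rw [← this, e, mul_assoc, D.n_j.eq.symm, inv_mul_cancel_left]
    rw [← inv_inv r, h2, inv_eq_of_mul_eq_one_right D.jj]

theorem eq_iff {p r p' r' : G} (hp : p ∈ L) (hr : r ∈ L) (hp' : p' ∈ L) (hr' : r' ∈ L) (h : μ p r = μ p' r') :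
    p = p' ∧ r = r' ∨ p = j * p' ∧ r = j * r' := by
  have h1 : μ (p * p'⁻¹) (r * r'⁻¹) = 1 := by
    rw [← D.mul (L.inv_mem hp') hr, ← D.inv hp' hr', h, mul_inv_cancel]
  rcases D.eq_one (L.mul_mem hp (L.inv_mem hp')) (L.mul_mem hr (L.inv_mem hr')) h1 with ⟨a, b⟩ | ⟨a, b⟩
  · exact Or.inl ⟨mul_inv_eq_one.1 a, mul_inv_eq_one.1 b⟩
  · exact Or.inr ⟨mul_inv_eq_iff_eq_mul.1 a, mul_inv_eq_iff_eq_mul.1 b⟩

theorem comm_j {p r : G} (hp : p ∈ L) (hr : r ∈ L) : Commute (μ p r) j :=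
  (D.L_j p hp).mul_left ((D.n_j.mul_left (D.L_j r hr)).mul_left D.n_j.inv_left)

theorem sq_n {p r : G} (hp : p ∈ L) (hr : r ∈ L) :
    μ p r * n * (μ p r * n) = μ (j * (p * r)) (r * p) := by
  calc μ p r * n * (μ p r * n) = μ p r * (n * μ p r) * n := by group
    _ = μ p r * (μ r p * n) * n := by rw [D.n_mul hp hr]
    _ = μ (p * r) (r * p) * (n * n) := by rw [← D.mul hr hr]; group
    _ = μ (p * r) (r * p) * μ j 1 := by rw [D.n_sq, D.j_left]
    _ = μ (p * r * j) (r * p * 1) := D.mul D.jmem (L.mul_mem hr hp)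
    _ = _ := by rw [mul_one, ((D.L_j p hp).mul_left (D.L_j r hr)).eq]

theorem x_inv : x⁻¹ = j * x := inv_eq_of_mul_eq_one_right (by
  rw [← mul_assoc, (D.L_j x D.ff.x_mem).eq, mul_assoc, D.ff.x_sq, D.jj])

theorem x_ne : x ≠ 1 := fun h => D.j_ne (by rw [← D.ff.x_sq, h, one_mul])

theorem x_ne_j : x ≠ j := fun h => D.j_ne (by rw [← D.ff.x_sq, h, D.jj])

theorem x_ne_inv : x ≠ x⁻¹ := fun h => D.j_ne (by
  have := D.ff.x_sq
  nth_rewrite 1 [h] at this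
  rwa [inv_mul_cancel, eq_comm] at this)

theorem w_not_comm : ¬ Commute w x := fun h => D.x_ne_inv (by
  have := D.ff.w_conj
  rwa [h.eq, mul_inv_cancel_right] at this)

theorem w_conj' : w⁻¹ * x * w = x⁻¹ := by
  have h : w * x⁻¹ * w⁻¹ = x := by
    have h0 := congrArg (·⁻¹) D.ff.w_conj
    simpa [mul_assoc] using h0
  calc w⁻¹ * x * w = w⁻¹ * (w * x⁻¹ * w⁻¹) * w := by rw [h]
    _ = x⁻¹ := by group

theorem w_sq : w * w = j := by
  have hc : Commute (w * w) x := by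
    refine mul_inv_eq_iff_eq_mul.1 ?_
    calc w * w * x * (w * w)⁻¹ = w * (w * x * w⁻¹) * w⁻¹ := by group
      _ = w * x⁻¹ * w⁻¹ := by rw [D.ff.w_conj]
      _ = x := by
        have h0 := congrArg (·⁻¹) D.ff.w_conj
        simpa [mul_assoc] using h0
  have h1 := D.ff.inverts _ (L.mul_mem D.ff.w_mem D.ff.w_mem) hc
  rw [show w * (w * w) * w⁻¹ = w * w by group, eq_inv_iff_mul_eq_one] at h1
  refine (D.ff.unique _ (L.mul_mem D.ff.w_mem D.ff.w_mem) h1).resolve_left fun h => ?_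
  rcases D.ff.unique w D.ff.w_mem h with e | e
  · exact D.w_not_comm (e ▸ Commute.one_left x)
  · exact D.w_not_comm (e ▸ (D.L_j x D.ff.x_mem).symm)

/-- `pw * rw = j p r⁻¹`. -/
theorem w_prod {p r : G} (hp : p ∈ L) (hr : r ∈ L) (hrc : Commute r x) :
    p * w * (r * w) = j * (p * r⁻¹) := by
  have h := mul_inv_eq_iff_eq_mul.1 (D.ff.inverts r hr hrc)
  calc p * w * (r * w) = p * (w * r) * w := by group
    _ = p * r⁻¹ * (w * w) := by rw [h]; group
    _ = j * (p * r⁻¹) := by rw [D.w_sq, ((D.L_j p hp).mul_left (D.L_j r hr).inv_left).eq]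

theorem u_comm_j : Commute (μ x x) j := D.comm_j D.ff.x_mem D.ff.x_mem

theorem n_comm_u : Commute n (μ x x) := D.n_mul D.ff.x_mem D.ff.x_mem

theorem uu : μ x x * μ x x = 1 := by rw [D.mul D.ff.x_mem D.ff.x_mem, D.ff.x_sq, D.jj_one]

theorem u_ne : μ x x ≠ 1 := fun h => by
  rcases D.eq_one D.ff.x_mem D.ff.x_mem h with ⟨e, -⟩ | ⟨e, -⟩
  · exact D.x_ne e
  · exact D.x_ne_j e

theorem u_ne_j : μ x x ≠ j := fun h => by
  rw [← D.j_left] at h
  rcases D.eq_iff D.ff.x_mem D.ff.x_mem D.jmem L.one_mem h with ⟨e, -⟩ | ⟨e, -⟩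
  · exact D.x_ne_j e
  · exact D.x_ne (e.trans D.jj)

theorem conj_u {v : G} (hv : Commute v j) (h2 : v * v = 1) (h1 : v ≠ 1) (hvj : v ≠ j) :
    ∃ c, Commute c j ∧ c * v * c⁻¹ = μ x x := by
  obtain ⟨p, hp, r, hr, e | e⟩ := D.decomp v hv
  swap
  · exfalso
    subst e
    rw [show p * (n * r * n⁻¹) = μ p r from rfl, D.sq_n hp hr] at h2
    rcases D.eq_one (L.mul_mem D.jmem (L.mul_mem hp hr)) (L.mul_mem hr hp) h2 with ⟨a, b⟩ | ⟨a, b⟩
    · rw [mul_eq_one_comm.1 b, mul_one] at a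
      exact D.j_ne a
    · rw [mul_eq_one_comm.1 (mul_eq_left.1 a)] at b
      exact D.j_ne b.symm
  subst e
  rw [show p * (n * r * n⁻¹) = μ p r from rfl] at h2 h1 hvj ⊢
  rw [D.mul hp hr] at h2
  rcases D.eq_one (L.mul_mem hp hp) (L.mul_mem hr hr) h2 with ⟨a, b⟩ | ⟨a, b⟩
  · exfalso
    rcases D.ff.unique p hp a with e | e <;> rcases D.ff.unique r hr b with e' | e' <;> subst p r
    · exact h1 (by simp [pairElt])
    · exact hvj D.j_right
    · exact hvj D.j_left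
    · exact h1 D.jj_one
  · obtain ⟨g, hg, eg⟩ := D.ff.conj p hp a
    obtain ⟨g', hg', eg'⟩ := D.ff.conj r hr b
    refine ⟨μ g g', D.comm_j hg hg', ?_⟩
    rw [D.inv hg hg', D.mul hp hg', D.mul (L.inv_mem hg) (L.mul_mem hg' hr), eg, eg']

theorem centralizer_cases {t : G} (htj : Commute t j) (htu : Commute t (μ x x)) :
    ∃ p r, (p ∈ L ∧ Commute p x) ∧ (r ∈ L ∧ Commute r x) ∧
      (t = μ p r ∨ t = μ (p * w) (r * w) ∨ t = μ p r * n ∨ t = μ (p * w) (r * w) * n) := by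
  obtain ⟨p, hp, r, hr, hc⟩ := D.decomp t htj
  have hu : Commute (μ p r) (μ x x) := by
    rcases hc with e | e
    · rw [e] at htu; exact htu
    · have := htu.mul_left D.n_comm_u.inv_left
      rw [e, mul_inv_cancel_right] at this
      exact this
  have h := hu.eq
  rw [D.mul D.ff.x_mem hr, D.mul hp D.ff.x_mem] at h
  have hx := D.ff.x_mem
  rcases D.eq_iff (L.mul_mem hp hx) (L.mul_mem hr hx) (L.mul_mem hx hp) (L.mul_mem hx hr) h with ⟨a, b⟩ | ⟨a, b⟩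
  · refine ⟨p, r, ⟨hp, a⟩, ⟨hr, b⟩, ?_⟩
    rcases hc with e | e
    · exact Or.inl e
    · exact Or.inr (Or.inr (Or.inl e))
  · have key : ∀ q, q * x = j * (x * q) → Commute (q * w⁻¹) x := by
      intro q hq
      refine mul_inv_eq_iff_eq_mul.1 ?_
      calc q * w⁻¹ * x * (q * w⁻¹)⁻¹ = q * (w⁻¹ * x * w) * q⁻¹ := by group
        _ = q * x⁻¹ * q⁻¹ := by rw [D.w_conj']
        _ = x := by
          rw [← inv_inj, show (q * x⁻¹ * q⁻¹)⁻¹ = q * x * q⁻¹ by group, hq, D.x_inv, ← mul_assoc,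
            mul_inv_cancel_right]
    refine ⟨p * w⁻¹, r * w⁻¹, ⟨L.mul_mem hp (L.inv_mem D.ff.w_mem), key p a⟩,
      ⟨L.mul_mem hr (L.inv_mem D.ff.w_mem), key r b⟩, ?_⟩
    rw [inv_mul_cancel_right, inv_mul_cancel_right]
    rcases hc with e | e
    · exact Or.inr (Or.inl e)
    · exact Or.inr (Or.inr (Or.inr e))

/-- The square roots of `j * u` that matter. -/
theorem sqrt_cases {t : G} (htj : Commute t j) (htu : Commute t (μ x x)) (ht : t * t = μ (j * x) x) :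
    (∃ p r, (p ∈ L ∧ Commute p x) ∧ (r ∈ L ∧ Commute r x) ∧ t = μ p r) ∨
      ∃ p r, (p ∈ L ∧ Commute p x) ∧ (r ∈ L ∧ Commute r x) ∧ t = μ p r * n ∧ (p * r = x ∨ p * r = j * x) := by
  have hx := D.ff.x_mem
  have hjx : j * x ∈ L := L.mul_mem D.jmem hx
  obtain ⟨p, r, hp, hr, e | e | e | e⟩ := D.centralizer_cases htj htu
  · exact Or.inl ⟨p, r, hp, hr, e⟩
  · exfalso
    have hpw := L.mul_mem hp.1 D.ff.w_mem
    have hrw := L.mul_mem hr.1 D.ff.w_mem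
    rw [e, D.mul hpw hrw, D.w_prod hp.1 hp.1 hp.2, D.w_prod hr.1 hr.1 hr.2, mul_inv_cancel, mul_inv_cancel,
      mul_one, D.jj_one, ← D.jj_one] at ht
    rcases D.eq_iff D.jmem D.jmem hjx hx ht with ⟨-, b⟩ | ⟨-, b⟩
    · exact D.x_ne_j b.symm
    · exact D.x_ne (mul_eq_left.1 b.symm)
  · refine Or.inr ⟨p, r, hp, hr, e, ?_⟩
    rw [e, D.sq_n hp.1 hr.1, (D.ff.comm r hr.1 p hp.1 hr.2 hp.2).eq] at ht
    rcases D.eq_iff (L.mul_mem D.jmem (L.mul_mem hp.1 hr.1)) (L.mul_mem hp.1 hr.1) hjx hx ht with ⟨-, b⟩ | ⟨-, b⟩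
    · exact Or.inl b
    · exact Or.inr b
  · exfalso
    have hpw := L.mul_mem hp.1 D.ff.w_mem
    have hrw := L.mul_mem hr.1 D.ff.w_mem
    rw [e, D.sq_n hpw hrw, D.w_prod hp.1 hr.1 hr.2, D.w_prod hr.1 hp.1 hp.2, ← mul_assoc j j, D.jj, one_mul] at ht
    have hpr := L.mul_mem hp.1 (L.inv_mem hr.1)
    have hrp : r * p⁻¹ = (p * r⁻¹)⁻¹ := by group
    rw [hrp] at ht
    rcases D.eq_iff hpr (L.mul_mem D.jmem (L.inv_mem hpr)) hjx hx ht with ⟨a, b⟩ | ⟨a, b⟩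
    · rw [a, mul_inv_rev, inv_eq_of_mul_eq_one_right D.jj, (D.L_j x hx).inv_left.eq, ← mul_assoc, D.jj,
        one_mul] at b
      exact D.x_ne_inv b.symm
    · rw [← mul_assoc, D.jj, one_mul] at a
      rw [a, mul_right_inj] at b
      exact D.x_ne_inv b.symm

theorem not_swap [Finite G] {k : G} (hku : Commute k (μ x x)) (hkj : k * j * k⁻¹ = μ (j * x) x) : False := by
  classical
  have hx := D.ff.x_mem
  let R : G → Type _ := fun v => {t : G // Commute t j ∧ Commute t (μ x x) ∧ t * t = v}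
  let A : G → Prop := fun t => ∃ p r, (p ∈ L ∧ Commute p x) ∧ (r ∈ L ∧ Commute r x) ∧ t = μ p r
  have hAmul : ∀ s t, A s → A t → A (s * t) := by
    rintro s t ⟨p, r, hp, hr, rfl⟩ ⟨p', r', hp', hr', rfl⟩
    exact ⟨p * p', r * r', ⟨L.mul_mem hp.1 hp'.1, hp.2.mul_left hp'.2⟩,
      ⟨L.mul_mem hr.1 hr'.1, hr.2.mul_left hr'.2⟩, D.mul hp'.1 hr.1⟩
  have hAinv : ∀ s, A s → A s⁻¹ := by
    rintro s ⟨p, r, hp, hr, rfl⟩
    exact ⟨p⁻¹, r⁻¹, ⟨L.inv_mem hp.1, hp.2.inv_left⟩, ⟨L.inv_mem hr.1, hr.2.inv_left⟩, D.inv hp.1 hr.1⟩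
  have hAcomm : ∀ s t, A s → A t → Commute s t := by
    rintro s t ⟨p, r, hp, hr, rfl⟩ ⟨p', r', hp', hr', rfl⟩
    show μ p r * μ p' r' = μ p' r' * μ p r
    rw [D.mul hp'.1 hr.1, D.mul hp.1 hr'.1, (D.ff.comm p hp.1 p' hp'.1 hp.2 hp'.2).eq,
      (D.ff.comm r hr.1 r' hr'.1 hr.2 hr'.2).eq]
  have hAc : ∀ s, A s → Commute s j ∧ Commute s (μ x x) := by
    rintro s ⟨p, r, hp, hr, rfl⟩
    exact ⟨D.comm_j hp.1 hr.1, hAcomm _ _ ⟨p, r, hp, hr, rfl⟩ ⟨x, x, ⟨hx, .refl x⟩, ⟨hx, .refl x⟩, rfl⟩⟩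
  have hAx : A (μ x 1) := ⟨x, 1, ⟨hx, .refl x⟩, ⟨L.one_mem, .one_left x⟩, rfl⟩
  have hAx' : A (μ 1 x⁻¹) := ⟨1, x⁻¹, ⟨L.one_mem, .one_left x⟩, ⟨L.inv_mem hx, (Commute.refl x).inv_left⟩, rfl⟩
  have hnA : ∀ s, A s → ¬ A (s * n) := by
    intro s hs h
    obtain ⟨p, r, hp, hr, e⟩ := hAmul _ _ (hAinv _ hs) h
    rw [inv_mul_cancel_left] at e
    exact D.n_not p hp.1 r hr.1 e
  set τ : G := if h : ∃ t, A t ∧ t * t = μ (j * x) x then h.choose⁻¹ * μ x 1 else 1 with hτ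
  have hτA : A τ := by
    rw [hτ]
    split
    · next h => exact hAmul _ _ (hAinv _ h.choose_spec.1) hAx
    · exact ⟨1, 1, ⟨L.one_mem, .one_left x⟩, ⟨L.one_mem, .one_left x⟩, by simp [pairElt]⟩
  let f : G → G := fun t => if A t then t * τ else μ 1 x⁻¹ * t
  have hf : ∀ t : R (μ (j * x) x), Commute (f t.1) j ∧ Commute (f t.1) (μ x x) ∧ f t.1 * f t.1 = j := by
    rintro ⟨t, htj, htu, ht⟩
    show Commute (f t) j ∧ Commute (f t) (μ x x) ∧ f t * f t = j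
    simp only [f]
    split
    · next hA =>
      have hA' := hAmul _ _ hA hτA
      refine ⟨(hAc _ hA').1, (hAc _ hA').2, ?_⟩
      have hex : ∃ t, A t ∧ t * t = μ (j * x) x := ⟨t, hA, ht⟩
      obtain ⟨h0A, h0⟩ := hex.choose_spec
      rw [hτ, dif_pos hex]
      set t0 := hex.choose
      have hc := hAcomm _ _ (hAmul _ _ (hAinv _ h0A) hAx) hA
      calc t * (t0⁻¹ * μ x 1) * (t * (t0⁻¹ * μ x 1))
          = t * ((t0⁻¹ * μ x 1) * t) * (t0⁻¹ * μ x 1) := by group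
        _ = t * t * (t0⁻¹ * (μ x 1 * t0⁻¹) * μ x 1) := by rw [hc.eq]; group
        _ = t * t * ((t0 * t0)⁻¹ * (μ x 1 * μ x 1)) := by rw [(hAcomm _ _ hAx (hAinv _ h0A)).eq]; group
        _ = j := by rw [ht, h0, mul_inv_cancel_left, D.mul hx L.one_mem, D.ff.x_sq, mul_one, D.j_left]
    · next hA =>
      refine ⟨(hAc _ hAx').1.mul_left htj, (hAc _ hAx').2.mul_left htu, ?_⟩
      rcases D.sqrt_cases htj htu ht with h | ⟨p, r, hp, hr, rfl, hpr⟩
      · exact absurd h hA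
      rw [← mul_assoc (μ 1 x⁻¹), D.mul hp.1 (L.inv_mem hx), one_mul, D.sq_n hp.1 (L.mul_mem (L.inv_mem hx) hr.1)]
      have h1 : p * (x⁻¹ * r) = x⁻¹ * (p * r) := by
        rw [← mul_assoc, hp.2.inv_right.eq, mul_assoc]
      have h2 : x⁻¹ * r * p = x⁻¹ * (p * r) := by
        rw [mul_assoc, (D.ff.comm r hr.1 p hp.1 hr.2 hp.2).eq]
      rw [h1, h2]
      rcases hpr with e | e
      · rw [e, inv_mul_cancel, mul_one, D.j_left]
      · rw [e, ← mul_assoc x⁻¹, ((D.L_j x hx).inv_left).eq, mul_assoc, inv_mul_cancel, mul_one, D.jj, D.j_right]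
  let F : R (μ (j * x) x) → R j := fun t => ⟨f t.1, hf t⟩
  have hshape : ∀ t : R (μ (j * x) x), ¬ A t.1 →
      ∃ p r, (p ∈ L ∧ Commute p x) ∧ (r ∈ L ∧ Commute r x) ∧ f t.1 = μ p r * n := by
    rintro ⟨t, htj, htu, ht⟩ hA
    rcases D.sqrt_cases htj htu ht with h | ⟨p, r, hp, hr, e, -⟩
    · exact absurd h hA
    refine ⟨p, x⁻¹ * r, hp, ⟨L.mul_mem (L.inv_mem hx) hr.1, ((Commute.refl x).inv_left).mul_left hr.2⟩, ?_⟩
    show f t = _
    simp only [f]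
    rw [if_neg hA, e, ← mul_assoc, D.mul hp.1 (L.inv_mem hx), one_mul]
  have hFinj : Function.Injective F := by
    intro a b h
    have h' : f a.1 = f b.1 := congrArg Subtype.val h
    refine Subtype.ext ?_
    by_cases ha : A a.1 <;> by_cases hb : A b.1
    · simpa [f, ha, hb] using h'
    · obtain ⟨p, r, hp, hr, e⟩ := hshape b hb
      exfalso
      refine hnA _ ⟨p, r, hp, hr, rfl⟩ ?_
      rw [← e, ← h']
      simp only [f, if_pos ha]
      exact hAmul _ _ ha hτA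
    · obtain ⟨p, r, hp, hr, e⟩ := hshape a ha
      exfalso
      refine hnA _ ⟨p, r, hp, hr, rfl⟩ ?_
      rw [← e, h']
      simp only [f, if_pos hb]
      exact hAmul _ _ hb hτA
    · simpa [f, ha, hb] using h'
  have hw := D.ff.w_mem
  have hwsq : μ w w * n * (μ w w * n) = j := by
    rw [D.sq_n hw hw, D.w_sq, D.jj, D.j_right]
  have hwu : Commute (μ w w * n) (μ x x) := by
    refine Commute.mul_left (mul_inv_eq_iff_eq_mul.1 ?_) D.n_comm_u
    rw [D.inv hw hw, D.mul hx hw, D.mul (L.inv_mem hw) (L.mul_mem hw hx), D.ff.w_conj, D.x_inv,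
      ← D.mul hx D.jmem, D.jj_one, one_mul]
  let wit : R j := ⟨μ w w * n, (D.comm_j hw hw).mul_left D.n_j, hwu, hwsq⟩
  have hwit : ∀ t, F t ≠ wit := by
    intro t h
    have h' : f t.1 = μ w w * n := congrArg Subtype.val h
    by_cases ha : A t.1
    · simp only [f, if_pos ha] at h'
      obtain ⟨p, r, hp, hr, e⟩ := hAmul _ _ ha hτA
      rw [h'] at e
      refine D.n_not (w⁻¹ * p) (L.mul_mem (L.inv_mem hw) hp.1) (w⁻¹ * r) (L.mul_mem (L.inv_mem hw) hr.1) ?_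
      show n = μ (w⁻¹ * p) (w⁻¹ * r)
      rw [← D.mul hp.1 (L.inv_mem hw), ← D.inv hw hw, ← e, inv_mul_cancel_left]
    · obtain ⟨p, r, hp, hr, e⟩ := hshape t ha
      rw [h', mul_left_inj] at e
      rcases D.eq_iff hw hw hp.1 hr.1 e with ⟨a, -⟩ | ⟨a, -⟩
      · exact D.w_not_comm (a ▸ hp.2)
      · exact D.w_not_comm (a ▸ ((D.L_j x hx).symm.mul_left hp.2))
  -- conjugation by `k` goes back injectively
  have hkju : Commute (μ (j * x) x) (μ x x) := hAcomm _ _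
    ⟨j * x, x, ⟨L.mul_mem D.jmem hx, (D.L_j x hx).symm.mul_left (.refl x)⟩, ⟨hx, .refl x⟩, rfl⟩
    ⟨x, x, ⟨hx, .refl x⟩, ⟨hx, .refl x⟩, rfl⟩
  let K : R j → R (μ (j * x) x) := fun t => ⟨k * t.1 * k⁻¹, by
    have hu : k * μ x x * k⁻¹ = μ x x := by rw [hku.eq, mul_inv_cancel_right]
    have h1 : Commute (k * t.1 * k⁻¹) (μ x x) := by
      have h := t.2.2.1.map (MulAut.conj k).toMonoidHom
      rwa [show (MulAut.conj k).toMonoidHom (μ x x) = μ x x from hu] at h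
    have h2 : Commute (k * t.1 * k⁻¹) (μ (j * x) x) := by
      have h := t.2.1.map (MulAut.conj k).toMonoidHom
      rwa [show (MulAut.conj k).toMonoidHom j = μ (j * x) x from hkj] at h
    refine ⟨?_, h1, ?_⟩
    · have h3 : μ (j * x) x * (μ x x)⁻¹ = j := by
        rw [D.inv hx hx, D.mul (L.inv_mem hx) hx, mul_assoc, mul_inv_cancel, mul_one, D.j_left]
      exact (congrArg (Commute _) h3).mp (h2.mul_right h1.inv_right)
    · rw [show k * t.1 * k⁻¹ * (k * t.1 * k⁻¹) = k * (t.1 * t.1) * k⁻¹ by group, t.2.2.2, hkj]⟩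
  have hKinj : Function.Injective K := fun a b h => by
    have := congrArg Subtype.val h
    exact Subtype.ext (by simpa [K] using this)
  haveI : Finite (R j) := Subtype.finite
  obtain ⟨t, ht⟩ := (Finite.injective_iff_surjective.1 (hFinj.comp hKinj)) wit
  exact hwit _ ht

theorem isolated [Finite G] : IsIsolatedInvolution j := by
  refine ⟨D.hj, fun g hg => ?_⟩
  by_contra hne
  have hgen : ∀ g' : G, g' * j * g'⁻¹ * (g' * j * g'⁻¹) = 1 ∧ g' * j * g'⁻¹ ≠ 1 := fun g' =>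
    ⟨by rw [show g' * j * g'⁻¹ * (g' * j * g'⁻¹) = g' * (j * j) * g'⁻¹ by group, D.jj]; group,
     fun h => D.j_ne (conj_eq_one_iff.1 h)⟩
  obtain ⟨c, hcj, hc⟩ := D.conj_u hg.symm (hgen g).1 (hgen g).2 hne
  set h := c * g with hh
  have hu : h * j * h⁻¹ = μ x x := by rw [← hc, hh]; group
  have hv : Commute (h⁻¹ * j * h) j := by
    have h1 := (hu ▸ D.u_comm_j : Commute (h * j * h⁻¹) j).map (MulAut.conj h⁻¹).toMonoidHom
    simpa [mul_assoc] using h1.symm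
  obtain ⟨h2, h3⟩ := hgen h⁻¹
  rw [inv_inv] at h2 h3
  obtain ⟨c1, hc1j, hc1⟩ := D.conj_u hv h2 h3 fun e => D.u_ne_j (by
    rw [← hu]
    nth_rewrite 1 [← e]
    group)
  set h' := h * c1⁻¹ with hh'
  have e1 : h' * j * h'⁻¹ = μ x x := by
    rw [hh', ← hu]
    calc h * c1⁻¹ * j * (h * c1⁻¹)⁻¹ = h * (c1⁻¹ * j * c1) * h⁻¹ := by group
      _ = h * j * h⁻¹ := by rw [mul_assoc c1⁻¹, ← hc1j.eq, inv_mul_cancel_left]
  have e2 : h' * μ x x * h'⁻¹ = j := by rw [hh', ← hc1]; group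
  have hx := D.ff.x_mem
  have hju : j * μ x x = μ (j * x) x := by
    conv_lhs => rw [← D.j_left]
    rw [D.mul hx L.one_mem, one_mul]
  obtain ⟨c3, hc3j, hc3⟩ := D.conj_u (v := μ (j * x) x) (D.comm_j (L.mul_mem D.jmem hx) hx)
    (by rw [← hju, show j * μ x x * (j * μ x x) = j * (μ x x * j) * μ x x by group, D.u_comm_j.eq,
      ← mul_assoc j, D.jj, one_mul, D.uu])
    (by rw [← hju]; intro e; exact D.u_ne_j ((mul_eq_one_iff_inv_eq.1 e).symm.trans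
      (inv_eq_of_mul_eq_one_right D.jj)))
    (by rw [← hju]; intro e; exact D.u_ne (mul_eq_left.1 e))
  refine D.not_swap (k := h' * c3⁻¹ * h'⁻¹) ?_ ?_
  · rw [← e1]
    exact (hc3j.inv_left.map (MulAut.conj h').toMonoidHom)
  · calc h' * c3⁻¹ * h'⁻¹ * j * (h' * c3⁻¹ * h'⁻¹)⁻¹
        = h' * c3⁻¹ * (h'⁻¹ * j * h') * c3 * h'⁻¹ := by group
      _ = h' * c3⁻¹ * μ x x * c3 * h'⁻¹ := by rw [← e2]; group
      _ = h' * μ (j * x) x * h'⁻¹ := by rw [← hc3]; group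
      _ = (h' * j * h'⁻¹) * (h' * μ x x * h'⁻¹) := by rw [← hju]; group
      _ = μ x x * j := by rw [e1, e2]
      _ = μ (j * x) x := by rw [D.u_comm_j.eq, hju]

end SwapPair

universe u

/-- The statement S3211, modulo the unique involution case of the `Z*`-theorem. -/
theorem slPair_swap (hU : ZStarPrimePower.UniqueInvolutionZStar.{u}) {G : Type u} [Group G] [Finite G]
    {F₁ : Type*} [Field F₁] [Fintype F₁] (hF₁ : Odd (Fintype.card F₁)) (L₁ L₂ : Subgroup G)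
    (e₁ : ↥L₁ ≃* Matrix.SpecialLinearGroup (Fin 2) F₁) (hc : ∀ x ∈ L₁, ∀ y ∈ L₂, x * y = y * x) (j : G)
    (hj : orderOf j = 2) (hm : L₁ ⊓ L₂ = Subgroup.zpowers j)
    (hle : L₁ ⊔ L₂ ≤ Subgroup.centralizer ({j} : Set G))
    (hi : (L₁ ⊔ L₂).relIndex (Subgroup.centralizer ({j} : Set G)) = 2) (n : G)
    (hn : n ∈ Subgroup.centralizer ({j} : Set G)) (hn2 : n ^ 2 = j)
    (hswap : L₁.map (MulAut.conj n).toMonoidHom = L₂) :
    Subgroup.centralizer ({j} : Set G) ⊔ oddCore G = ⊤ := by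
  have h2 : ringChar F₁ ≠ 2 := fun h => (Nat.not_even_iff_odd.mpr hF₁)
    (Nat.even_iff.mpr (FiniteField.even_card_of_char_two h))
  have hjL : j ∈ L₁ := (hm.ge (Subgroup.mem_zpowers j)).1
  have hj2 : j * j = 1 := Involution.mul_self hj
  have hzp : ∀ y ∈ Subgroup.zpowers j, y = 1 ∨ y = j := by
    intro y hy
    obtain ⟨i, rfl⟩ := Subgroup.mem_zpowers_iff.1 hy
    rw [← zpow_mod_orderOf, hj]
    rcases Int.emod_two_eq i with h | h <;> simp [h]
  obtain ⟨x, w, ff⟩ := exists_fourFacts L₁ e₁ h2 j hjL (Involution.ne_one hj) hj2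
  have hcj : ∀ t, t ∈ Subgroup.centralizer ({j} : Set G) → Commute t j := fun t ht =>
    Subgroup.mem_centralizer_singleton_iff.1 ht
  have hn_j : Commute n j := hcj n hn
  have hmemL₂ : ∀ r ∈ L₁, n * r * n⁻¹ ∈ L₂ := fun r hr => hswap ▸ ⟨r, hr, rfl⟩
  have hsub : ∀ t ∈ L₁ ⊔ L₂, ∃ p ∈ L₁, ∃ r ∈ L₁, t = p * (n * r * n⁻¹) := by
    intro t ht
    have hn' : L₁ ≤ Subgroup.normalizer (L₂ : Set G) :=
      fun a ha => Subgroup.centralizer_le_normalizer _ fun b hb => (hc a ha b hb).symm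
    rw [← SetLike.mem_coe, Subgroup.coe_mul_of_left_le_normalizer_right _ _ hn'] at ht
    obtain ⟨p, hp, b, hb, rfl⟩ := ht
    rw [← hswap] at hb
    obtain ⟨r, hr, rfl⟩ := hb
    exact ⟨p, hp, r, hr, rfl⟩
  have hnot : n ∉ L₁ ⊔ L₂ := by
    intro h
    obtain ⟨p, hp, r, hr, e⟩ := hsub n h
    have hC : n * x * n⁻¹ = p * x * p⁻¹ := by
      have hb : Commute (n * r * n⁻¹) x := (hc x ff.x_mem _ (hmemL₂ r hr)).symm
      rw [e]
      set b := n * r * n⁻¹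
      rw [show p * b * x * (p * b)⁻¹ = p * (b * x * b⁻¹) * p⁻¹ by group, hb.eq, mul_inv_cancel_right]
    have h1 : p * x * p⁻¹ ∈ L₁ ⊓ L₂ := ⟨L₁.mul_mem (L₁.mul_mem hp ff.x_mem) (L₁.inv_mem hp),
      hC ▸ hmemL₂ x ff.x_mem⟩
    rw [hm] at h1
    have h3 : p * x * p⁻¹ * (p * x * p⁻¹) = 1 := by
      rcases hzp _ h1 with e | e <;> rw [e]
      · exact one_mul 1
      · exact hj2
    rw [show p * x * p⁻¹ * (p * x * p⁻¹) = p * (x * x) * p⁻¹ by group, ff.x_sq, conj_eq_one_iff] at h3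
    exact Involution.ne_one hj h3
  have D : SwapPair L₁ j x w n :=
    { ff := ff
      hj := hj
      jmem := hjL
      n_j := hn_j
      n_sq := by rw [← pow_two]; exact hn2
      L_j := fun p hp => hcj p (hle (Subgroup.mem_sup_left hp))
      cross := fun p hp r hr => hc p hp _ (hmemL₂ r hr)
      meet := fun p hp r hr e => hzp p (hm ▸ ⟨hp, e ▸ hmemL₂ r hr⟩)
      n_not := fun p hp r hr e => hnot (e ▸ Subgroup.mul_mem_sup hp (hmemL₂ r hr))
      decomp := fun t ht => by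
        have htC : t ∈ Subgroup.centralizer ({j} : Set G) := Subgroup.mem_centralizer_singleton_iff.2 ht
        by_cases hts : t ∈ L₁ ⊔ L₂
        · obtain ⟨p, hp, r, hr, e⟩ := hsub t hts
          exact ⟨p, hp, r, hr, Or.inl e⟩
        · have h := (Subgroup.mul_mem_iff_of_index_two hi (a := ⟨t, htC⟩) (b := (⟨n, hn⟩)⁻¹))
          rw [inv_mem_iff] at h
          have h' : t * n⁻¹ ∈ L₁ ⊔ L₂ := Subgroup.mem_subgroupOf.1 (h.2 ⟨fun a => absurd a hts, fun a => absurd a hnot⟩)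
          obtain ⟨p, hp, r, hr, e⟩ := hsub _ h'
          exact ⟨p, hp, r, hr, Or.inr (by rw [← e, inv_mul_cancel_right])⟩ }
  rw [eq_top_iff]
  intro g _
  set O := oddCore G
  set t := g * j * g⁻¹ with ht
  have hs : j * t ∈ O := by
    have := zStar_of_brauerSuzuki hU D.isolated g
    rw [inv_eq_of_mul_eq_one_right hj2] at this
    rwa [ht, show j * (g * j * g⁻¹) = j * g * j * g⁻¹ by group]
  set s := j * t with hsdef
  have ht2 : t * t = 1 := by rw [ht, show g * j * g⁻¹ * (g * j * g⁻¹) = g * (j * j) * g⁻¹ by group, hj2]; group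
  obtain ⟨m, hm'⟩ : Odd (orderOf s) := Odd.of_dvd_nat
    (Nat.coprime_two_right.1 (Cores.coprime_card_pPrimeCore 2)) (Subgroup.orderOf_dvd_natCard O hs)
  have hsm : s ^ (2 * m + 1) = 1 := hm' ▸ pow_orderOf_eq_one s
  have hjs : ∀ i : ℕ, j * s ^ i = (s ^ i)⁻¹ * j := by
    intro i
    have h1 : j * s * j⁻¹ = s⁻¹ := by
      rw [inv_eq_of_mul_eq_one_right hj2, hsdef, mul_inv_rev, inv_eq_of_mul_eq_one_right hj2,
        inv_eq_of_mul_eq_one_right ht2, ← mul_assoc j j, hj2, one_mul]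
    have h2 : j * s ^ i * j⁻¹ = (s ^ i)⁻¹ := by rw [← conj_pow, h1, inv_pow]
    exact mul_inv_eq_iff_eq_mul.1 h2
  have hts : t = j * s := by rw [hsdef, ← mul_assoc, hj2, one_mul]
  have hgC : (s ^ m)⁻¹ * g ∈ Subgroup.centralizer ({j} : Set G) := by
    refine Subgroup.mem_centralizer_singleton_iff.2 (mul_inv_eq_iff_eq_mul.1 ?_)
    calc (s ^ m)⁻¹ * g * j * ((s ^ m)⁻¹ * g)⁻¹ = (s ^ m)⁻¹ * (t * s ^ m) := by rw [ht]; group
      _ = (s ^ m)⁻¹ * (j * s ^ (m + 1)) := by rw [hts, mul_assoc, ← pow_succ']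
      _ = (s ^ (m + 1) * s ^ m)⁻¹ * j := by rw [hjs, mul_inv_rev, mul_assoc]
      _ = j := by rw [← pow_add, show m + 1 + m = 2 * m + 1 by ring, hsm, inv_one, one_mul]
  rw [show g = s ^ m * ((s ^ m)⁻¹ * g) by rw [mul_inv_cancel_left]]
  exact Subgroup.mul_mem _ (Subgroup.mem_sup_right (O.pow_mem hs m)) (Subgroup.mem_sup_left hgC)

end Cfsg.Agent.ZStar
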