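import Cfsg.Agent.Lib.ZStar.Apply
import Cfsg.Agent.Lib.ZStar.Unique
import Cfsg.Agent.Lib.Coprime.Basic

/-!
# A nonabelian 2-group `Q` acting with `C_N(Q) = C_N(t)` (helper23)

`t` is a central commutator of the 2-group `Q`, `G = Q N` with `N` normal, `Q ∩ N = 1`.

* `isolated_of_shared_centralizer`: `t` is isolated in `G`
* `commutator_le_oddCore`: `⁅N, Q⁆ ≤ O(G)` (Glauberman `Z*`)
* `sharedCentralizer_conclusion`: `⁅N, Q⁆` is of odd order, and solvable if groups of odd order are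
-/

set_option autoImplicit false
set_option linter.style.haveILetI false

open Cfsg Subgroup
open scoped Pointwise commutatorElement

namespace Cfsg.Agent.ZStar

universe u

variable {G : Type u} [Group G] [Finite G]

theorem isolated_of_shared_centralizer (N Q : Subgroup G) [N.Normal] (hG : Q ⊔ N = ⊤) (t : G)
    (htZ : t ∈ Q ⊓ centralizer (Q : Set G)) (htQ : t ∈ ⁅Q, Q⁆)
    (hC : N ⊓ centralizer (Q : Set G) = N ⊓ centralizer ({t} : Set G)) : IsIsolated t := by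
  intro g hg
  obtain ⟨n, hn, q₀, hq₀, rfl⟩ : ∃ n ∈ N, ∃ q ∈ Q, n * q = g :=
    mem_sup_of_normal_left.1 (show g ∈ N ⊔ Q by rw [sup_comm, hG]; exact mem_top g)
  have hqt : ∀ q ∈ Q, q * t = t * q := fun q hq => mem_centralizer_iff.1 htZ.2 q hq
  have e0 : n * q₀ * t * (n * q₀)⁻¹ = n * t * n⁻¹ := by
    calc n * q₀ * t * (n * q₀)⁻¹ = n * (q₀ * t) * q₀⁻¹ * n⁻¹ := by group
      _ = _ := by rw [hqt q₀ hq₀]; group
  rw [e0] at hg ⊢
  set t' := n * t * n⁻¹ with ht'
  set C := N ⊓ centralizer (Q : Set G) with hCdef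
  have hCmem : ∀ {x : G}, x ∈ N → x * t = t * x → x ∈ C := fun hx h => by
    rw [hC]; exact Subgroup.mem_inf.2 ⟨hx, mem_centralizer_singleton_iff.2 h⟩
  have hCQ : ∀ {x q : G}, x ∈ C → q ∈ Q → q * x = x * q := fun hx hq => mem_centralizer_iff.1 hx.2 _ hq
  have hs : t⁻¹ * t' ∈ C := by
    refine hCmem ?_ ((Commute.refl t).inv_left.mul_left hg.symm).eq
    rw [ht', show t⁻¹ * (n * t * n⁻¹) = (t⁻¹ * n * t⁻¹⁻¹) * n⁻¹ by group]
    exact mul_mem (Subgroup.Normal.conj_mem inferInstance n hn t⁻¹) (inv_mem hn)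
  -- `Q` centralizes `t'`
  have hqt' : ∀ q ∈ Q, Commute q t' := fun q hq => by
    have h1 : Commute q (t * (t⁻¹ * t')) := Commute.mul_right (hqt q hq) (hCQ hs hq)
    rwa [mul_inv_cancel_left] at h1
  set d : G → G := fun q => n * q * n⁻¹ * q⁻¹ with hd
  have hdN : ∀ q, d q ∈ N := fun q => by
    rw [hd]; dsimp only
    rw [show n * q * n⁻¹ * q⁻¹ = n * (q * n⁻¹ * q⁻¹) by group]
    exact mul_mem hn (Subgroup.Normal.conj_mem inferInstance _ (inv_mem hn) q)
  -- conjugates of `Q` by `n` commute with `t`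
  have hnq : ∀ q ∈ Q, Commute (n * q * n⁻¹) t' := fun q hq => by
    show n * q * n⁻¹ * (n * t * n⁻¹) = n * t * n⁻¹ * (n * q * n⁻¹)
    calc n * q * n⁻¹ * (n * t * n⁻¹) = n * (q * t) * n⁻¹ := by group
      _ = n * (t * q) * n⁻¹ := by rw [hqt q hq]
      _ = _ := by group
  have hnq' : ∀ q ∈ Q, Commute (n * q * n⁻¹) t := by
    intro q hq
    have h1 : Commute t (n⁻¹ * t * n) := by
      have e : n⁻¹ * (t * t') * n = n⁻¹ * (t' * t) * n := by rw [hg.eq]
      rw [ht'] at e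
      show t * (n⁻¹ * t * n) = n⁻¹ * t * n * t
      calc t * (n⁻¹ * t * n) = n⁻¹ * (n * t * n⁻¹ * t) * n := by group
        _ = n⁻¹ * (t * (n * t * n⁻¹)) * n := by rw [← e]
        _ = _ := by group
    have hs' : t⁻¹ * (n⁻¹ * t * n) ∈ C := by
      refine hCmem ?_ ((Commute.refl t).inv_left.mul_left h1.symm).eq
      rw [show t⁻¹ * (n⁻¹ * t * n) = (t⁻¹ * n⁻¹ * t⁻¹⁻¹) * n by group]
      exact mul_mem (Subgroup.Normal.conj_mem inferInstance _ (inv_mem hn) t⁻¹) hn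
    have h2 : Commute q (t * (t⁻¹ * (n⁻¹ * t * n))) := Commute.mul_right (hqt q hq) (hCQ hs' hq)
    rw [mul_inv_cancel_left] at h2
    show n * q * n⁻¹ * t = t * (n * q * n⁻¹)
    calc n * q * n⁻¹ * t = n * (q * (n⁻¹ * t * n)) * n⁻¹ := by group
      _ = n * (n⁻¹ * t * n * q) * n⁻¹ := by rw [h2.eq]
      _ = _ := by group
  have hdC : ∀ q ∈ Q, d q ∈ C := fun q hq =>
    hCmem (hdN q) ((hnq' q hq).mul_left (Commute.inv_left (hqt q hq))).eq
  have hdt' : ∀ q ∈ Q, Commute (d q) t' := fun q hq => (hnq q hq).mul_left (hqt' q hq).inv_left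
  have hdd : ∀ q ∈ Q, ∀ q' ∈ Q, Commute (d q) (d q') := by
    intro q hq q' hq'
    -- `d q` centralizes `n Q n⁻¹`
    have h1 : Commute (d q) (n * q' * n⁻¹) := by
      have h0 : n⁻¹ * d q * n ∈ C := by
        refine hCmem (by simpa using! Subgroup.Normal.conj_mem inferInstance _ (hdN q) n⁻¹) ?_
        calc n⁻¹ * d q * n * t = n⁻¹ * (d q * t') * n := by rw [ht']; group
          _ = n⁻¹ * (t' * d q) * n := by rw [(hdt' q hq).eq]
          _ = _ := by rw [ht']; group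
      show d q * (n * q' * n⁻¹) = n * q' * n⁻¹ * d q
      calc d q * (n * q' * n⁻¹) = n * ((n⁻¹ * d q * n) * q') * n⁻¹ := by group
        _ = n * (q' * (n⁻¹ * d q * n)) * n⁻¹ := by rw [hCQ h0 hq']
        _ = _ := by group
    have h2 : Commute (d q) q' := (hCQ (hdC q hq) hq').symm
    exact h1.mul_right h2.inv_right
  let f : Q →* G :=
    { toFun := fun q => d q
      map_one' := by simp [hd]
      map_mul' := fun a b => by
        show d ((a : G) * b) = d a * d b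
        have e : d ((a : G) * b) = d a * ((a : G) * d b * (a : G)⁻¹) := by rw [hd]; dsimp only; group
        rw [e, hCQ (hdC b b.2) a.2, mul_inv_cancel_right] }
  have hf : ∀ x ∈ ⁅Q, Q⁆, d x = 1 := by
    intro x hx
    have hle : ⁅Q, Q⁆ ≤ f.ker.map Q.subtype := by
      rw [commutator_le]
      intro a ha b hb
      refine ⟨⁅(⟨a, ha⟩ : Q), ⟨b, hb⟩⁆, ?_, ?_⟩
      · rw [SetLike.mem_coe, MonoidHom.mem_ker, map_commutatorElement]
        exact commutatorElement_eq_one_iff_mul_comm.2 (hdd a ha b hb).eq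
      · rfl
    obtain ⟨y, hy, rfl⟩ := hle hx
    exact hy
  have := hf t htQ
  rwa [hd, mul_inv_eq_one] at this

theorem commutator_le_oddCore (N Q : Subgroup G) [N.Normal] (hG : Q ⊔ N = ⊤) (hQ : IsPGroup 2 Q) (t : G)
    (htZ : t ∈ Q ⊓ centralizer (Q : Set G)) (htQ : t ∈ ⁅Q, Q⁆)
    (hC : N ⊓ centralizer (Q : Set G) = N ⊓ centralizer ({t} : Set G)) :
    ⁅N, Q⁆ ≤ pPrimeCore 2 G := by
  set O := pPrimeCore 2 G
  haveI : O.Normal := Cores.pPrimeCore_normal 2 G
  obtain ⟨k, hk⟩ : ∃ k, orderOf t = 2 ^ k := by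
    have : Fact (Nat.Prime 2) := ⟨Nat.prime_two⟩
    obtain ⟨k, hk⟩ := (IsPGroup.iff_orderOf.1 hQ) ⟨t, htZ.1⟩
    exact ⟨k, by rwa [Subgroup.orderOf_mk] at hk⟩
  have hstar := zStar_pElement uniqueInvolution ⟨k, hk⟩ (isolated_of_shared_centralizer N Q hG t htZ htQ hC)
  have hcop : (Nat.card (zpowers t)).Coprime (Nat.card O) := by
    rw [Nat.card_zpowers, hk]
    exact Nat.Coprime.pow_left _ (Cores.coprime_card_pPrimeCore (G := G) 2).symm
  set M := O ⊓ N with hM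
  haveI : M.Normal := Subgroup.normal_inf_normal O N
  have hcopM : (Nat.card (zpowers t)).Coprime (Nat.card M) :=
    hcop.coprime_dvd_right (Subgroup.card_dvd_of_le inf_le_left)
  rw [commutator_le]
  intro n hn q hq
  have hnt : n * t * n⁻¹ * t⁻¹ ∈ M := Subgroup.mem_inf.2 ⟨hstar n, by
    rw [show n * t * n⁻¹ * t⁻¹ = n * (t * n⁻¹ * t⁻¹) by group]
    exact mul_mem hn (Subgroup.Normal.conj_mem inferInstance _ (inv_mem hn) t)⟩
  -- correct `n` by an element of `O ⊓ N`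
  have hle : zpowers (n * t * n⁻¹) ≤ M ⊔ zpowers t := by
    rw [zpowers_le, show n * t * n⁻¹ = (n * t * n⁻¹ * t⁻¹) * t by group]
    exact mul_mem (mem_sup_left hnt) (mem_sup_right (mem_zpowers t))
  have hcard : Nat.card (zpowers (n * t * n⁻¹)) = Nat.card (zpowers t) := by
    rw [Nat.card_zpowers, Nat.card_zpowers, ← MulAut.conj_apply, MulEquiv.orderOf_eq]
  obtain ⟨o, ho, he⟩ := Coprime.exists_conj_eq_of_le_sup (fun x _ => by rw [normalizer_eq_top M]; exact mem_top x)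
    hcopM (Or.inl inferInstance) hle hcard
  obtain ⟨i, hi⟩ : ∃ i : ℤ, n * t * n⁻¹ = o * t ^ i * o⁻¹ := by
    have h0 : n * t * n⁻¹ ∈ MulAut.conj o • zpowers t := he ▸ mem_zpowers _
    obtain ⟨x, hx, e⟩ := Subgroup.mem_smul_pointwise_iff_exists _ _ _ |>.1 h0
    obtain ⟨i, rfl⟩ := mem_zpowers_iff.1 hx
    exact ⟨i, e.symm⟩
  set π := QuotientGroup.mk' M with hπ
  have hπo : π o = 1 := (QuotientGroup.eq_one_iff o).2 ho
  have h1 : π (t ^ i * t⁻¹) = 1 := by
    have h2 : π (n * t * n⁻¹ * t⁻¹) = 1 := (QuotientGroup.eq_one_iff _).2 hnt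
    rw [hi, map_mul, map_mul, map_mul, map_inv, hπo, one_mul, inv_one, mul_one] at h2
    rw [map_mul]; exact h2
  have hti : t ^ i = t := by
    have hm : t ^ i * t⁻¹ ∈ zpowers t ⊓ M :=
      Subgroup.mem_inf.2 ⟨mul_mem (zpow_mem (mem_zpowers t) i) (inv_mem (mem_zpowers t)), (QuotientGroup.eq_one_iff _).1 h1⟩
    rw [(inf_eq_bot_of_coprime hcopM : zpowers t ⊓ M = ⊥), Subgroup.mem_bot] at hm
    exact mul_inv_eq_one.1 hm
  rw [hti] at hi
  set c := o⁻¹ * n with hc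
  have hct : c * t = t * c := by
    calc c * t = o⁻¹ * (n * t * n⁻¹) * n := by rw [hc]; group
      _ = o⁻¹ * (o * t * o⁻¹) * n := by rw [hi]
      _ = _ := by rw [hc]; group
  have hcC : c ∈ N ⊓ centralizer (Q : Set G) := by
    rw [hC]
    exact Subgroup.mem_inf.2 ⟨mul_mem (inv_mem ho.2) hn, mem_centralizer_singleton_iff.2 hct⟩
  have hmem : ⁅n, q⁆ ∈ M := by
    refine (QuotientGroup.eq_one_iff _).1 ?_
    show π ⁅n, q⁆ = 1
    rw [show n = o * c by rw [hc]; group, map_commutatorElement, map_mul, hπo, one_mul,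
      ← map_commutatorElement, commutatorElement_eq_one_iff_mul_comm.2 (mem_centralizer_iff.1 hcC.2 q hq).symm,
      map_one]
  exact hmem.1

/-- The conclusion, given the solvability of groups of odd order. -/
theorem sharedCentralizer_conclusion (hodd : ∀ (H : Type u) [Group H] [Finite H], Odd (Nat.card H) → Group.IsSolvable H)
    (N Q : Subgroup G) [N.Normal] (hG : Q ⊔ N = ⊤) (hQ : IsPGroup 2 Q) (t : G)
    (htZ : t ∈ Q ⊓ centralizer (Q : Set G)) (htQ : t ∈ ⁅Q, Q⁆)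
    (hC : N ⊓ centralizer (Q : Set G) = N ⊓ centralizer ({t} : Set G)) :
    Group.IsSolvable ↥⁅N, Q⁆ ∧ Odd (Nat.card ↥⁅N, Q⁆) := by
  have hle := commutator_le_oddCore N Q hG hQ t htZ htQ hC
  have ho : Odd (Nat.card ↥⁅N, Q⁆) := by
    have h2 : Odd (Nat.card (pPrimeCore 2 G)) :=
      Nat.Coprime.odd_of_left ((Cores.coprime_card_pPrimeCore (G := G) 2).symm)
    obtain ⟨k, hk⟩ := Subgroup.card_dvd_of_le hle
    rw [hk] at h2
    exact Nat.Odd.of_mul_left h2
  exact ⟨hodd _ ho, ho⟩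

end Cfsg.Agent.ZStar
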